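import Mathlib.GroupTheory.Sylow
import Mathlib.GroupTheory.Nilpotent
import Mathlib.GroupTheory.Solvable
import Mathlib.GroupTheory.IsSubnormal
import Mathlib.GroupTheory.IsPerfect
import Mathlib.GroupTheory.GroupAction.ConjAct
import Mathlib.GroupTheory.NoncommPiCoprod
import Mathlib.Tactic
import Cfsg.Prelude.Def_Local
import Cfsg.Agent.H60.Cores

/-!
# Radicals (helper27)

A generic "radical" `rad Q G`: the join of the normal subgroups of `G` satisfying a group property
`Q`.  The `p`-core, the `p'`-core and the Fitting subgroup of the Prelude are instances.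
Main results: radicals are characteristic, `radIn Q H ≤ rad Q G` for subnormal `H` (finite `G`,
`Q` closed under the radical), the Fitting subgroup of a finite group is nilpotent and equals the
join of the `p`-cores.
-/

set_option autoImplicit false

namespace Cfsg.Agent.H27

open Cfsg

universe u

/-- The join of all normal subgroups satisfying `Q`. -/
def rad (Q : ∀ (K : Type u) [Group K], Prop) (G : Type u) [Group G] : Subgroup G :=
  sSup {N : Subgroup G | N.Normal ∧ Q N}

/-- The radical of a subgroup, viewed in the ambient group. -/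
def radIn (Q : ∀ (K : Type u) [Group K], Prop) {G : Type u} [Group G] (H : Subgroup G) :
    Subgroup G :=
  (rad Q H).map H.subtype

/-- `Q` is invariant under isomorphism. -/
def IsoInv (Q : ∀ (K : Type u) [Group K], Prop) : Prop :=
  ∀ (K K' : Type u) [Group K] [Group K'], (K ≃* K') → Q K → Q K'

theorem pCore_eq_rad (p : ℕ) (G : Type u) [Group G] :
    Cfsg.pCore p G = rad (fun K _ => IsPGroup p K) G := rfl

theorem pPrimeCore_eq_rad (p : ℕ) (G : Type u) [Group G] :
    Cfsg.pPrimeCore p G = rad (fun K _ => (Nat.card K).Coprime p) G := rfl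

theorem fitting_eq_rad (G : Type u) [Group G] :
    Cfsg.fittingSubgroup G = rad (fun K _ => Group.IsNilpotent K) G := rfl

theorem isoInv_pGroup (p : ℕ) : IsoInv (fun K _ => IsPGroup p K) :=
  fun _ _ _ _ e h => h.of_equiv e

theorem isoInv_coprime (p : ℕ) : IsoInv (fun K _ => (Nat.card K).Coprime p) := by
  intro K K' _ _ e h
  have : Nat.card K' = Nat.card K := (Nat.card_congr e.toEquiv).symm
  show (Nat.card K').Coprime p
  rw [this]; exact h

theorem isoInv_nilpotent : IsoInv (fun K _ => Group.IsNilpotent K) :=
  fun _ _ _ _ e h => (Group.isNilpotent_congr e).1 h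

section

variable {Q : ∀ (K : Type u) [Group K], Prop}

instance rad_normal (G : Type u) [Group G] : (rad Q G).Normal :=
  Subgroup.sSup_normal _ (fun _ h => h.1)

theorem le_rad {G : Type u} [Group G] {N : Subgroup G} (hn : N.Normal) (hQ : Q N) :
    N ≤ rad Q G :=
  le_sSup ⟨hn, hQ⟩

theorem rad_map_equiv_le (hQ : IsoInv Q) {K K' : Type u} [Group K] [Group K'] (e : K ≃* K') :
    (rad Q K).map e.toMonoidHom ≤ rad Q K' := by
  rw [Subgroup.map_le_iff_le_comap]
  apply sSup_le
  rintro N ⟨hN, hQN⟩
  rw [← Subgroup.map_le_iff_le_comap]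
  refine le_rad (hN.map _ e.surjective) ?_
  exact hQ _ _ (N.equivMapOfInjective e.toMonoidHom e.injective) hQN

theorem rad_map_equiv (hQ : IsoInv Q) {K K' : Type u} [Group K] [Group K'] (e : K ≃* K') :
    (rad Q K).map e.toMonoidHom = rad Q K' := by
  apply le_antisymm (rad_map_equiv_le hQ e)
  have h := rad_map_equiv_le hQ e.symm
  have h2 := Subgroup.map_mono (f := e.toMonoidHom) h
  rw [Subgroup.map_map] at h2
  have h3 : e.toMonoidHom.comp e.symm.toMonoidHom = MonoidHom.id K' := by
    ext x; simp
  rw [h3, Subgroup.map_id] at h2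
  exact h2

theorem rad_characteristic (hQ : IsoInv Q) (G : Type u) [Group G] : (rad Q G).Characteristic :=
  Subgroup.characteristic_iff_map_eq.2 (fun ϕ => rad_map_equiv hQ ϕ)

theorem radIn_le {G : Type u} [Group G] (H : Subgroup G) : radIn Q H ≤ H := by
  rintro _ ⟨x, -, rfl⟩
  exact x.2

theorem radIn_map_of_injective (hQ : IsoInv Q) {G G' : Type u} [Group G] [Group G'] (f : G →* G')
    (hf : Function.Injective f) (H : Subgroup G) : (radIn Q H).map f = radIn Q (H.map f) := by
  unfold radIn
  rw [← rad_map_equiv hQ (H.equivMapOfInjective f hf), Subgroup.map_map, Subgroup.map_map]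
  congr 1

theorem radIn_normal (hQ : IsoInv Q) {G : Type u} [Group G] (N : Subgroup G) [N.Normal] :
    (radIn Q N).Normal := by
  have := rad_characteristic hQ N
  exact ConjAct.normal_of_characteristic_of_normal

theorem radIn_conj (hQ : IsoInv Q) {G : Type u} [Group G] (H : Subgroup G) (g : G) :
    radIn Q (H.map (MulAut.conj g).toMonoidHom) = (radIn Q H).map (MulAut.conj g).toMonoidHom :=
  (radIn_map_of_injective hQ _ (MulAut.conj g).injective H).symm

theorem radIn_top (hQ : IsoInv Q) (G : Type u) [Group G] : radIn Q (⊤ : Subgroup G) = rad Q G := by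
  have h := rad_map_equiv hQ (Subgroup.topEquiv (G := G))
  unfold radIn
  rw [← h]
  congr 1

/-- `Q` holds for the radical of every finite group. -/
def RadClosed (Q : ∀ (K : Type u) [Group K], Prop) : Prop :=
  ∀ (K : Type u) [Group K] [Finite K], Q ↥(rad Q K)

theorem radIn_le_of_normal (hQ : IsoInv Q) (hcl : RadClosed Q) {G : Type u} [Group G] [Finite G]
    (N : Subgroup G) [N.Normal] : radIn Q N ≤ rad Q G := by
  refine le_rad (radIn_normal hQ N) ?_
  exact hQ _ _ ((rad Q N).equivMapOfInjective N.subtype N.subtype_injective) (hcl N)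

theorem radIn_le_of_subnormal (hQ : IsoInv Q) (hcl : RadClosed Q) {G : Type u} [Group G]
    [Finite G] {H : Subgroup G} (hH : H.IsSubnormal) : radIn Q H ≤ rad Q G := by
  induction hH with
  | top => exact radIn_le_of_normal hQ hcl ⊤
  | step H K hle hK hn ih =>
    refine le_trans ?_ ih
    have h1 : radIn Q (H.subgroupOf K) ≤ rad Q K := radIn_le_of_normal hQ hcl _
    have h2 := Subgroup.map_mono (f := K.subtype) h1
    rw [radIn_map_of_injective hQ _ K.subtype_injective, Subgroup.map_subgroupOf_eq_of_le hle] at h2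
    exact h2

/-- A subnormal subgroup with property `Q` lies in the radical. -/
theorem le_rad_of_subnormal (hQ : IsoInv Q) (hcl : RadClosed Q) {G : Type u} [Group G]
    [Finite G] {H : Subgroup G} (hH : H.IsSubnormal) (hQH : Q H) : H ≤ rad Q G := by
  refine le_trans ?_ (radIn_le_of_subnormal hQ hcl hH)
  have h1 : rad Q H = ⊤ := by
    rw [eq_top_iff]
    exact le_rad inferInstance (hQ _ _ Subgroup.topEquiv.symm hQH)
  unfold radIn
  rw [h1, ← MonoidHom.range_eq_map, Subgroup.range_subtype]

/-- The radical of a subgroup is normalized by the normalizer of the subgroup. -/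
theorem normalizer_le_normalizer_radIn (hQ : IsoInv Q) {G : Type u} [Group G] (H : Subgroup G) :
    Subgroup.normalizer (H : Set G) ≤ Subgroup.normalizer (radIn Q H : Set G) := by
  intro g hg
  have hH : H.map (MulAut.conj g).toMonoidHom = H := by
    ext x
    constructor
    · rintro ⟨y, hy, rfl⟩
      exact (Subgroup.mem_normalizer_iff.1 hg y).1 hy
    · intro hx
      refine ⟨g⁻¹ * x * g, ?_, by simp [MulAut.conj_apply, mul_assoc]⟩
      have := (Subgroup.mem_normalizer_iff.1 (Subgroup.inv_mem _ hg) x).1 hx
      simpa using this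
  have h := radIn_conj hQ H g
  rw [hH] at h
  rw [Subgroup.mem_normalizer_iff]
  intro x
  constructor
  · intro hx
    rw [h]
    exact ⟨x, hx, by simp [MulAut.conj_apply]⟩
  · intro hx
    rw [h] at hx
    obtain ⟨y, hy, hyx⟩ := hx
    have : y = x := by
      have : g * y * g⁻¹ = g * x * g⁻¹ := by simpa [MulAut.conj_apply] using hyx
      simpa using this
    rw [← this]; exact hy

end

/-! ### Closure properties of the three Prelude radicals -/

theorem radClosed_pGroup (p : ℕ) [Fact p.Prime] : RadClosed.{u} (fun K _ => IsPGroup p K) :=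
  fun K _ _ => H60.isPGroup_pCore (G := K) p

theorem radClosed_coprime (p : ℕ) : RadClosed.{u} (fun K _ => (Nat.card K).Coprime p) :=
  fun K _ _ => H60.card_pPrimeCore_coprime (G := K) p

section fitting

/-- A subgroup containing a Sylow `q`-subgroup for every prime `q` dividing the order is the
whole group. -/
theorem eq_top_of_forall_sylow_le {H : Type u} [Group H] [Finite H] (M : Subgroup H)
    (h : ∀ q : ℕ, ∀ [Fact q.Prime], q ∣ Nat.card H → ∃ S : Sylow q H, (S : Subgroup H) ≤ M) :
    M = ⊤ := by
  apply Subgroup.eq_top_of_le_card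
  apply Nat.le_of_dvd Nat.card_pos
  rw [← Nat.factorization_prime_le_iff_dvd Nat.card_pos.ne' Nat.card_pos.ne']
  intro q hq
  by_cases hd : q ∣ Nat.card H
  · have : Fact q.Prime := ⟨hq⟩
    obtain ⟨S, hS⟩ := h q hd
    rw [← hq.pow_dvd_iff_le_factorization Nat.card_pos.ne', ← S.card_eq_multiplicity]
    exact Subgroup.card_dvd_of_le hS
  · rw [Nat.factorization_eq_zero_of_not_dvd hd]; exact Nat.zero_le _

variable {G : Type u} [Group G] [Finite G]

/-- The join of the `p`-cores over the primes dividing the order of the group. -/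
def pCoreJoin (G : Type u) [Group G] : Subgroup G :=
  ⨆ q : (Nat.card G).primeFactors, pCore q.1 G

theorem pCore_le_pCoreJoin (q : ℕ) [Fact q.Prime] : pCore q G ≤ pCoreJoin G := by
  by_cases hd : q ∣ Nat.card G
  · have hq : q ∈ (Nat.card G).primeFactors :=
      Nat.mem_primeFactors.2 ⟨Fact.out, hd, Nat.card_pos.ne'⟩
    exact le_iSup (fun q : (Nat.card G).primeFactors => pCore q.1 G) ⟨q, hq⟩
  · have h1 : pCore q G = ⊥ := by
      apply Subgroup.eq_bot_of_card_eq
      obtain ⟨k, hk⟩ := IsPGroup.iff_card.1 (H60.isPGroup_pCore (G := G) q)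
      have h2 : q ^ k ∣ Nat.card G := hk ▸ Subgroup.card_subgroup_dvd_card _
      rcases Nat.eq_zero_or_pos k with h0 | h0
      · rw [hk, h0, pow_zero]
      · exact absurd (dvd_trans (dvd_pow_self q h0.ne') h2) hd
    rw [h1]; exact bot_le

theorem normal_nilpotent_le_pCoreJoin (N : Subgroup G) [N.Normal] (hN : Group.IsNilpotent N) :
    N ≤ pCoreJoin G := by
  have key : (pCoreJoin G).subgroupOf N = ⊤ := by
    apply eq_top_of_forall_sylow_le
    intro q _ hq
    let S : Sylow q N := default
    refine ⟨S, ?_⟩
    have htfae := (Group.isNilpotent_of_finite_tfae (G := N)).out 0 3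
    have hSn : (S : Subgroup N).Normal := (htfae.1 hN) q inferInstance S
    have hSc : (S : Subgroup N).Characteristic := Sylow.characteristic_of_normal S hSn
    have hn : ((S : Subgroup N).map N.subtype).Normal :=
      ConjAct.normal_of_characteristic_of_normal
    have hle : (S : Subgroup N).map N.subtype ≤ pCore q G :=
      H60.le_pCore hn (S.isPGroup'.map _)
    intro x hx
    rw [Subgroup.mem_subgroupOf]
    exact pCore_le_pCoreJoin q (hle ⟨x, hx, rfl⟩)
  intro x hx
  have : (⟨x, hx⟩ : N) ∈ (pCoreJoin G).subgroupOf N := by rw [key]; trivial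
  exact this

theorem pCore_le_fitting (q : ℕ) [Fact q.Prime] : pCore q G ≤ fittingSubgroup G :=
  le_sSup ⟨inferInstance, (H60.isPGroup_pCore q).isNilpotent⟩

/-- The Fitting subgroup of a finite group is the join of the `p`-cores. -/
theorem fitting_eq_pCoreJoin : fittingSubgroup G = pCoreJoin G := by
  apply le_antisymm
  · apply sSup_le
    rintro N ⟨hN, hnil⟩
    exact normal_nilpotent_le_pCoreJoin N hnil
  · apply iSup_le
    rintro ⟨q, hq⟩
    have : Fact q.Prime := ⟨Nat.prime_of_mem_primeFactors hq⟩
    exact pCore_le_fitting q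

theorem pCoreJoin_nilpotent : Group.IsNilpotent (pCoreJoin G) := by
  classical
  have hcomm : Pairwise fun i j : (Nat.card G).primeFactors =>
      ∀ x y : G, x ∈ pCore i.1 G → y ∈ pCore j.1 G → Commute x y := by
    intro i j hij x y hx hy
    have : Fact i.1.Prime := ⟨Nat.prime_of_mem_primeFactors i.2⟩
    have : Fact j.1.Prime := ⟨Nat.prime_of_mem_primeFactors j.2⟩
    have hd : Disjoint (pCore i.1 G) (pCore j.1 G) :=
      IsPGroup.disjoint_of_ne i.1 j.1 (fun h => hij (Subtype.ext h)) _ _
        (H60.isPGroup_pCore i.1) (H60.isPGroup_pCore j.1)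
    exact Subgroup.commute_of_normal_of_disjoint _ _ inferInstance inferInstance hd x y hx hy
  have : ∀ i : (Nat.card G).primeFactors, Group.IsNilpotent (pCore i.1 G) := fun i => by
    have : Fact i.1.Prime := ⟨Nat.prime_of_mem_primeFactors i.2⟩
    exact (H60.isPGroup_pCore i.1).isNilpotent
  have h1 : Group.IsNilpotent (Subgroup.noncommPiCoprod hcomm).range :=
    Group.nilpotent_of_surjective (Subgroup.noncommPiCoprod hcomm).rangeRestrict
      (Subgroup.noncommPiCoprod hcomm).rangeRestrict_surjective
  have h2 : (Subgroup.noncommPiCoprod hcomm).range = pCoreJoin G :=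
    Subgroup.noncommPiCoprod_range
  rw [← h2]; exact h1

/-- **Fitting's theorem**: the Fitting subgroup of a finite group is nilpotent. -/
theorem fitting_nilpotent : Group.IsNilpotent (fittingSubgroup G) := by
  rw [fitting_eq_pCoreJoin]; exact pCoreJoin_nilpotent

end fitting

theorem radClosed_nilpotent : RadClosed.{u} (fun K _ => Group.IsNilpotent K) :=
  fun K _ _ => fitting_nilpotent (G := K)

end Cfsg.Agent.H27
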