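import Mathlib.GroupTheory.Transfer
import Cfsg.Agent.H27.Rad

/-!
# Quasisimple groups, components, the layer and the generalized Fitting subgroup (helper27)
-/

set_option autoImplicit false

namespace Cfsg.Agent.H27

open Cfsg
open scoped commutatorElement

universe u

section comm

variable {G : Type*} [Group G]

theorem commElem_mul_left_of_comm (x y z : G) (h : z * y = y * z) : ⁅x * z, y⁆ = ⁅x, y⁆ := by
  rw [commutatorElement_def, commutatorElement_def, mul_inv_rev]
  have h2 : z * y * z⁻¹ = y := by rw [h]; group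
  calc x * z * y * (z⁻¹ * x⁻¹) * y⁻¹ = x * (z * y * z⁻¹) * x⁻¹ * y⁻¹ := by group
    _ = x * y * x⁻¹ * y⁻¹ := by rw [h2]

theorem commElem_mul_right_of_comm (x y z : G) (h : z * x = x * z) : ⁅x, y * z⁆ = ⁅x, y⁆ := by
  rw [commutatorElement_def, commutatorElement_def, mul_inv_rev]
  have h1 : z * x⁻¹ = x⁻¹ * z := by
    have : x⁻¹ * (z * x) * x⁻¹ = x⁻¹ * (x * z) * x⁻¹ := by rw [h]
    have h3 : x⁻¹ * (z * x) * x⁻¹ = x⁻¹ * z := by group
    have h4 : x⁻¹ * (x * z) * x⁻¹ = z * x⁻¹ := by group
    rw [h3, h4] at this; exact this.symm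
  have h2 : z * x⁻¹ * z⁻¹ = x⁻¹ := by rw [h1]; group
  calc x * (y * z) * x⁻¹ * (z⁻¹ * y⁻¹) = x * y * (z * x⁻¹ * z⁻¹) * y⁻¹ := by group
    _ = x * y * x⁻¹ * y⁻¹ := by rw [h2]

/-- Elementwise commutation from a trivial commutator subgroup. -/
theorem comm_of_comm_eq_bot {A B : Subgroup G} (h : ⁅A, B⁆ = ⊥) {a b : G} (ha : a ∈ A)
    (hb : b ∈ B) : a * b = b * a := by
  rw [Subgroup.commutator_eq_bot_iff_le_centralizer] at h
  exact (Subgroup.mem_centralizer_iff.1 (h ha) b hb).symm

theorem comm_eq_bot_of_forall {A B : Subgroup G} (h : ∀ a ∈ A, ∀ b ∈ B, a * b = b * a) :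
    ⁅A, B⁆ = ⊥ := by
  rw [Subgroup.commutator_eq_bot_iff_le_centralizer]
  intro a ha
  rw [Subgroup.mem_centralizer_iff]
  intro b hb
  exact (h a ha b hb).symm

/-- Three subgroups lemma for a perfect subgroup `K`: if `[A, K, K] = 1` then `[K, A] = 1`. -/
theorem comm_eq_bot_of_perfect (K A : Subgroup G) (hperf : ⁅K, K⁆ = K) (h : ⁅⁅A, K⁆, K⁆ = ⊥) :
    ⁅K, A⁆ = ⊥ := by
  have h3 : ⁅⁅K, A⁆, K⁆ = ⊥ := by rw [Subgroup.commutator_comm K A]; exact h
  have h4 := Subgroup.commutator_commutator_eq_bot_of_rotate h3 h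
  rw [hperf] at h4
  exact h4

theorem commutator_le_of_le_normalizer {A B : Subgroup G}
    (h : A ≤ Subgroup.normalizer (B : Set G)) : ⁅A, B⁆ ≤ B := by
  rw [Subgroup.commutator_le]
  intro a ha b hb
  rw [commutatorElement_def]
  have := (Subgroup.mem_normalizer_iff.1 (h ha) b).1 hb
  exact B.mul_mem this (B.inv_mem hb)

theorem commutator_le_of_le_normalizer' {A B : Subgroup G}
    (h : B ≤ Subgroup.normalizer (A : Set G)) : ⁅A, B⁆ ≤ A := by
  rw [Subgroup.commutator_comm]; exact commutator_le_of_le_normalizer h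

theorem commutator_self_le (K : Subgroup G) : ⁅K, K⁆ ≤ K :=
  commutator_le_of_le_normalizer Subgroup.le_normalizer

end comm

/-! ### Quasisimple groups -/

section quasisimple

theorem quasisimple_nontrivial {L : Type*} [Group L] (h : IsQuasisimple L) : Nontrivial L := by
  obtain ⟨_, hs⟩ := h
  have : Nontrivial (L ⧸ Subgroup.center L) := hs.toNontrivial
  exact (QuotientGroup.mk'_surjective (Subgroup.center L)).nontrivial

theorem quasisimple_not_solvable {L : Type*} [Group L] (h : IsQuasisimple L) :
    ¬ Group.IsSolvable L := by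
  have := quasisimple_nontrivial h
  have := h.1
  exact Group.IsPerfect.not_isSolvable L

/-- A perfect nontrivial group has a nontrivial central quotient. -/
theorem nontrivial_quotient_center_of_perfect {Y : Type*} [Group Y] [Nontrivial Y]
    (hperf : Group.IsPerfect Y) : Nontrivial (Y ⧸ Subgroup.center Y) := by
  by_contra hn
  rw [not_nontrivial_iff_subsingleton] at hn
  have hc : Subgroup.center Y = ⊤ := by
    rw [eq_top_iff]; intro y _
    have : (QuotientGroup.mk' (Subgroup.center Y)) y = 1 := Subsingleton.elim _ _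
    exact (QuotientGroup.eq_one_iff y).1 this
  have : IsMulCommutative Y := ⟨⟨fun a b => by
    have hb : b ∈ Subgroup.center Y := hc ▸ Subgroup.mem_top b
    exact (Subgroup.mem_center_iff.1 hb a)⟩⟩
  exact not_subsingleton Y Group.IsPerfect.subsingleton_of_isMulCommutative

/-- A nontrivial homomorphic image of a quasisimple group is quasisimple. -/
theorem quasisimple_of_surjective {K Y : Type*} [Group K] [Group Y] (f : K →* Y)
    (hf : Function.Surjective f) (hK : IsQuasisimple K) [Nontrivial Y] : IsQuasisimple Y := by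
  obtain ⟨hperf, hsimp⟩ := hK
  have hYperf : Group.IsPerfect Y := Group.IsPerfect.ofSurjective hf
  refine ⟨hYperf, ?_⟩
  have hnt : Nontrivial (Y ⧸ Subgroup.center Y) := nontrivial_quotient_center_of_perfect hYperf
  let g : K ⧸ Subgroup.center K →* Y ⧸ Subgroup.center Y :=
    QuotientGroup.map _ _ f (by
      intro z hz
      rw [Subgroup.mem_comap, Subgroup.mem_center_iff]
      intro y
      obtain ⟨x, rfl⟩ := hf y
      rw [← map_mul, ← map_mul, Subgroup.mem_center_iff.1 hz x])
  have hg : Function.Surjective g := by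
    intro y
    obtain ⟨y', rfl⟩ := QuotientGroup.mk'_surjective _ y
    obtain ⟨x, rfl⟩ := hf y'
    exact ⟨QuotientGroup.mk' _ x, rfl⟩
  exact IsSimpleGroup.isSimpleGroup_of_surjective g hg

theorem quasisimple_of_mulEquiv {K Y : Type*} [Group K] [Group Y] (e : K ≃* Y)
    (hK : IsQuasisimple K) : IsQuasisimple Y := by
  have := quasisimple_nontrivial hK
  have : Nontrivial Y := e.symm.toEquiv.nontrivial
  exact quasisimple_of_surjective e.toMonoidHom e.surjective hK

/-- A perfect central extension of a quasisimple group is quasisimple. -/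
theorem quasisimple_of_central_ker {K Y : Type*} [Group K] [Group Y] (f : K →* Y)
    (hf : Function.Surjective f) (hker : f.ker ≤ Subgroup.center K) (hperf : Group.IsPerfect K)
    (hY : IsQuasisimple Y) : IsQuasisimple K := by
  refine ⟨hperf, ?_⟩
  obtain ⟨_, hsimp⟩ := hY
  let g : K →* Y ⧸ Subgroup.center Y := (QuotientGroup.mk' _).comp f
  have hg : Function.Surjective g := (QuotientGroup.mk'_surjective _).comp hf
  have hkerg : g.ker = Subgroup.center K := by
    apply le_antisymm
    · have h1 : ⁅g.ker, (⊤ : Subgroup K)⁆ ≤ f.ker := by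
        rw [Subgroup.commutator_le]
        intro a ha b _
        rw [MonoidHom.mem_ker, map_commutatorElement]
        have ha' : f a ∈ Subgroup.center Y := by
          have : (QuotientGroup.mk' (Subgroup.center Y)) (f a) = 1 := ha
          exact (QuotientGroup.eq_one_iff _).1 this
        rw [commutatorElement_eq_one_iff_commute]
        exact (Subgroup.mem_center_iff.1 ha' (f b)).symm
      have h2 : ⁅⁅g.ker, (⊤ : Subgroup K)⁆, (⊤ : Subgroup K)⁆ = ⊥ := by
        rw [Subgroup.commutator_eq_bot_iff_le_centralizer]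
        refine le_trans h1 (le_trans hker ?_)
        rw [Subgroup.coe_top, Subgroup.centralizer_univ]
      have h3 : ⁅(⊤ : Subgroup K), g.ker⁆ = ⊥ :=
        comm_eq_bot_of_perfect ⊤ g.ker (by rw [← commutator_def]; exact hperf.commutator_eq_top) h2
      rw [Subgroup.commutator_comm, Subgroup.commutator_eq_bot_iff_le_centralizer,
        Subgroup.coe_top, Subgroup.centralizer_univ] at h3
      exact h3
    · intro z hz
      rw [MonoidHom.mem_ker]
      show (QuotientGroup.mk' _) (f z) = 1
      rw [QuotientGroup.mk'_apply, QuotientGroup.eq_one_iff, Subgroup.mem_center_iff]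
      intro y
      obtain ⟨x, rfl⟩ := hf y
      rw [← map_mul, ← map_mul, Subgroup.mem_center_iff.1 hz x]
  have e₁ : K ⧸ g.ker ≃* Y ⧸ Subgroup.center Y := QuotientGroup.quotientKerEquivOfSurjective g hg
  have e₂ : K ⧸ g.ker ≃* K ⧸ Subgroup.center K := QuotientGroup.quotientMulEquivOfEq hkerg
  exact (e₂.symm.trans e₁).isSimpleGroup

/-- A normal subgroup of a quasisimple group is central or everything (after helper40). -/
theorem quasisimple_normal {L : Type*} [Group L] (hL : IsQuasisimple L)
    (M : Subgroup L) [hM : M.Normal] : M ≤ Subgroup.center L ∨ M = ⊤ := by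
  obtain ⟨hperf, hsimp⟩ := hL
  have hMn : (M.map (QuotientGroup.mk' (Subgroup.center L))).Normal :=
    hM.map _ (QuotientGroup.mk'_surjective _)
  rcases hMn.eq_bot_or_eq_top with h | h
  · left
    intro m hm
    have h1 : QuotientGroup.mk' (Subgroup.center L) m ∈
        M.map (QuotientGroup.mk' (Subgroup.center L)) := ⟨m, hm, rfl⟩
    rw [h, Subgroup.mem_bot] at h1
    exact (QuotientGroup.eq_one_iff m).mp h1
  · right
    have hlift : ∀ a : L, ∃ m ∈ M, m⁻¹ * a ∈ Subgroup.center L := by
      intro a
      have ha : QuotientGroup.mk' (Subgroup.center L) a ∈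
          M.map (QuotientGroup.mk' (Subgroup.center L)) := by rw [h]; trivial
      obtain ⟨m, hm, hma⟩ := ha
      exact ⟨m, hm, QuotientGroup.eq.mp hma⟩
    have hcomm : commutator L ≤ M := by
      rw [commutator_def, Subgroup.commutator_le]
      intro a _ b _
      obtain ⟨m, hm, hza⟩ := hlift a
      obtain ⟨m', hm', hzb⟩ := hlift b
      have ea : a = m * (m⁻¹ * a) := by group
      have eb : b = m' * (m'⁻¹ * b) := by group
      rw [ea, eb, commElem_mul_left_of_comm _ _ _ ((Subgroup.mem_center_iff.1 hza _).symm),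
        commElem_mul_right_of_comm _ _ _ ((Subgroup.mem_center_iff.1 hzb _).symm),
        commutatorElement_def]
      exact M.mul_mem (hM.conj_mem m' hm' m) (M.inv_mem hm')
    rw [hperf.commutator_eq_top] at hcomm
    exact top_le_iff.mp hcomm

/-- In a quasisimple group every subnormal subgroup is the whole group or central. -/
theorem quasisimple_subnormal {L : Type*} [Group L] (hL : IsQuasisimple L) (H : Subgroup L)
    (hH : H.IsSubnormal) : H = ⊤ ∨ H ≤ Subgroup.center L := by
  rcases hH.lt_normal with h | ⟨K, hK, hHK, hKt⟩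
  · exact Or.inl h
  · right
    rcases quasisimple_normal hL K with h | h
    · exact hHK.trans h
    · exact absurd h hKt.ne

theorem quasisimple_center_ne_top {L : Type*} [Group L] (hL : IsQuasisimple L) :
    Subgroup.center L ≠ ⊤ := by
  intro h
  have := quasisimple_nontrivial hL
  have h2 := nontrivial_quotient_center_of_perfect hL.1
  obtain ⟨x, y, hxy⟩ := h2
  obtain ⟨x', rfl⟩ := QuotientGroup.mk'_surjective _ x
  obtain ⟨y', rfl⟩ := QuotientGroup.mk'_surjective _ y
  apply hxy
  have hx : (QuotientGroup.mk' (Subgroup.center L)) x' = 1 :=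
    (QuotientGroup.eq_one_iff _).2 (h ▸ Subgroup.mem_top _)
  have hy : (QuotientGroup.mk' (Subgroup.center L)) y' = 1 :=
    (QuotientGroup.eq_one_iff _).2 (h ▸ Subgroup.mem_top _)
  rw [hx, hy]

/-- Criterion: a nontrivial perfect group all of whose proper normal subgroups are central is
quasisimple. -/
theorem quasisimple_of_normal_central {M : Type*} [Group M] [Nontrivial M]
    (hperf : Group.IsPerfect M)
    (h : ∀ N : Subgroup M, N.Normal → N ≠ ⊤ → N ≤ Subgroup.center M) : IsQuasisimple M := by
  refine ⟨hperf, (isSimpleGroup_iff _).2 ⟨nontrivial_quotient_center_of_perfect hperf, ?_⟩⟩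
  intro Nb hNb
  have hsurj := QuotientGroup.mk'_surjective (Subgroup.center M)
  have hmap := Subgroup.map_comap_eq_self_of_surjective hsurj Nb
  by_cases hN : Nb.comap (QuotientGroup.mk' (Subgroup.center M)) = ⊤
  · right
    rw [← hmap, hN, Subgroup.map_top_of_surjective _ hsurj]
  · left
    have h1 := h _ (hNb.comap _) hN
    rw [← hmap, eq_bot_iff]
    rintro _ ⟨x, hx, rfl⟩
    rw [Subgroup.mem_bot]
    exact (QuotientGroup.eq_one_iff x).2 (h1 hx)

/-- The central quotient being simple non-abelian forces `X = X' Z(X)`. -/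
theorem commutator_sup_center_eq_top {X : Type*} [Group X]
    (hs : IsSimpleGroup (X ⧸ Subgroup.center X))
    (hna : ¬ IsMulCommutative (X ⧸ Subgroup.center X)) :
    commutator X ⊔ Subgroup.center X = ⊤ := by
  have hn : ((commutator X).map (QuotientGroup.mk' (Subgroup.center X))).Normal :=
    Subgroup.Normal.map inferInstance _ (QuotientGroup.mk'_surjective _)
  rcases hn.eq_bot_or_eq_top with h | h
  · exfalso; apply hna
    refine ⟨⟨fun a b => ?_⟩⟩
    obtain ⟨a', rfl⟩ := QuotientGroup.mk'_surjective _ a
    obtain ⟨b', rfl⟩ := QuotientGroup.mk'_surjective _ b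
    have hmem : ⁅a', b'⁆ ∈ commutator X := by
      rw [commutator_def]
      exact Subgroup.commutator_mem_commutator (Subgroup.mem_top _) (Subgroup.mem_top _)
    have h1 : (QuotientGroup.mk' (Subgroup.center X)) ⁅a', b'⁆ ∈
        (commutator X).map (QuotientGroup.mk' (Subgroup.center X)) := ⟨_, hmem, rfl⟩
    rw [h, Subgroup.mem_bot, map_commutatorElement, commutatorElement_eq_one_iff_commute] at h1
    exact h1
  · have h2 := Subgroup.comap_map_eq (QuotientGroup.mk' (Subgroup.center X)) (commutator X)
    rw [h, Subgroup.comap_top, QuotientGroup.ker_mk'] at h2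
    exact h2.symm

theorem quasisimple_commutator_of_simple_central_quotient {X : Type*} [Group X]
    (hs : IsSimpleGroup (X ⧸ Subgroup.center X))
    (hna : ¬ IsMulCommutative (X ⧸ Subgroup.center X)) : IsQuasisimple ↥(commutator X) := by
  have htop := commutator_sup_center_eq_top hs hna
  have hdz : ∀ x : X, ∃ d ∈ commutator X, ∃ z ∈ Subgroup.center X, d * z = x := by
    intro x
    have : x ∈ commutator X ⊔ Subgroup.center X := htop ▸ Subgroup.mem_top x
    rwa [Subgroup.mem_sup_of_normal_right] at this
  have hperf : ⁅commutator X, commutator X⁆ = commutator X := by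
    apply le_antisymm (commutator_self_le _)
    conv_lhs => rw [commutator_def]
    rw [Subgroup.commutator_le]
    intro a _ b _
    obtain ⟨d, hd, z, hz, rfl⟩ := hdz a
    obtain ⟨d', hd', z', hz', rfl⟩ := hdz b
    rw [commElem_mul_left_of_comm _ _ _ (Subgroup.mem_center_iff.1 hz _).symm,
      commElem_mul_right_of_comm _ _ _ (Subgroup.mem_center_iff.1 hz' _).symm]
    exact Subgroup.commutator_mem_commutator hd hd'
  refine ⟨Subgroup.isPerfect_iff.2 hperf, ?_⟩
  let f : commutator X →* X ⧸ Subgroup.center X :=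
    (QuotientGroup.mk' _).comp (commutator X).subtype
  have hf : Function.Surjective f := by
    intro y
    obtain ⟨x, rfl⟩ := QuotientGroup.mk'_surjective _ y
    obtain ⟨d, hd, z, hz, rfl⟩ := hdz x
    refine ⟨⟨d, hd⟩, ?_⟩
    show (QuotientGroup.mk' _) d = (QuotientGroup.mk' _) (d * z)
    have hz1 : (QuotientGroup.mk' (Subgroup.center X)) z = 1 := (QuotientGroup.eq_one_iff z).2 hz
    rw [map_mul, hz1, mul_one]
  have hker : f.ker = Subgroup.center (commutator X) := by
    ext ⟨d, hd⟩
    rw [MonoidHom.mem_ker, Subgroup.mem_center_iff]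
    constructor
    · intro h
      have hdz' : d ∈ Subgroup.center X := (QuotientGroup.eq_one_iff d).1 h
      intro g
      apply Subtype.ext
      exact Subgroup.mem_center_iff.1 hdz' g
    · intro h
      show (QuotientGroup.mk' _) d = 1
      rw [QuotientGroup.mk'_apply, QuotientGroup.eq_one_iff, Subgroup.mem_center_iff]
      intro x
      obtain ⟨d', hd', z, hz, rfl⟩ := hdz x
      have h1 : d' * d = d * d' := congrArg Subtype.val (h ⟨d', hd'⟩)
      have h2 : d * z = z * d := Subgroup.mem_center_iff.1 hz d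
      calc d' * z * d = d' * (z * d) := by group
        _ = d' * (d * z) := by rw [h2]
        _ = d' * d * z := by group
        _ = d * d' * z := by rw [h1]
        _ = d * (d' * z) := by group
  have e₁ := QuotientGroup.quotientKerEquivOfSurjective f hf
  have e₂ : commutator X ⧸ f.ker ≃* commutator X ⧸ Subgroup.center (commutator X) :=
    QuotientGroup.quotientMulEquivOfEq hker
  exact (e₂.symm.trans e₁).isSimpleGroup

end quasisimple

/-! ### Conjugation and normalizers -/

section conj

variable {G : Type*} [Group G]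

theorem mem_map_conj_iff {H : Subgroup G} {g x : G} :
    x ∈ H.map (MulAut.conj g).toMonoidHom ↔ g⁻¹ * x * g ∈ H := by
  constructor
  · rintro ⟨y, hy, rfl⟩
    have : g⁻¹ * ((MulAut.conj g).toMonoidHom y) * g = y := by
      simp [MulAut.conj_apply, mul_assoc]
    rw [this]; exact hy
  · intro h
    exact ⟨g⁻¹ * x * g, h, by simp [MulAut.conj_apply, mul_assoc]⟩

theorem mem_normalizer_iff_map_conj_eq {H : Subgroup G} {g : G} :
    g ∈ Subgroup.normalizer (H : Set G) ↔ H.map (MulAut.conj g).toMonoidHom = H := by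
  constructor
  · intro hg
    ext x
    rw [mem_map_conj_iff]
    have := Subgroup.mem_normalizer_iff.1 (Subgroup.inv_mem _ hg) x
    rw [this]; simp
  · intro h
    rw [Subgroup.mem_normalizer_iff]
    intro x
    constructor
    · intro hx
      rw [← h]
      exact ⟨x, hx, by simp [MulAut.conj_apply]⟩
    · intro hx
      rw [← h, mem_map_conj_iff] at hx
      have : g⁻¹ * (g * x * g⁻¹) * g = x := by group
      rwa [this] at hx

theorem normalizer_inf_le_normalizer_commutator (A B : Subgroup G) :
    Subgroup.normalizer (A : Set G) ⊓ Subgroup.normalizer (B : Set G) ≤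
      Subgroup.normalizer ((⁅A, B⁆ : Subgroup G) : Set G) := by
  intro g hg
  have hA : g ∈ Subgroup.normalizer (A : Set G) := (Subgroup.mem_inf.1 hg).1
  have hB : g ∈ Subgroup.normalizer (B : Set G) := (Subgroup.mem_inf.1 hg).2
  rw [mem_normalizer_iff_map_conj_eq] at hA hB ⊢
  rw [Subgroup.map_commutator, hA, hB]

theorem le_normalizer_commutator_self (M : Subgroup G) :
    M ≤ Subgroup.normalizer ((⁅M, M⁆ : Subgroup G) : Set G) :=
  le_trans (le_inf Subgroup.le_normalizer Subgroup.le_normalizer)
    (normalizer_inf_le_normalizer_commutator M M)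

theorem le_of_subgroupOf_le {A B K : Subgroup G} (hA : A ≤ K)
    (h : A.subgroupOf K ≤ B.subgroupOf K) : A ≤ B :=
  fun a ha => h (show (⟨a, hA ha⟩ : K) ∈ A.subgroupOf K from ha)

theorem comm_eq_bot_of_subgroupOf {A B K : Subgroup G} (hA : A ≤ K) (hB : B ≤ K)
    (h : ⁅A.subgroupOf K, B.subgroupOf K⁆ = ⊥) : ⁅A, B⁆ = ⊥ := by
  apply comm_eq_bot_of_forall
  intro a ha b hb
  have := comm_of_comm_eq_bot h (a := ⟨a, hA ha⟩) (b := ⟨b, hB hb⟩) ha hb
  exact congrArg Subtype.val this

end conj

/-! ### Components -/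

section components

variable {G : Type*} [Group G]

theorem isComponent_perfect {L : Subgroup G} (hL : IsComponent L) : ⁅L, L⁆ = L :=
  Subgroup.isPerfect_iff.1 hL.2.1

theorem isComponent_ne_bot {L : Subgroup G} (hL : IsComponent L) : L ≠ ⊥ := by
  have := quasisimple_nontrivial hL.2
  exact (Subgroup.nontrivial_iff_ne_bot L).1 this

theorem isComponent_not_solvable {L : Subgroup G} (hL : IsComponent L) :
    ¬ Group.IsSolvable L := quasisimple_not_solvable hL.2

theorem isQuasisimple_subgroupOf {L K : Subgroup G} (hLK : L ≤ K) (h : IsQuasisimple L) :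
    IsQuasisimple (L.subgroupOf K) :=
  quasisimple_of_mulEquiv (Subgroup.subgroupOfEquivOfLe hLK).symm h

theorem isComponent_subgroupOf {L K : Subgroup G} (hLK : L ≤ K) (h : IsComponent L) :
    IsComponent (L.subgroupOf K) :=
  ⟨h.1.subgroupOf, isQuasisimple_subgroupOf hLK h.2⟩

theorem isComponent_map_subtype {H : Subgroup G} (hH : H.IsSubnormal) {K : Subgroup H}
    (hK : IsComponent K) : IsComponent (K.map H.subtype) :=
  ⟨hK.1.trans' hH, quasisimple_of_mulEquiv (K.equivMapOfInjective H.subtype H.subtype_injective)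
    hK.2⟩

theorem isComponent_of_map_subtype {H : Subgroup G} {K : Subgroup H}
    (hK : IsComponent (K.map H.subtype)) : IsComponent K := by
  refine ⟨?_, quasisimple_of_mulEquiv
    (K.equivMapOfInjective H.subtype H.subtype_injective).symm hK.2⟩
  have := hK.1.subgroupOf (K := H)
  rwa [Subgroup.subgroupOf, Subgroup.comap_map_eq_self_of_injective H.subtype_injective] at this

theorem isComponent_map_equiv {G' : Type*} [Group G'] (e : G ≃* G') {L : Subgroup G}
    (hL : IsComponent L) : IsComponent (L.map e.toMonoidHom) :=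
  ⟨hL.1.map e.surjective,
    quasisimple_of_mulEquiv (L.equivMapOfInjective e.toMonoidHom e.injective) hL.2⟩

/-- Inductive step (after helper40). -/
theorem comm_eq_bot_of_subnormal_step (L N : Subgroup G) [hN : N.Normal] (hperf : ⁅L, L⁆ = L) :
    ∀ H : Subgroup G, H.IsSubnormal → L ≤ H → ⁅L, N ⊓ H⁆ = ⊥ → ⁅L, N⁆ = ⊥ := by
  intro H hH
  induction hH with
  | top => intro _ h; simpa using h
  | step H K hHK hK hn ih =>
    intro hLH hbot
    apply ih (hLH.trans hHK)
    have hnorm := (Subgroup.normal_subgroupOf_iff hHK).mp hn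
    have h1 : ⁅N ⊓ K, L⁆ ≤ N ⊓ H := by
      rw [Subgroup.commutator_le]
      intro m hm l hl
      rw [commutatorElement_def]
      refine ⟨?_, ?_⟩
      · have : m * l * m⁻¹ * l⁻¹ = m * (l * m⁻¹ * l⁻¹) := by group
        rw [this]
        exact N.mul_mem hm.1 (hN.conj_mem _ (N.inv_mem hm.1) l)
      · exact H.mul_mem (hnorm l m (hLH hl) hm.2) (H.inv_mem (hLH hl))
    have h2 : ⁅⁅N ⊓ K, L⁆, L⁆ = ⊥ := by
      rw [eq_bot_iff, ← hbot, Subgroup.commutator_comm L (N ⊓ H)]
      exact Subgroup.commutator_mono h1 le_rfl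
    exact comm_eq_bot_of_perfect L (N ⊓ K) hperf h2

/-- A component lies in a given normal subgroup or centralizes it (after helper40). -/
theorem component_normal_le_or_comm (L N : Subgroup G) [hN : N.Normal] (hL : IsComponent L) :
    L ≤ N ∨ ⁅L, N⁆ = ⊥ := by
  obtain ⟨hsub, hq⟩ := hL
  have hperf : ⁅L, L⁆ = L := Subgroup.isPerfect_iff.mp hq.1
  have : ((N ⊓ L).subgroupOf L).Normal := by
    rw [Subgroup.inf_subgroupOf_right]
    exact Subgroup.normal_subgroupOf
  rcases quasisimple_normal hq ((N ⊓ L).subgroupOf L) with h | h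
  · right
    apply comm_eq_bot_of_subnormal_step L N hperf L hsub le_rfl
    apply comm_eq_bot_of_forall
    intro l hl m hm
    have hm' : (⟨m, hm.2⟩ : L) ∈ (N ⊓ L).subgroupOf L := hm
    have := Subgroup.mem_center_iff.mp (h hm') ⟨l, hl⟩
    exact congrArg Subtype.val this
  · left
    intro l hl
    have : (⟨l, hl⟩ : L) ∈ (N ⊓ L).subgroupOf L := by rw [h]; trivial
    exact this.1

/-- **Aschbacher 31.4**: a component lies in a given subnormal subgroup or centralizes it. -/
theorem component_subnormal_le_or_comm (L H : Subgroup G) (hL : IsComponent L)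
    (hH : H.IsSubnormal) : L ≤ H ∨ ⁅L, H⁆ = ⊥ := by
  induction hH with
  | top => exact Or.inl le_top
  | step H K hle hK hn ih =>
    rcases ih with h | h
    · have hL' : IsComponent (L.subgroupOf K) := isComponent_subgroupOf h hL
      rcases component_normal_le_or_comm (L.subgroupOf K) (H.subgroupOf K) hL' with h1 | h1
      · exact Or.inl (le_of_subgroupOf_le h h1)
      · exact Or.inr (comm_eq_bot_of_subgroupOf h hle h1)
    · right
      rw [eq_bot_iff, ← h]
      exact Subgroup.commutator_mono le_rfl hle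

/-- Distinct components commute. -/
theorem components_commute {L L' : Subgroup G} (hL : IsComponent L) (hL' : IsComponent L')
    (hne : L ≠ L') : ⁅L, L'⁆ = ⊥ := by
  rcases component_subnormal_le_or_comm L L' hL hL'.1 with h | h
  · rcases quasisimple_subnormal hL'.2 (L.subgroupOf L') hL.1.subgroupOf with h1 | h1
    · exfalso; apply hne; apply le_antisymm h
      intro x hx
      have : (⟨x, hx⟩ : L') ∈ L.subgroupOf L' := h1 ▸ Subgroup.mem_top _
      exact this
    · apply comm_eq_bot_of_forall
      intro a ha b hb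
      have h2 : (⟨a, h ha⟩ : L') ∈ Subgroup.center L' := h1 ha
      have := Subgroup.mem_center_iff.1 h2 ⟨b, hb⟩
      exact (congrArg Subtype.val this).symm
  · exact h

/-- A component centralizes every solvable subgroup which it normalizes. -/
theorem component_comm_solvable (L H : Subgroup G) (hL : IsComponent L)
    (hsolv : Group.IsSolvable H) (hinv : L ≤ Subgroup.normalizer (H : Set G)) : ⁅L, H⁆ = ⊥ := by
  have hLJ : L ≤ L ⊔ H := le_sup_left
  have hHJ : H ≤ L ⊔ H := le_sup_right
  have hJn : L ⊔ H ≤ Subgroup.normalizer (H : Set G) := sup_le hinv Subgroup.le_normalizer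
  have : (H.subgroupOf (L ⊔ H)).Normal :=
    (Subgroup.normal_subgroupOf_iff_le_normalizer hHJ).2 hJn
  rcases component_normal_le_or_comm (L.subgroupOf (L ⊔ H)) (H.subgroupOf (L ⊔ H))
    (isComponent_subgroupOf hLJ hL) with h1 | h1
  · exfalso
    have hLH : L ≤ H := le_of_subgroupOf_le hLJ h1
    have : Group.IsSolvable L :=
      Group.isSolvable_of_isSolvable_injective (Subgroup.inclusion_injective hLH)
    exact isComponent_not_solvable hL this
  · exact comm_eq_bot_of_subgroupOf hLJ hHJ h1

end components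

end Cfsg.Agent.H27
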