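import Mathlib.GroupTheory.Sylow
import Cfsg.Agent.H60.Cores

/-!
# Glauberman's Z*-theorem as a hypothesis (helper27)

`ZStarAt.{u}` is the statement of the Z*-theorem (in the form of statement S0215) for all finite
groups in universe `u`.  The consequences proved in the `H27/ZStar*.lean` files take it as a
hypothesis, so that they compile independently of the proof of the Z*-theorem itself.
-/

set_option autoImplicit false

namespace Cfsg.Agent.H27

open Cfsg

universe u

/-- The Z*-theorem for finite groups in universe `u`. -/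
def ZStarAt : Prop :=
  ∀ (G : Type u) [Group G] [Finite G] (P : Sylow 2 G) (x : G), orderOf x = 2 → x ∈ P →
    (∀ g : G, g * x * g⁻¹ ∈ P → g * x * g⁻¹ = x) →
    ∃ N : Subgroup G, N.Normal ∧ Odd (Nat.card N) ∧ ∀ g : G, (x * g * x⁻¹ * g⁻¹) ∈ N

/-- A normal subgroup of odd order lies in the odd core. -/
theorem le_oddCore_of_odd {G : Type*} [Group G] {N : Subgroup G} (hn : N.Normal)
    (hN : Odd (Nat.card N)) : N ≤ Cfsg.oddCore G :=
  Cfsg.Agent.H60.le_pPrimeCore hn (Nat.coprime_two_right.mpr hN)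

/-- The odd core has odd order. -/
theorem odd_card_oddCore (G : Type*) [Group G] [Finite G] : Odd (Nat.card (Cfsg.oddCore G)) :=
  Nat.coprime_two_right.mp (Cfsg.Agent.H60.card_pPrimeCore_coprime 2)

/-- Z* with the odd core as the normal subgroup. -/
theorem ZStarAt.mem_oddCore (hZ : ZStarAt.{u}) {G : Type u} [Group G] [Finite G] (P : Sylow 2 G)
    (x : G) (hx : orderOf x = 2) (hxP : x ∈ P)
    (hiso : ∀ g : G, g * x * g⁻¹ ∈ P → g * x * g⁻¹ = x) (g : G) :
    x * g * x⁻¹ * g⁻¹ ∈ Cfsg.oddCore G := by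
  obtain ⟨N, hn, hodd, hN⟩ := hZ G P x hx hxP hiso
  exact le_oddCore_of_odd hn hodd (hN g)

/-- Z* in a group without nontrivial normal subgroups of odd order: the involution is central. -/
theorem ZStarAt.commute (hZ : ZStarAt.{u}) {G : Type u} [Group G] [Finite G] (P : Sylow 2 G)
    (x : G) (hx : orderOf x = 2) (hxP : x ∈ P)
    (hiso : ∀ g : G, g * x * g⁻¹ ∈ P → g * x * g⁻¹ = x)
    (hO : ∀ N : Subgroup G, N.Normal → Odd (Nat.card N) → N = ⊥) (g : G) : x * g = g * x := by
  obtain ⟨N, hn, hodd, hN⟩ := hZ G P x hx hxP hiso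
  have h1 := hN g
  rw [hO N hn hodd, Subgroup.mem_bot] at h1
  have h2 : x * g * x⁻¹ = g := by
    have := mul_inv_eq_one.mp h1
    exact this
  calc x * g = x * g * x⁻¹ * x := by group
    _ = g * x := by rw [h2]

end Cfsg.Agent.H27
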