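import Mathlib
import Cfsg.Agent.H5.D8Local
import Cfsg.Agent.H11.FourCore
import Cfsg.Agent.H27.ZStarHyp
import Cfsg.Agent.H27.PComp3

/-!
# Groups with an involution whose centralizer is dihedral of order 8, part A (helper27)

Local facts on top of helper5's `H5/D8Local.lean`: normalisation of the isomorphism, the
four-group `vsub`, the isolated case (via the Z*-theorem as a hypothesis), and a recognition
lemma for symmetric groups.
-/

set_option autoImplicit false
set_option linter.unusedSectionVars false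
set_option linter.style.haveILetI false
set_option linter.unusedVariables false

namespace Cfsg.Agent.H27.D8

open DihedralGroup Cfsg.Agent.H5.D8Local

universe u

/-- The outer automorphism of `D₈` fixing the rotations and shifting the reflections. -/
def shiftFun : DihedralGroup 4 → DihedralGroup 4
  | r j => r j
  | sr j => sr (j + 1)

/-- Inverse of `shiftFun`. -/
def unshiftFun : DihedralGroup 4 → DihedralGroup 4
  | r j => r j
  | sr j => sr (j - 1)

/-- `shiftFun` as an automorphism. -/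
def shiftEquiv : DihedralGroup 4 ≃* DihedralGroup 4 where
  toFun := shiftFun
  invFun := unshiftFun
  left_inv := fun x => by revert x; decide
  right_inv := fun x => by revert x; decide
  map_mul' := fun x y => by revert x y; decide

theorem exists_aut_sr (i : ZMod 4) :
    ∃ ψ : DihedralGroup 4 ≃* DihedralGroup 4, ψ (sr i) = sr 0 := by
  have h4 : ∀ i : ZMod 4, i = 0 ∨ i = 1 ∨ i = 2 ∨ i = 3 := by decide
  rcases h4 i with rfl | rfl | rfl | rfl
  · exact ⟨MulEquiv.refl _, rfl⟩
  · exact ⟨shiftEquiv.symm, by decide⟩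
  · exact ⟨shiftEquiv.trans shiftEquiv, by decide⟩
  · exact ⟨shiftEquiv, by decide⟩

section local_facts

variable {G : Type*} [Group G] (t : G)
  (e : Subgroup.centralizer ({t} : Set G) ≃* DihedralGroup 4)

include e in
/-- Any non-central involution of `C(t)` can be taken as the image of `sr 0`. -/
theorem exists_equiv_sr0 (ht : orderOf t = 2) (x : G) (hxt : x * t = t * x) (hx2 : x * x = 1)
    (hx1 : x ≠ 1) (hxne : x ≠ t) :
    ∃ e' : Subgroup.centralizer ({t} : Set G) ≃* DihedralGroup 4, emb t e' (sr 0) = x := by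
  obtain ⟨d, hd⟩ := exists_emb_of_comm t e hxt
  have key : ∀ d : DihedralGroup 4, d * d = 1 → d ≠ 1 → d ≠ r 2 → ∃ i : ZMod 4, d = sr i := by
    decide
  have h1 : d * d = 1 := by
    apply emb_injective t e
    rw [map_mul, hd, hx2, map_one]
  have h2 : d ≠ 1 := by
    rintro rfl
    rw [map_one] at hd
    exact hx1 hd.symm
  have h3 : d ≠ r 2 := by
    rintro rfl
    rw [emb_r2 t e ht] at hd
    exact hxne hd.symm
  obtain ⟨i, rfl⟩ := key d h1 h2 h3
  obtain ⟨ψ, hψ⟩ := exists_aut_sr i
  refine ⟨e.trans ψ, ?_⟩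
  have h4 : emb t (e.trans ψ) (sr 0) = emb t e (ψ.symm (sr 0)) := rfl
  have h5 : ψ.symm (sr 0) = sr i := by rw [← hψ, MulEquiv.symm_apply_apply]
  rw [h4, h5, hd]

theorem t_mem_centralizer : t ∈ Subgroup.centralizer ({t} : Set G) := by
  rw [Subgroup.mem_centralizer_iff]; intro h hh; rw [Set.mem_singleton_iff] at hh; rw [hh]

theorem emb_mem_centralizer (d : DihedralGroup 4) :
    emb t e d ∈ Subgroup.centralizer ({t} : Set G) := by
  rw [← range_emb t e]; exact ⟨d, rfl⟩

theorem mem_centralizer_iff_comm {x : G} :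
    x ∈ Subgroup.centralizer ({t} : Set G) ↔ x * t = t * x := by
  rw [Subgroup.mem_centralizer_iff]
  constructor
  · intro h; exact (h t rfl).symm
  · intro h y hy; rw [Set.mem_singleton_iff] at hy; rw [hy]; exact h.symm

/-- The only nontrivial element commuting with all of `C(t)` is `t`. -/
theorem central_eq (ht : orderOf t = 2) {x : G}
    (hx : ∀ d : DihedralGroup 4, emb t e d * x = x * emb t e d) (hx1 : x ≠ 1) : x = t := by
  have hxt : x * t = t * x := by
    have := hx (r 2)
    rw [emb_r2 t e ht] at this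
    exact this.symm
  obtain ⟨d, hd⟩ := exists_emb_of_comm t e hxt
  have hcent : ∀ y : DihedralGroup 4, y * d = d * y := by
    intro y
    apply emb_injective t e
    rw [map_mul, map_mul, hd]
    exact hx y
  have key : ∀ d : DihedralGroup 4, (∀ y : DihedralGroup 4, y * d = d * y) → d = 1 ∨ d = r 2 := by
    decide
  rcases key d hcent with h | h
  · exfalso; apply hx1; rw [← hd, h, map_one]
  · rw [← hd, h, emb_r2 t e ht]

include e in
/-- `C(t)` is self-normalizing. -/
theorem normalizer_le (ht : orderOf t = 2) :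
    Subgroup.normalizer ((Subgroup.centralizer ({t} : Set G) : Subgroup G) : Set G) ≤
      Subgroup.centralizer ({t} : Set G) := by
  intro n hn
  rw [Subgroup.mem_normalizer_iff] at hn
  have h1 : n * t * n⁻¹ = t := by
    apply central_eq t e ht
    · intro d
      have h2 : n⁻¹ * emb t e d * n ∈ Subgroup.centralizer ({t} : Set G) := by
        rw [hn (n⁻¹ * emb t e d * n)]
        have h3 : n * (n⁻¹ * emb t e d * n) * n⁻¹ = emb t e d := by group
        rw [h3]; exact emb_mem_centralizer t e d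
      have h3 := (mem_centralizer_iff_comm t).mp h2
      calc emb t e d * (n * t * n⁻¹) = n * ((n⁻¹ * emb t e d * n) * t) * n⁻¹ := by group
        _ = n * (t * (n⁻¹ * emb t e d * n)) * n⁻¹ := by rw [h3]
        _ = n * t * n⁻¹ * emb t e d := by group
    · intro h
      apply t_ne_one t ht
      calc t = n⁻¹ * (n * t * n⁻¹) * n := by group
        _ = 1 := by rw [h]; group
  rw [mem_centralizer_iff_comm]
  calc n * t = (n * t * n⁻¹) * n := by group
    _ = t * n := by rw [h1]

/-- The four-group `⟨t, emb (sr 0)⟩`, as the centralizer of these two elements. -/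
def vsub : Subgroup G := Subgroup.centralizer ({t, emb t e (sr 0)} : Set G)

theorem mem_vsub (ht : orderOf t = 2) {x : G} :
    x ∈ vsub t e ↔
      ∃ d : DihedralGroup 4, (d = 1 ∨ d = r 2 ∨ d = sr 0 ∨ d = sr 2) ∧ emb t e d = x := by
  unfold vsub
  rw [Subgroup.mem_centralizer_iff]
  constructor
  · intro h
    have h1 : t * x = x * t := h t (by simp)
    have h2 : emb t e (sr 0) * x = x * emb t e (sr 0) := h _ (by simp)
    obtain ⟨d, rfl⟩ := exists_emb_of_comm t e h1.symm
    refine ⟨d, ?_, rfl⟩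
    have h3 : sr 0 * d = d * sr 0 := by
      apply emb_injective t e
      rw [map_mul, map_mul]; exact h2
    have key : ∀ d : DihedralGroup 4, sr 0 * d = d * sr 0 →
        (d = 1 ∨ d = r 2 ∨ d = sr 0 ∨ d = sr 2) := by decide
    exact key d h3
  · rintro ⟨d, hd, rfl⟩ h hh
    rw [Set.mem_insert_iff, Set.mem_singleton_iff] at hh
    rcases hh with hh | hh
    · rw [hh]; exact (emb_mem t e d).symm
    · rw [hh, ← map_mul, ← map_mul]
      congr 1
      have key : ∀ d : DihedralGroup 4, (d = 1 ∨ d = r 2 ∨ d = sr 0 ∨ d = sr 2) →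
          sr 0 * d = d * sr 0 := by decide
      exact key d hd

theorem emb_mem_vsub_iff (ht : orderOf t = 2) (d : DihedralGroup 4) :
    emb t e d ∈ vsub t e ↔ (d = 1 ∨ d = r 2 ∨ d = sr 0 ∨ d = sr 2) := by
  rw [mem_vsub t e ht]
  constructor
  · rintro ⟨d', hd', h⟩
    rw [← emb_injective t e h]; exact hd'
  · intro h; exact ⟨d, h, rfl⟩

theorem t_mem_vsub (ht : orderOf t = 2) : t ∈ vsub t e :=
  (mem_vsub t e ht).mpr ⟨r 2, Or.inr (Or.inl rfl), emb_r2 t e ht⟩

theorem b_mem_vsub (ht : orderOf t = 2) : emb t e (sr 0) ∈ vsub t e :=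
  (mem_vsub t e ht).mpr ⟨sr 0, Or.inr (Or.inr (Or.inl rfl)), rfl⟩

theorem vsub_le (ht : orderOf t = 2) : vsub t e ≤ Subgroup.centralizer ({t} : Set G) := by
  intro x hx
  obtain ⟨d, -, rfl⟩ := (mem_vsub t e ht).mp hx
  exact emb_mem_centralizer t e d

theorem card_vsub (ht : orderOf t = 2) : Nat.card (vsub t e) = 4 := by
  have h0 : Nat.card (vsub t e) = Nat.card {x : G // x ∈ vsub t e} := rfl
  have hP : ∀ x : G, x ∈ vsub t e → x * t = t * x := fun x hx =>
    (mem_centralizer_iff_comm t).mp (vsub_le t e ht hx)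
  rw [h0, card_transport t e (fun x => x ∈ vsub t e) hP,
    Nat.card_congr (Equiv.subtypeEquivRight (emb_mem_vsub_iff t e ht)), Nat.card_eq_fintype_card]
  decide

theorem vsub_mul_self (ht : orderOf t = 2) {x : G} (hx : x ∈ vsub t e) : x * x = 1 := by
  obtain ⟨d, hd, rfl⟩ := (mem_vsub t e ht).mp hx
  rw [← map_mul]
  have key : ∀ d : DihedralGroup 4, (d = 1 ∨ d = r 2 ∨ d = sr 0 ∨ d = sr 2) → d * d = 1 := by
    decide
  rw [key d hd, map_one]

theorem vsub_comm (ht : orderOf t = 2) {x y : G} (hx : x ∈ vsub t e) (hy : y ∈ vsub t e) :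
    x * y = y * x := by
  obtain ⟨d, hd, rfl⟩ := (mem_vsub t e ht).mp hx
  obtain ⟨d', hd', rfl⟩ := (mem_vsub t e ht).mp hy
  rw [← map_mul, ← map_mul]
  have key : ∀ d d' : DihedralGroup 4, (d = 1 ∨ d = r 2 ∨ d = sr 0 ∨ d = sr 2) →
      (d' = 1 ∨ d' = r 2 ∨ d' = sr 0 ∨ d' = sr 2) → d * d' = d' * d := by decide
  rw [key d d' hd hd']

/-- Nontrivial elements of the four-group are `t`, `b`, `tb`. -/
theorem vsub_cases (ht : orderOf t = 2) {x : G} (hx : x ∈ vsub t e) (hx1 : x ≠ 1) :
    x = t ∨ x = emb t e (sr 0) ∨ x = emb t e (sr 2) := by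
  obtain ⟨d, hd, rfl⟩ := (mem_vsub t e ht).mp hx
  rcases hd with rfl | rfl | rfl | rfl
  · exact absurd (map_one _) hx1
  · exact Or.inl (emb_r2 t e ht)
  · exact Or.inr (Or.inl rfl)
  · exact Or.inr (Or.inr rfl)

theorem centralizer_le_normalizer_vsub (ht : orderOf t = 2) :
    Subgroup.centralizer ({t} : Set G) ≤ Subgroup.normalizer ((vsub t e : Subgroup G) : Set G) := by
  intro x hx
  rw [← range_emb t e] at hx
  obtain ⟨dx, rfl⟩ := hx
  rw [Subgroup.mem_normalizer_iff]
  intro h
  constructor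
  · intro hh
    obtain ⟨d, hd, rfl⟩ := (mem_vsub t e ht).mp hh
    rw [← map_inv, ← map_mul, ← map_mul, emb_mem_vsub_iff t e ht]
    have key : ∀ dx d : DihedralGroup 4, (d = 1 ∨ d = r 2 ∨ d = sr 0 ∨ d = sr 2) →
        (dx * d * dx⁻¹ = 1 ∨ dx * d * dx⁻¹ = r 2 ∨ dx * d * dx⁻¹ = sr 0 ∨
          dx * d * dx⁻¹ = sr 2) := by decide
    exact key dx d hd
  · intro hh
    obtain ⟨d, hd, hdh⟩ := (mem_vsub t e ht).mp hh
    have h1 : h = emb t e (dx⁻¹ * d * dx) := by
      rw [map_mul, map_mul, map_inv, hdh]; group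
    rw [h1, emb_mem_vsub_iff t e ht]
    have key : ∀ dx d : DihedralGroup 4, (d = 1 ∨ d = r 2 ∨ d = sr 0 ∨ d = sr 2) →
        (dx⁻¹ * d * dx = 1 ∨ dx⁻¹ * d * dx = r 2 ∨ dx⁻¹ * d * dx = sr 0 ∨
          dx⁻¹ * d * dx = sr 2) := by decide
    exact key dx d hd

theorem centralizer_vsub_le (ht : orderOf t = 2) :
    Subgroup.centralizer ((vsub t e : Subgroup G) : Set G) ≤ vsub t e := by
  intro x hx
  rw [Subgroup.mem_centralizer_iff] at hx
  have h1 := hx _ (t_mem_vsub t e ht)
  have h2 := hx _ (b_mem_vsub t e ht)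
  unfold vsub
  rw [Subgroup.mem_centralizer_iff]
  intro h hh
  rw [Set.mem_insert_iff, Set.mem_singleton_iff] at hh
  rcases hh with hh | hh
  · rw [hh]; exact h1
  · rw [hh]; exact h2

theorem relIndex_vsub [Finite G] (ht : orderOf t = 2) :
    (vsub t e).relIndex (Subgroup.centralizer ({t} : Set G)) = 2 := by
  have h1 := Subgroup.card_mul_index ((vsub t e).subgroupOf (Subgroup.centralizer ({t} : Set G)))
  have h2 : Nat.card ((vsub t e).subgroupOf (Subgroup.centralizer ({t} : Set G))) = 4 := by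
    rw [Nat.card_congr (Subgroup.subgroupOfEquivOfLe (vsub_le t e ht)).toEquiv, card_vsub t e ht]
  rw [h2, card_centralizer t e ht] at h1
  unfold Subgroup.relIndex
  omega

include e in
/-- Every involution of `G` is conjugate into `C(t)`. -/
theorem exists_conj_comm [Finite G] (ht : orderOf t = 2) (u : G) (hu : orderOf u = 2) :
    ∃ h : G, (h⁻¹ * u * h) * t = t * (h⁻¹ * u * h) := by
  haveI : Fact (Nat.Prime 2) := ⟨Nat.prime_two⟩
  obtain ⟨P, hP⟩ := exists_sylow t e ht
  have hU : IsPGroup 2 (Subgroup.zpowers u) :=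
    IsPGroup.of_card (n := 1) (by rw [Nat.card_zpowers, hu, pow_one])
  obtain ⟨h, -, hh⟩ := Cfsg.Agent.H11.exists_conj_le_of_le_of_sylow P (H := ⊤)
    (B := Subgroup.zpowers u) le_top le_top hU
  have h1 := hh (Subgroup.mem_zpowers u)
  rw [Cfsg.Agent.H11.mem_cj, hP] at h1
  exact ⟨h, (mem_centralizer_iff_comm t).mp h1⟩

end local_facts

/-- The isolated case: `G = C(t) O(G)`, given the Z*-theorem. -/
theorem isolated_case (hZ : ZStarAt.{u}) {G : Type u} [Group G] [Finite G] (t : G)
    (e : Subgroup.centralizer ({t} : Set G) ≃* DihedralGroup 4) (ht : orderOf t = 2)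
    (hiso : ∀ g : G, g * t * g⁻¹ * t = t * (g * t * g⁻¹) → g * t * g⁻¹ = t) :
    Subgroup.centralizer ({t} : Set G) ⊔ Cfsg.oddCore G = ⊤ := by
  haveI : Fact (Nat.Prime 2) := ⟨Nat.prime_two⟩
  obtain ⟨P, hP⟩ := exists_sylow t e ht
  have htP : t ∈ P := by
    have h1 : t ∈ (P : Subgroup G) := by rw [hP]; exact t_mem_centralizer t
    exact h1
  have hiso' : ∀ g : G, g * t * g⁻¹ ∈ P → g * t * g⁻¹ = t := by
    intro g hg
    have h1 : g * t * g⁻¹ ∈ (P : Subgroup G) := hg
    rw [hP] at h1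
    exact hiso g ((mem_centralizer_iff_comm t).mp h1)
  have hcomm : ∀ g : G, t * g * t⁻¹ * g⁻¹ ∈ Cfsg.oddCore G :=
    fun g => ZStarAt.mem_oddCore hZ P t ht htP hiso' g
  have hM : (Nat.card ↥(Cfsg.oddCore G)).Coprime 2 :=
    Nat.coprime_two_right.mpr (odd_card_oddCore G)
  have hn : (Cfsg.oddCore G).Normal := inferInstance
  rw [eq_top_iff]
  intro g _
  obtain ⟨m, hm, hfix⟩ := exists_fixed_in_coset_of_orderOf (p := 2) (Cfsg.oddCore G) hM t ht g
    (by
      intro m hm
      have h1 : g⁻¹ * (t * (g * m) * t⁻¹) = (g⁻¹ * (t * g * t⁻¹ * g⁻¹) * g⁻¹⁻¹) * (t * m * t⁻¹) := by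
        group
      rw [h1]
      exact (Cfsg.oddCore G).mul_mem (hn.conj_mem _ (hcomm g) g⁻¹) (hn.conj_mem _ hm t))
  have h2 : g * m ∈ Subgroup.centralizer ({t} : Set G) := by
    rw [mem_centralizer_iff_comm]
    calc g * m * t = (t * (g * m) * t⁻¹) * t := by rw [hfix]
      _ = t * (g * m) := by group
  have h3 : g = (g * m) * m⁻¹ := by group
  rw [h3]
  exact Subgroup.mul_mem_sup h2 ((Cfsg.oddCore G).inv_mem hm)

/-- Recognition of a symmetric group by a faithful coset action of the right degree. -/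
theorem equiv_perm_of_index {G : Type*} [Group G] [Finite G] (H : Subgroup G) (n : ℕ)
    (hcore : H.normalCore = ⊥) (hidx : H.index = n) (hcard : Nat.card G = n.factorial) :
    Nonempty (G ≃* Equiv.Perm (Fin n)) := by
  classical
  have hinj : Function.Injective (MulAction.toPermHom G (G ⧸ H)) := by
    rw [← MonoidHom.ker_eq_bot_iff, ← Subgroup.normalCore_eq_ker, hcore]
  have hcq : Nat.card (G ⧸ H) = n := by rw [← Subgroup.index_eq_card]; exact hidx
  have hcp : Nat.card (Equiv.Perm (G ⧸ H)) = n.factorial := by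
    rw [Nat.card_perm, hcq]
  have hbij : Function.Bijective (MulAction.toPermHom G (G ⧸ H)) := by
    rw [Nat.bijective_iff_injective_and_card]
    exact ⟨hinj, by rw [hcard, hcp]⟩
  have e1 : G ≃* Equiv.Perm (G ⧸ H) := MulEquiv.ofBijective _ hbij
  have e2 : (G ⧸ H) ≃ Fin n := Finite.equivFinOfCardEq hcq
  exact ⟨e1.trans e2.permCongrHom⟩

end Cfsg.Agent.H27.D8
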