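import Mathlib
import Cfsg.Agent.H27.D8A
import Cfsg.Agent.S3277

/-!
# Groups with an involution whose centralizer is dihedral of order 8, part B (helper27)

The case where `t` is conjugate to `sr 0` but not to `sr 1`: Thompson transfer gives a normal
subgroup `M` of index two in which `C_M(t)` is a four-group; helper60's S3277 then gives
`M ≅ A₅` or a normal four-group, and `G ≅ S₅` or `G ≅ S₄`.
-/

set_option autoImplicit false
set_option linter.unusedSectionVars false
set_option linter.style.haveILetI false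
set_option linter.unusedVariables false

namespace Cfsg.Agent.H27.D8

open DihedralGroup Cfsg.Agent.H5.D8Local

/-- Finite normalizer criterion. -/
theorem mem_normalizer_of_conj_mem {G : Type*} [Group G] (H : Subgroup G) [Finite H] (g : G)
    (h : ∀ x ∈ H, g * x * g⁻¹ ∈ H) : g ∈ Subgroup.normalizer (H : Set G) := by
  rw [Subgroup.mem_normalizer_iff]
  intro x
  refine ⟨h x, fun hx => ?_⟩
  let f : ↥H → ↥H := fun y => ⟨g * y * g⁻¹, h y y.2⟩
  have hinj : Function.Injective f := by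
    intro y y' hyy
    have h1 : g * (y : G) * g⁻¹ = g * (y' : G) * g⁻¹ := congrArg Subtype.val hyy
    apply Subtype.ext
    calc (y : G) = g⁻¹ * (g * y * g⁻¹) * g := by group
      _ = g⁻¹ * (g * y' * g⁻¹) * g := by rw [h1]
      _ = y' := by group
  obtain ⟨y, hy⟩ := Finite.surjective_of_injective hinj ⟨g * x * g⁻¹, hx⟩
  have h1 : g * (y : G) * g⁻¹ = g * x * g⁻¹ := congrArg Subtype.val hy
  have h2 : x = y := by
    calc x = g⁻¹ * (g * x * g⁻¹) * g := by group
      _ = g⁻¹ * (g * y * g⁻¹) * g := by rw [h1]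
      _ = y := by group
  rw [h2]; exact y.2

/-- A normal subgroup with a unique nontrivial element: that element is central. -/
theorem central_of_unique {G : Type*} [Group G] (K : Subgroup G) [hK : K.Normal] {k : G}
    (hk : k ∈ K) (hk1 : k ≠ 1) (huniq : ∀ x ∈ K, x ≠ 1 → x = k) (g : G) : g * k * g⁻¹ = k := by
  apply huniq _ (hK.conj_mem k hk g)
  intro h
  apply hk1
  calc k = g⁻¹ * (g * k * g⁻¹) * g := by group
    _ = 1 := by rw [h]; group

section caseB

variable {G : Type*} [Group G] [Finite G] (t : G)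
  (e : Subgroup.centralizer ({t} : Set G) ≃* DihedralGroup 4)

theorem t_ne_b (ht : orderOf t = 2) : t ≠ emb t e (sr 0) := by
  intro h
  have h2 : emb t e (r 2) = emb t e (sr 0) := (emb_r2 t e ht).trans h
  exact absurd (emb_injective t e h2) (by decide)

/-- There is no nontrivial central element when `t` is conjugate to `sr 0`. -/
theorem no_central (ht : orderOf t = 2) (hb : ∃ g : G, g * t * g⁻¹ = emb t e (sr 0)) (k : G)
    (hk1 : k ≠ 1) (hk : ∀ g : G, g * k * g⁻¹ = k) : False := by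
  have h1 : k = t := by
    apply central_eq t e ht _ hk1
    intro d
    calc emb t e d * k = (emb t e d * k * (emb t e d)⁻¹) * emb t e d := by group
      _ = k * emb t e d := by rw [hk]
  obtain ⟨g, hg⟩ := hb
  rw [h1] at hk
  exact t_ne_b t e ht ((hk g).symm.trans hg)

/-- There is no normal subgroup of order two when `t` is conjugate to `sr 0`. -/
theorem no_normal_card_two (ht : orderOf t = 2) (hb : ∃ g : G, g * t * g⁻¹ = emb t e (sr 0))
    (K : Subgroup G) [hK : K.Normal] (hK2 : Nat.card K = 2) : False := by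
  obtain ⟨y, hy1, hyu⟩ := (Nat.card_eq_two_iff' (1 : ↥K)).mp hK2
  have hyG : (y : G) ≠ 1 := fun h => hy1 (Subtype.ext h)
  have huniq : ∀ x ∈ K, x ≠ 1 → x = (y : G) := by
    intro x hx hx1
    have h1 : (⟨x, hx⟩ : ↥K) = y := hyu _ (fun h => hx1 (congrArg Subtype.val h))
    exact congrArg Subtype.val h1
  exact no_central t e ht hb (y : G) hyG (central_of_unique K y.2 hyG huniq)

/-- Nontrivial elements of the four-group are conjugate to `t`. -/
theorem conj_t_of_mem_vsub (ht : orderOf t = 2) (hb : ∃ g : G, g * t * g⁻¹ = emb t e (sr 0))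
    {x : G} (hx : x ∈ vsub t e) (hx1 : x ≠ 1) : ∃ h : G, h * t * h⁻¹ = x := by
  obtain ⟨g, hg⟩ := hb
  rcases vsub_cases t e ht hx hx1 with h | h | h
  · exact ⟨1, by rw [h]; group⟩
  · exact ⟨g, by rw [h]; exact hg⟩
  · refine ⟨emb t e (r 1) * g, ?_⟩
    have hdd : (r 1 : DihedralGroup 4) * sr 0 * (r 1)⁻¹ = sr 2 := by decide
    rw [h]
    calc emb t e (r 1) * g * t * (emb t e (r 1) * g)⁻¹
        = emb t e (r 1) * (g * t * g⁻¹) * (emb t e (r 1))⁻¹ := by group
      _ = emb t e (r 1 * sr 0 * (r 1)⁻¹) := by rw [hg, map_mul, map_mul, map_inv]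
      _ = emb t e (sr 2) := by rw [hdd]

/-- Thompson transfer: a normal subgroup of index two avoiding `sr 1`. -/
theorem exists_index_two (ht : orderOf t = 2) (hb : ∃ g : G, g * t * g⁻¹ = emb t e (sr 0))
    (hnc : ∀ g : G, g * t * g⁻¹ ≠ emb t e (sr 1)) :
    ∃ M : Subgroup G, M.Normal ∧ M.index = 2 ∧ emb t e (sr 1) ∉ M := by
  haveI : Fact (Nat.Prime 2) := ⟨Nat.prime_two⟩
  obtain ⟨P, hP⟩ := exists_sylow t e ht
  have hQP : vsub t e ≤ (P : Subgroup G) := by rw [hP]; exact vsub_le t e ht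
  have hQi : (vsub t e).relIndex (P : Subgroup G) = 2 := by rw [hP]; exact relIndex_vsub t e ht
  have hc1 : emb t e (sr 1) ≠ 1 := by
    rw [Ne, emb_eq_one_iff]; decide
  have hc2 : orderOf (emb t e (sr 1)) = 2 := by
    apply orderOf_eq_prime
    · rw [pow_two, ← map_mul]
      have h : (sr 1 : DihedralGroup 4) * sr 1 = 1 := by decide
      rw [h, map_one]
    · exact hc1
  have huQ : ∀ g : G, g * emb t e (sr 1) * g⁻¹ ∉ vsub t e := by
    intro g hg
    have h1 : g * emb t e (sr 1) * g⁻¹ ≠ 1 := by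
      intro h
      apply hc1
      calc emb t e (sr 1) = g⁻¹ * (g * emb t e (sr 1) * g⁻¹) * g := by group
        _ = 1 := by rw [h]; group
    obtain ⟨h, hh⟩ := conj_t_of_mem_vsub t e ht hb hg h1
    apply hnc (g⁻¹ * h)
    calc g⁻¹ * h * t * (g⁻¹ * h)⁻¹ = g⁻¹ * (h * t * h⁻¹) * g := by group
      _ = g⁻¹ * (g * emb t e (sr 1) * g⁻¹) * g := by rw [hh]
      _ = emb t e (sr 1) := by group
  exact Cfsg.Agent.H60.thompson_transfer P (vsub t e) hQP hQi _ hc2 huQ

include e in
theorem not_sixteen_dvd (ht : orderOf t = 2) : ¬ 16 ∣ Nat.card G := by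
  haveI : Fact (Nat.Prime 2) := ⟨Nat.prime_two⟩
  obtain ⟨P, hP⟩ := exists_sylow t e ht
  have h1 := Subgroup.card_mul_index (P : Subgroup G)
  have h2 : ¬ 2 ∣ (P : Subgroup G).index := P.not_dvd_index
  rw [hP] at h1 h2
  rw [card_centralizer t e ht] at h1
  intro h16
  apply h2
  rw [← h1] at h16
  have h3 : 8 * 2 ∣ 8 * (Subgroup.centralizer ({t} : Set G)).index := h16
  exact (Nat.mul_dvd_mul_iff_left (by norm_num)).mp h3

/-- The conjugate of the element of order four normalizes the four-group. -/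
theorem conj_a_mem_normalizer (ht : orderOf t = 2) {g : G}
    (hg : g * t * g⁻¹ = emb t e (sr 0)) :
    g * emb t e (r 1) * g⁻¹ ∈ Subgroup.normalizer ((vsub t e : Subgroup G) : Set G) := by
  have htt := t_mul_t t ht
  -- `a` commutes with `t`
  have hat : emb t e (r 1) * t = t * emb t e (r 1) := emb_mem t e (r 1)
  -- conjugate of `b`
  have h1 : (g * emb t e (r 1) * g⁻¹) * emb t e (sr 0) * (g * emb t e (r 1) * g⁻¹)⁻¹ =
      emb t e (sr 0) := by
    rw [← hg]
    calc g * emb t e (r 1) * g⁻¹ * (g * t * g⁻¹) * (g * emb t e (r 1) * g⁻¹)⁻¹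
        = g * (emb t e (r 1) * t) * (emb t e (r 1))⁻¹ * g⁻¹ := by group
      _ = g * (t * emb t e (r 1)) * (emb t e (r 1))⁻¹ * g⁻¹ := by rw [hat]
      _ = g * t * g⁻¹ := by group
  -- `t' = g⁻¹ t g` lies in `C(t)`
  have hbt : emb t e (sr 0) * t = t * emb t e (sr 0) := emb_mem t e (sr 0)
  have ht' : (g⁻¹ * t * g) * t = t * (g⁻¹ * t * g) := by
    rw [← hg] at hbt
    calc (g⁻¹ * t * g) * t = g⁻¹ * (t * (g * t * g⁻¹)) * g := by group
      _ = g⁻¹ * ((g * t * g⁻¹) * t) * g := by rw [hbt]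
      _ = t * (g⁻¹ * t * g) := by group
  obtain ⟨d, hd⟩ := exists_emb_of_comm t e ht'
  have hd1 : d * d = 1 := by
    apply emb_injective t e
    rw [map_mul, hd, map_one]
    calc g⁻¹ * t * g * (g⁻¹ * t * g) = g⁻¹ * (t * t) * g := by group
      _ = 1 := by rw [htt]; group
  have hd2 : d ≠ 1 := by
    rintro rfl
    rw [map_one] at hd
    apply t_ne_one t ht
    calc t = g * (g⁻¹ * t * g) * g⁻¹ := by group
      _ = 1 := by rw [← hd]; group
  have hd3 : d ≠ r 2 := by
    rintro rfl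
    rw [emb_r2 t e ht] at hd
    apply t_ne_b t e ht
    rw [← hg]
    calc t = g * (g⁻¹ * t * g) * g⁻¹ := by group
      _ = g * t * g⁻¹ := by rw [← hd]
  have key : ∀ d : DihedralGroup 4, d * d = 1 → d ≠ 1 → d ≠ r 2 →
      r 1 * d * (r 1)⁻¹ = d * r 2 := by decide
  have h2 : emb t e (r 1) * (g⁻¹ * t * g) * (emb t e (r 1))⁻¹ = (g⁻¹ * t * g) * t := by
    rw [← hd, ← map_inv, ← map_mul, ← map_mul, key d hd1 hd2 hd3, map_mul, emb_r2 t e ht]
  -- conjugate of `t`
  have h3 : (g * emb t e (r 1) * g⁻¹) * t * (g * emb t e (r 1) * g⁻¹)⁻¹ =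
      t * emb t e (sr 0) := by
    rw [← hg]
    calc g * emb t e (r 1) * g⁻¹ * t * (g * emb t e (r 1) * g⁻¹)⁻¹
        = g * (emb t e (r 1) * (g⁻¹ * t * g) * (emb t e (r 1))⁻¹) * g⁻¹ := by group
      _ = g * ((g⁻¹ * t * g) * t) * g⁻¹ := by rw [h2]
      _ = t * (g * t * g⁻¹) := by group
  have htV := t_mem_vsub t e ht
  have hbV := b_mem_vsub t e ht
  apply mem_normalizer_of_conj_mem
  intro x hx
  by_cases hx1 : x = 1
  · rw [hx1]
    have h4 : g * emb t e (r 1) * g⁻¹ * 1 * (g * emb t e (r 1) * g⁻¹)⁻¹ = 1 := by group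
    rw [h4]; exact Subgroup.one_mem _
  · rcases vsub_cases t e ht hx hx1 with h | h | h
    · rw [h, h3]; exact Subgroup.mul_mem _ htV hbV
    · rw [h, h1]; exact hbV
    · have hd22 : (sr 2 : DihedralGroup 4) = r 2 * sr 0 := by decide
      rw [h, hd22, map_mul, emb_r2 t e ht]
      have h5 : g * emb t e (r 1) * g⁻¹ * (t * emb t e (sr 0)) * (g * emb t e (r 1) * g⁻¹)⁻¹ =
          (g * emb t e (r 1) * g⁻¹ * t * (g * emb t e (r 1) * g⁻¹)⁻¹) *
          (g * emb t e (r 1) * g⁻¹ * emb t e (sr 0) * (g * emb t e (r 1) * g⁻¹)⁻¹) := by group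
      rw [h5, h3, h1]
      exact Subgroup.mul_mem _ (Subgroup.mul_mem _ htV hbV) hbV

/-- The normalizer of the four-group has order 24. -/
theorem card_normalizer_vsub (ht : orderOf t = 2) (hb : ∃ g : G, g * t * g⁻¹ = emb t e (sr 0)) :
    Nat.card (Subgroup.normalizer ((vsub t e : Subgroup G) : Set G)) = 24 := by
  classical
  have hCN : Subgroup.centralizer ({t} : Set G) ≤
      Subgroup.normalizer ((vsub t e : Subgroup G) : Set G) :=
    centralizer_le_normalizer_vsub t e ht
  have hconj : ∀ n : ↥(Subgroup.normalizer ((vsub t e : Subgroup G) : Set G)),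
      (n : G) * t * (n : G)⁻¹ ∈ vsub t e := by
    intro n
    exact ((Subgroup.mem_normalizer_iff.mp n.2) t).mp (t_mem_vsub t e ht)
  let f : ↥(Subgroup.normalizer ((vsub t e : Subgroup G) : Set G)) → ↥(vsub t e) :=
    fun n => ⟨(n : G) * t * (n : G)⁻¹, hconj n⟩
  have hs : ∀ v : ↥(vsub t e),
      ∃ n : ↥(Subgroup.normalizer ((vsub t e : Subgroup G) : Set G)),
        (∃ n' : ↥(Subgroup.normalizer ((vsub t e : Subgroup G) : Set G)), f n' = v) → f n = v := by
    intro v
    by_cases h : ∃ n' : ↥(Subgroup.normalizer ((vsub t e : Subgroup G) : Set G)), f n' = v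
    · obtain ⟨n', hn'⟩ := h
      exact ⟨n', fun _ => hn'⟩
    · exact ⟨1, fun h' => absurd h' h⟩
  choose s hs using hs
  have hmem : ∀ n : ↥(Subgroup.normalizer ((vsub t e : Subgroup G) : Set G)),
      ((s (f n) : ↥(Subgroup.normalizer ((vsub t e : Subgroup G) : Set G))) : G)⁻¹ * (n : G) ∈
        Subgroup.centralizer ({t} : Set G) := by
    intro n
    have h1 : f (s (f n)) = f n := hs (f n) ⟨n, rfl⟩
    have h2 : ((s (f n) : ↥(Subgroup.normalizer ((vsub t e : Subgroup G) : Set G))) : G) * t *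
        ((s (f n) : ↥(Subgroup.normalizer ((vsub t e : Subgroup G) : Set G))) : G)⁻¹ =
        (n : G) * t * (n : G)⁻¹ := congrArg Subtype.val h1
    rw [mem_centralizer_iff_comm]
    generalize ((s (f n) : ↥(Subgroup.normalizer ((vsub t e : Subgroup G) : Set G))) : G) = σ at h2 ⊢
    calc σ⁻¹ * (n : G) * t = σ⁻¹ * ((n : G) * t * (n : G)⁻¹) * n := by group
      _ = σ⁻¹ * (σ * t * σ⁻¹) * n := by rw [h2]
      _ = t * (σ⁻¹ * (n : G)) := by group
  let F : ↥(Subgroup.normalizer ((vsub t e : Subgroup G) : Set G)) →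
      ↥(vsub t e) × ↥(Subgroup.centralizer ({t} : Set G)) := fun n => (f n, ⟨_, hmem n⟩)
  have hFinj : Function.Injective F := by
    intro n n' h
    have h1 : f n = f n' := congrArg Prod.fst h
    have h2 : ((s (f n) : ↥(Subgroup.normalizer ((vsub t e : Subgroup G) : Set G))) : G)⁻¹ * (n : G)
        = ((s (f n') : ↥(Subgroup.normalizer ((vsub t e : Subgroup G) : Set G))) : G)⁻¹ * (n' : G) :=
      congrArg (fun p : ↥(vsub t e) × ↥(Subgroup.centralizer ({t} : Set G)) => (p.2 : G)) h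
    rw [h1] at h2
    exact Subtype.ext (mul_left_cancel h2)
  have hle : Nat.card ↥(Subgroup.normalizer ((vsub t e : Subgroup G) : Set G)) ≤ 32 := by
    have h1 := Nat.card_le_card_of_injective F hFinj
    rw [Nat.card_prod, card_vsub t e ht, card_centralizer t e ht] at h1
    exact h1
  have h8 : 8 ∣ Nat.card ↥(Subgroup.normalizer ((vsub t e : Subgroup G) : Set G)) := by
    have h := Subgroup.card_dvd_of_le hCN
    rwa [card_centralizer t e ht] at h
  have hdvd : Nat.card ↥(Subgroup.normalizer ((vsub t e : Subgroup G) : Set G)) ∣ Nat.card G :=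
    Subgroup.card_subgroup_dvd_card _
  have h16 := not_sixteen_dvd t e ht
  have hne : Nat.card ↥(Subgroup.normalizer ((vsub t e : Subgroup G) : Set G)) ≠ 8 := by
    intro h8'
    have hCeq : Subgroup.centralizer ({t} : Set G) =
        Subgroup.normalizer ((vsub t e : Subgroup G) : Set G) :=
      Subgroup.eq_of_le_of_card_ge hCN (by rw [h8', card_centralizer t e ht])
    obtain ⟨g, hg⟩ := hb
    have ha' := conj_a_mem_normalizer t e ht hg
    rw [← hCeq, mem_centralizer_iff_comm] at ha'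
    obtain ⟨d, hd⟩ := exists_emb_of_comm t e ha'
    have hdd : d * d = sr 0 := by
      apply emb_injective t e
      have h2 : (r 1 : DihedralGroup 4) * r 1 = r 2 := by decide
      rw [map_mul, hd]
      calc g * emb t e (r 1) * g⁻¹ * (g * emb t e (r 1) * g⁻¹)
          = g * (emb t e (r 1) * emb t e (r 1)) * g⁻¹ := by group
        _ = g * t * g⁻¹ := by rw [← map_mul, h2, emb_r2 t e ht]
        _ = emb t e (sr 0) := hg
    have key : ∀ d : DihedralGroup 4, d * d ≠ sr 0 := by decide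
    exact key d hdd
  obtain ⟨j, hj⟩ := h8
  have hpos : 0 < Nat.card ↥(Subgroup.normalizer ((vsub t e : Subgroup G) : Set G)) := Nat.card_pos
  rw [hj] at hle hne hdvd hpos ⊢
  have hjodd : ¬ 2 ∣ j := by
    intro h2
    apply h16
    obtain ⟨i, hi⟩ := h2
    exact Dvd.dvd.trans ⟨i, by rw [hi]; ring⟩ hdvd
  have hj4 : j ≤ 4 := by omega
  have hj0 : 0 < j := by omega
  interval_cases j <;> omega

section withM

variable (M : Subgroup G) [hMn : M.Normal]

theorem emb_mem_M_iff (ht : orderOf t = 2) (hb : ∃ g : G, g * t * g⁻¹ = emb t e (sr 0))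
    (hMi : M.index = 2) (hcM : emb t e (sr 1) ∉ M) (d : DihedralGroup 4) :
    emb t e d ∈ M ↔ (d = 1 ∨ d = r 2 ∨ d = sr 0 ∨ d = sr 2) := by
  have htM : t ∈ M := by
    have h1 := Subgroup.mul_self_mem_of_index_two hMi (emb t e (r 1))
    rw [← map_mul] at h1
    have h2 : (r 1 : DihedralGroup 4) * r 1 = r 2 := by decide
    rw [h2, emb_r2 t e ht] at h1
    exact h1
  have hbM : emb t e (sr 0) ∈ M := by
    obtain ⟨g, hg⟩ := hb
    rw [← hg]; exact hMn.conj_mem t htM g
  have h22 : emb t e (sr 2) ∈ M := by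
    have h2 : (sr 2 : DihedralGroup 4) = r 2 * sr 0 := by decide
    rw [h2, map_mul, emb_r2 t e ht]; exact M.mul_mem htM hbM
  have hall : ∀ k : DihedralGroup 4, (k = 1 ∨ k = r 2 ∨ k = sr 0 ∨ k = sr 2) → emb t e k ∈ M := by
    rintro k (rfl | rfl | rfl | rfl)
    · rw [map_one]; exact M.one_mem
    · rw [emb_r2 t e ht]; exact htM
    · exact hbM
    · exact h22
  constructor
  · intro hd
    by_contra hcon
    have key : ∀ d : DihedralGroup 4, ¬ (d = 1 ∨ d = r 2 ∨ d = sr 0 ∨ d = sr 2) →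
        ∃ k : DihedralGroup 4, (k = 1 ∨ k = r 2 ∨ k = sr 0 ∨ k = sr 2) ∧ sr 1 = d * k := by
      decide
    obtain ⟨k, hk, hdk⟩ := key d hcon
    apply hcM
    rw [hdk, map_mul]
    exact M.mul_mem hd (hall k hk)
  · exact hall d

theorem vsub_le_M (ht : orderOf t = 2) (hb : ∃ g : G, g * t * g⁻¹ = emb t e (sr 0))
    (hMi : M.index = 2) (hcM : emb t e (sr 1) ∉ M) : vsub t e ≤ M := by
  intro x hx
  obtain ⟨d, hd, rfl⟩ := (mem_vsub t e ht).mp hx
  exact (emb_mem_M_iff t e M ht hb hMi hcM d).mpr hd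

theorem mem_vsub_of_mem_M (ht : orderOf t = 2) (hb : ∃ g : G, g * t * g⁻¹ = emb t e (sr 0))
    (hMi : M.index = 2) (hcM : emb t e (sr 1) ∉ M) {x : G} (hx : x ∈ M)
    (hxt : x * t = t * x) : x ∈ vsub t e := by
  obtain ⟨d, rfl⟩ := exists_emb_of_comm t e hxt
  exact (emb_mem_vsub_iff t e ht d).mpr ((emb_mem_M_iff t e M ht hb hMi hcM d).mp hx)

theorem exists_conj_in_M (ht : orderOf t = 2) (hb : ∃ g : G, g * t * g⁻¹ = emb t e (sr 0))
    (hMi : M.index = 2) (hcM : emb t e (sr 1) ∉ M) :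
    ∃ g ∈ M, g * t * g⁻¹ = emb t e (sr 0) := by
  obtain ⟨g, hg⟩ := hb
  by_cases hgM : g ∈ M
  · exact ⟨g, hgM, hg⟩
  · refine ⟨g * emb t e (sr 1), ?_, ?_⟩
    · rw [Subgroup.mul_mem_iff_of_index_two hMi]
      exact ⟨fun h => absurd h hgM, fun h => absurd h hcM⟩
    · have h1 := emb_mem t e (sr 1)
      calc g * emb t e (sr 1) * t * (g * emb t e (sr 1))⁻¹
          = g * (emb t e (sr 1) * t) * (emb t e (sr 1))⁻¹ * g⁻¹ := by group
        _ = g * (t * emb t e (sr 1)) * (emb t e (sr 1))⁻¹ * g⁻¹ := by rw [h1]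
        _ = g * t * g⁻¹ := by group
        _ = emb t e (sr 0) := hg

theorem card_subgroupOf_vsub (ht : orderOf t = 2) (hb : ∃ g : G, g * t * g⁻¹ = emb t e (sr 0))
    (hMi : M.index = 2) (hcM : emb t e (sr 1) ∉ M) :
    Nat.card ((vsub t e).subgroupOf M) = 4 := by
  rw [Nat.card_congr (Subgroup.subgroupOfEquivOfLe (vsub_le_M t e M ht hb hMi hcM)).toEquiv,
    card_vsub t e ht]

/-- Sylow 2-subgroups of `M` have order four. -/
theorem card_sylow_M (ht : orderOf t = 2) (hb : ∃ g : G, g * t * g⁻¹ = emb t e (sr 0))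
    (hMi : M.index = 2) (hcM : emb t e (sr 1) ∉ M) (Q : Sylow 2 ↥M) :
    Nat.card (Q : Subgroup ↥M) = 4 := by
  haveI : Fact (Nat.Prime 2) := ⟨Nat.prime_two⟩
  have hV'card := card_subgroupOf_vsub t e M ht hb hMi hcM
  have hV' : IsPGroup 2 ((vsub t e).subgroupOf M) :=
    IsPGroup.of_card (n := 2) (by rw [hV'card]; norm_num)
  obtain ⟨Q0, hQ0⟩ := hV'.exists_le_sylow
  have h4 : 4 ∣ Nat.card (Q0 : Subgroup ↥M) := by
    have h := Subgroup.card_dvd_of_le hQ0
    rwa [hV'card] at h
  have hM2 : Nat.card ↥M * 2 = Nat.card G := by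
    have h := Subgroup.card_mul_index M
    rwa [hMi] at h
  have h8 : ¬ 8 ∣ Nat.card (Q0 : Subgroup ↥M) := by
    intro h
    apply not_sixteen_dvd t e ht
    have h1 : 8 ∣ Nat.card ↥M := h.trans (Subgroup.card_subgroup_dvd_card _)
    rw [← hM2]
    obtain ⟨i, hi⟩ := h1
    exact ⟨i, by rw [hi]; ring⟩
  obtain ⟨n, hn⟩ := IsPGroup.iff_card.mp Q0.isPGroup'
  have hQ0card : Nat.card (Q0 : Subgroup ↥M) = 4 := by
    rw [hn] at h4 h8 ⊢
    have hn3 : n < 3 := by
      by_contra hge
      push Not at hge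
      apply h8
      have h83 : (8 : ℕ) = 2 ^ 3 := by norm_num
      rw [h83]; exact pow_dvd_pow 2 hge
    interval_cases n
    · norm_num at h4
    · norm_num at h4
    · norm_num
  have hQ := Sylow.card_eq_multiplicity Q
  have hQ0 := Sylow.card_eq_multiplicity Q0
  have hQQ0 : Nat.card (Q : Subgroup ↥M) = Nat.card (Q0 : Subgroup ↥M) := hQ.trans hQ0.symm
  rw [hQQ0, hQ0card]

/-- `M` has no normal 2-complement. -/
theorem no_complement (ht : orderOf t = 2) (hb : ∃ g : G, g * t * g⁻¹ = emb t e (sr 0))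
    (hMi : M.index = 2) (hcM : emb t e (sr 1) ∉ M) : ¬ Cfsg.HasNormalPComplement 2 ↥M := by
  haveI : Fact (Nat.Prime 2) := ⟨Nat.prime_two⟩
  rintro ⟨P', N', hN'n, hcompl⟩
  have hP'card := card_sylow_M t e M ht hb hMi hcM P'
  have hidx : N'.index = 4 := by
    rw [← hP'card]; exact hcompl.symm.index_eq_card
  have hodd : ¬ 2 ∣ Nat.card ↥N' := by
    rw [← hcompl.index_eq_card]
    exact P'.not_dvd_index
  have hq : Nat.card (↥M ⧸ N') = 2 ^ 2 := by
    rw [← Subgroup.index_eq_card, hidx]; norm_num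
  have hcomm := IsPGroup.commutative_of_card_eq_prime_sq hq
  obtain ⟨g, hgM, hg⟩ := exists_conj_in_M t e M ht hb hMi hcM
  have hVM := vsub_le_M t e M ht hb hMi hcM
  have htM : t ∈ M := hVM (t_mem_vsub t e ht)
  have hbM : emb t e (sr 0) ∈ M := hVM (b_mem_vsub t e ht)
  have h1 : (QuotientGroup.mk (⟨emb t e (sr 0), hbM⟩ : ↥M) : ↥M ⧸ N') =
      QuotientGroup.mk (⟨t, htM⟩ : ↥M) := by
    have h2 : (⟨emb t e (sr 0), hbM⟩ : ↥M) = ⟨g, hgM⟩ * ⟨t, htM⟩ * ⟨g, hgM⟩⁻¹ :=
      Subtype.ext hg.symm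
    rw [h2, QuotientGroup.mk_mul, QuotientGroup.mk_mul, QuotientGroup.mk_inv,
      hcomm (QuotientGroup.mk _) (QuotientGroup.mk _), mul_inv_cancel_right]
  have h3 : (⟨emb t e (sr 0), hbM⟩ : ↥M)⁻¹ * ⟨t, htM⟩ ∈ N' := QuotientGroup.eq.mp h1
  have hw1 : (⟨emb t e (sr 0), hbM⟩ : ↥M)⁻¹ * ⟨t, htM⟩ ≠ 1 := by
    intro h
    have h4 : (emb t e (sr 0))⁻¹ * t = 1 := congrArg Subtype.val h
    apply t_ne_b t e ht
    calc t = emb t e (sr 0) * ((emb t e (sr 0))⁻¹ * t) := by group
      _ = emb t e (sr 0) := by rw [h4, mul_one]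
  have hw2 : ((⟨emb t e (sr 0), hbM⟩ : ↥M)⁻¹ * ⟨t, htM⟩) ^ 2 = 1 := by
    apply Subtype.ext
    have h5 : (emb t e (sr 0))⁻¹ * t ∈ vsub t e :=
      Subgroup.mul_mem _ (Subgroup.inv_mem _ (b_mem_vsub t e ht)) (t_mem_vsub t e ht)
    have h6 := vsub_mul_self t e ht h5
    rw [pow_two]
    exact h6
  have hord := orderOf_eq_prime hw2 hw1
  apply hodd
  rw [← hord]
  exact Subgroup.orderOf_dvd_natCard N' h3

/-- `M` has no normal subgroup of order two. -/
theorem no_normal_two (ht : orderOf t = 2) (hb : ∃ g : G, g * t * g⁻¹ = emb t e (sr 0))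
    (hMi : M.index = 2) (hcM : emb t e (sr 1) ∉ M) (E : Subgroup ↥M) (hEn : E.Normal)
    (hE2 : Nat.card E = 2) : False := by
  obtain ⟨y, hy1, hyu⟩ := (Nat.card_eq_two_iff' (1 : ↥E)).mp hE2
  have hyM : (y : ↥M) ≠ 1 := fun h => hy1 (Subtype.ext h)
  have huniq : ∀ x ∈ E, x ≠ 1 → x = (y : ↥M) := by
    intro x hx hx1
    have h1 : (⟨x, hx⟩ : ↥E) = y := hyu _ (fun h => hx1 (congrArg Subtype.val h))
    exact congrArg Subtype.val h1
  have hcent : ∀ m : ↥M, m * (y : ↥M) * m⁻¹ = (y : ↥M) := central_of_unique E y.2 hyM huniq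
  have hVM := vsub_le_M t e M ht hb hMi hcM
  have htM : t ∈ M := hVM (t_mem_vsub t e ht)
  generalize hk : ((y : ↥M) : G) = k at *
  have hkM : k ∈ M := by rw [← hk]; exact (y : ↥M).2
  have hkG1 : k ≠ 1 := by
    intro h
    apply hyM
    apply Subtype.ext
    rw [hk, h]; rfl
  have hcentG : ∀ m ∈ M, m * k * m⁻¹ = k := by
    intro m hm
    have h1 := hcent ⟨m, hm⟩
    have h2 := congrArg Subtype.val h1
    simp only [Subgroup.coe_mul, Subgroup.coe_inv] at h2
    rw [hk] at h2
    exact h2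
  have hkt : k * t = t * k := by
    have h2 := hcentG t htM
    calc k * t = (t * k * t⁻¹) * t := by rw [h2]
      _ = t * k := by group
  have hkV := mem_vsub_of_mem_M t e M ht hb hMi hcM hkM hkt
  obtain ⟨h, hh⟩ := conj_t_of_mem_vsub t e ht hb hkV hkG1
  have hMC : ∀ m ∈ M, m * t = t * m := by
    intro m hm
    have hm' : h * m * h⁻¹ ∈ M := hMn.conj_mem m hm h
    have h2 := hcentG _ hm'
    rw [← hh] at h2
    have h3 : m * t * m⁻¹ = t := by
      calc m * t * m⁻¹ = h⁻¹ * ((h * m * h⁻¹) * (h * t * h⁻¹) * (h * m * h⁻¹)⁻¹) * h := by group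
        _ = h⁻¹ * (h * t * h⁻¹) * h := by rw [h2]
        _ = t := by group
    calc m * t = (m * t * m⁻¹) * m := by group
      _ = t * m := by rw [h3]
  obtain ⟨g, hgM, hg⟩ := exists_conj_in_M t e M ht hb hMi hcM
  have h4 := hMC g hgM
  apply t_ne_b t e ht
  calc t = (t * g) * g⁻¹ := by group
    _ = (g * t) * g⁻¹ := by rw [h4]
    _ = emb t e (sr 0) := hg

/-- A normal subgroup of order four of `M` forces the four-group to be normal in `M`. -/
theorem normal_four (ht : orderOf t = 2) (hb : ∃ g : G, g * t * g⁻¹ = emb t e (sr 0))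
    (hMi : M.index = 2) (hcM : emb t e (sr 1) ∉ M) (E : Subgroup ↥M) (hEn : E.Normal)
    (hE4 : Nat.card E = 4) : M ≤ Subgroup.normalizer ((vsub t e : Subgroup G) : Set G) := by
  haveI : Fact (Nat.Prime 2) := ⟨Nat.prime_two⟩
  have hVM := vsub_le_M t e M ht hb hMi hcM
  have hV'card := card_subgroupOf_vsub t e M ht hb hMi hcM
  have hV' : IsPGroup 2 ((vsub t e).subgroupOf M) :=
    IsPGroup.of_card (n := 2) (by rw [hV'card]; norm_num)
  have hE : IsPGroup 2 E := IsPGroup.of_card (n := 2) (by rw [hE4]; norm_num)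
  obtain ⟨Q0, hQ0⟩ := hV'.exists_le_sylow
  obtain ⟨Q1, hQ1⟩ := hE.exists_le_sylow
  have e0 : (vsub t e).subgroupOf M = (Q0 : Subgroup ↥M) :=
    Subgroup.eq_of_le_of_card_ge hQ0 (by rw [card_sylow_M t e M ht hb hMi hcM Q0, hV'card])
  have e1 : E = (Q1 : Subgroup ↥M) :=
    Subgroup.eq_of_le_of_card_ge hQ1 (by rw [card_sylow_M t e M ht hb hMi hcM Q1, hE4])
  haveI : (Q1 : Subgroup ↥M).Normal := e1 ▸ hEn
  obtain ⟨m, hm⟩ := MulAction.exists_smul_eq ↥M Q1 Q0
  rw [Sylow.smul_eq_of_normal] at hm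
  have e2 : (vsub t e).subgroupOf M = E := by rw [e0, e1, hm]
  have hVn : ((vsub t e).subgroupOf M).Normal := e2 ▸ hEn
  exact (Subgroup.normal_subgroupOf_iff_le_normalizer hVM).mp hVn

/-- The centralizer of `t` in `M` is the four-group. -/
theorem centralizer_M_map (ht : orderOf t = 2) (hb : ∃ g : G, g * t * g⁻¹ = emb t e (sr 0))
    (hMi : M.index = 2) (hcM : emb t e (sr 1) ∉ M) (htM : t ∈ M) :
    (Subgroup.centralizer ({(⟨t, htM⟩ : ↥M)} : Set ↥M)).map M.subtype = vsub t e := by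
  ext z
  rw [Subgroup.mem_map]
  constructor
  · rintro ⟨y, hy, rfl⟩
    rw [Subgroup.mem_centralizer_iff] at hy
    have h1 := hy ⟨t, htM⟩ rfl
    have h2 : t * (y : G) = (y : G) * t := congrArg Subtype.val h1
    exact mem_vsub_of_mem_M t e M ht hb hMi hcM y.2 h2.symm
  · intro hz
    have hzM := vsub_le_M t e M ht hb hMi hcM hz
    refine ⟨⟨z, hzM⟩, ?_, rfl⟩
    rw [Subgroup.mem_centralizer_iff]
    intro h hh
    rw [Set.mem_singleton_iff] at hh
    rw [hh]
    apply Subtype.ext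
    have h3 := (mem_centralizer_iff_comm t).mp (vsub_le t e ht hz)
    exact h3.symm

/-- The `S₄` case. -/
theorem s4_case (ht : orderOf t = 2) (hb : ∃ g : G, g * t * g⁻¹ = emb t e (sr 0))
    (hMi : M.index = 2) (hcM : emb t e (sr 1) ∉ M)
    (hMN : M ≤ Subgroup.normalizer ((vsub t e : Subgroup G) : Set G)) :
    Nonempty (G ≃* Equiv.Perm (Fin 4)) := by
  haveI : Fact (Nat.Prime 3) := ⟨Nat.prime_three⟩
  have hNtop : Subgroup.normalizer ((vsub t e : Subgroup G) : Set G) = ⊤ := by
    rw [eq_top_iff]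
    intro x _
    by_cases hx : x ∈ M
    · exact hMN hx
    · have h1 : x * emb t e (sr 1) ∈ M := by
        rw [Subgroup.mul_mem_iff_of_index_two hMi]
        exact ⟨fun h => absurd h hx, fun h => absurd h hcM⟩
      have h2 : x = (x * emb t e (sr 1)) * (emb t e (sr 1))⁻¹ := by group
      rw [h2]
      exact Subgroup.mul_mem _ (hMN h1) (Subgroup.inv_mem _
        (centralizer_le_normalizer_vsub t e ht (emb_mem_centralizer t e _)))
  haveI hVn : (vsub t e).Normal := Subgroup.normalizer_eq_top_iff.mp hNtop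
  have hcard : Nat.card G = 24 := by
    have h1 := card_normalizer_vsub t e ht hb
    rw [hNtop, Subgroup.card_top] at h1
    exact h1
  have hVcard := card_vsub t e ht
  let P3 : Sylow 3 G := default
  have hmul := Subgroup.card_mul_index (P3 : Subgroup G)
  have hnd : ¬ 3 ∣ (P3 : Subgroup G).index := P3.not_dvd_index
  obtain ⟨n, hn⟩ := IsPGroup.iff_card.mp P3.isPGroup'
  rw [hcard, hn] at hmul
  have hn1 : n = 1 := by
    have hn3 : n < 3 := by
      by_contra hge
      push Not at hge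
      have h27 : 27 ≤ 3 ^ n := by
        calc 27 = 3 ^ 3 := by norm_num
          _ ≤ 3 ^ n := Nat.pow_le_pow_right (by norm_num) hge
      have h24 : 3 ^ n ≤ 24 := Nat.le_of_dvd (by norm_num) ⟨_, hmul.symm⟩
      omega
    interval_cases n
    · exfalso
      rw [pow_zero, one_mul] at hmul
      rw [hmul] at hnd
      exact hnd (by norm_num)
    · rfl
    · exfalso
      have h9 : (3 : ℕ) ^ 2 = 9 := by norm_num
      rw [h9] at hmul
      omega
  rw [hn1, pow_one] at hn hmul
  have hidx : (P3 : Subgroup G).index = 8 := by omega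
  -- the number of Sylow 3-subgroups is 4
  have hmod := card_sylow_modEq_one 3 G
  have hdvd := Sylow.card_dvd_index P3
  have hnorm := Sylow.card_eq_index_normalizer P3
  have hdvd' : Nat.card (Sylow 3 G) ∣ 8 := by
    have h : Nat.card (Sylow 3 G) ∣ (P3 : Subgroup G).index := hdvd
    rwa [hidx] at h
  have hn3 : Nat.card (Sylow 3 G) = 4 := by
    have hle : Nat.card (Sylow 3 G) ≤ 8 := Nat.le_of_dvd (by norm_num) hdvd'
    have hpos : 0 < Nat.card (Sylow 3 G) := Nat.pos_of_dvd_of_pos hdvd' (by norm_num)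
    unfold Nat.ModEq at hmod
    by_contra hne4
    have h1 : Nat.card (Sylow 3 G) = 1 := by
      generalize Nat.card (Sylow 3 G) = m at *
      interval_cases m <;> omega
    -- then `P3` is normal
    have h2 : (Subgroup.normalizer ((P3 : Subgroup G) : Set G)).index = 1 := by
      have h := hnorm
      rw [h1] at h
      exact h.symm
    have h3 : Subgroup.normalizer ((P3 : Subgroup G) : Set G) = ⊤ := Subgroup.index_eq_one.mp h2
    have hP3n : (P3 : Subgroup G).Normal := Subgroup.normalizer_eq_top_iff.mp h3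
    have hdis : Disjoint (P3 : Subgroup G) (vsub t e) := by
      rw [disjoint_iff]
      apply Subgroup.inf_eq_bot_of_coprime
      rw [hn, hVcard]; norm_num
    have hle3 : (P3 : Subgroup G) ≤ vsub t e := by
      intro x hx
      apply centralizer_vsub_le t e ht
      rw [Subgroup.mem_centralizer_iff]
      intro v hv
      exact (Subgroup.commute_of_normal_of_disjoint _ _ hP3n hVn hdis x v hx hv).eq.symm
    have h4 := Subgroup.card_dvd_of_le hle3
    rw [hn, hVcard] at h4
    omega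
  -- the normalizer of `P3` has index 4 and trivial core
  have hHidx : (Subgroup.normalizer ((P3 : Subgroup G) : Set G)).index = 4 := by
    have h := hnorm
    rw [hn3] at h
    exact h.symm
  have hHcard : Nat.card (Subgroup.normalizer ((P3 : Subgroup G) : Set G)) = 6 := by
    have h := Subgroup.card_mul_index (Subgroup.normalizer ((P3 : Subgroup G) : Set G))
    rw [hHidx, hcard] at h
    omega
  have hcore : (Subgroup.normalizer ((P3 : Subgroup G) : Set G)).normalCore = ⊥ := by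
    have hKle := Subgroup.normalCore_le (Subgroup.normalizer ((P3 : Subgroup G) : Set G))
    have hK6 : Nat.card ((Subgroup.normalizer ((P3 : Subgroup G) : Set G)).normalCore) ∣ 6 := by
      have h := Subgroup.card_dvd_of_le hKle
      rwa [hHcard] at h
    have hKV6 : Nat.card ((Subgroup.normalizer ((P3 : Subgroup G) : Set G)).normalCore ⊓
        vsub t e : Subgroup G) ∣ 6 :=
      (Subgroup.card_dvd_of_le inf_le_left).trans hK6
    have hKV4 : Nat.card ((Subgroup.normalizer ((P3 : Subgroup G) : Set G)).normalCore ⊓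
        vsub t e : Subgroup G) ∣ 4 := by
      have h := Subgroup.card_dvd_of_le (inf_le_right :
        (Subgroup.normalizer ((P3 : Subgroup G) : Set G)).normalCore ⊓ vsub t e ≤ vsub t e)
      rwa [hVcard] at h
    have hKVbot : (Subgroup.normalizer ((P3 : Subgroup G) : Set G)).normalCore ⊓ vsub t e = ⊥ := by
      rw [← Subgroup.card_eq_one]
      have hpos : 0 < Nat.card ((Subgroup.normalizer ((P3 : Subgroup G) : Set G)).normalCore ⊓
          vsub t e : Subgroup G) := Nat.card_pos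
      have hle : Nat.card ((Subgroup.normalizer ((P3 : Subgroup G) : Set G)).normalCore ⊓
          vsub t e : Subgroup G) ≤ 4 := Nat.le_of_dvd (by norm_num) hKV4
      by_contra hne1
      have h2 : Nat.card ((Subgroup.normalizer ((P3 : Subgroup G) : Set G)).normalCore ⊓
          vsub t e : Subgroup G) = 2 := by
        generalize Nat.card ((Subgroup.normalizer ((P3 : Subgroup G) : Set G)).normalCore ⊓
          vsub t e : Subgroup G) = m at *
        interval_cases m <;> omega
      exact no_normal_card_two t e ht hb _ h2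
    have hdis : Disjoint ((Subgroup.normalizer ((P3 : Subgroup G) : Set G)).normalCore)
        (vsub t e) := disjoint_iff.mpr hKVbot
    have hle : (Subgroup.normalizer ((P3 : Subgroup G) : Set G)).normalCore ≤ vsub t e := by
      intro x hx
      apply centralizer_vsub_le t e ht
      rw [Subgroup.mem_centralizer_iff]
      intro v hv
      exact (Subgroup.commute_of_normal_of_disjoint _ _ inferInstance hVn hdis x v hx hv).eq.symm
    rw [← hKVbot]
    exact le_antisymm (le_inf le_rfl hle) inf_le_left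
  exact equiv_perm_of_index _ 4 hcore hHidx (by rw [hcard]; rfl)

/-- The `S₅` case. -/
theorem s5_case (ht : orderOf t = 2) (hb : ∃ g : G, g * t * g⁻¹ = emb t e (sr 0))
    (hMi : M.index = 2) (hcM : emb t e (sr 1) ∉ M)
    (φ : ↥M ≃* ↥(alternatingGroup (Fin 5))) : Nonempty (G ≃* Equiv.Perm (Fin 5)) := by
  have hMcard : Nat.card ↥M = 60 := by
    rw [Nat.card_congr φ.toEquiv, nat_card_alternatingGroup, Nat.card_fin]
    rfl
  have hGcard : Nat.card G = 120 := by
    have h := Subgroup.card_mul_index M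
    rw [hMi, hMcard] at h
    omega
  have hNcard := card_normalizer_vsub t e ht hb
  have hNidx : (Subgroup.normalizer ((vsub t e : Subgroup G) : Set G)).index = 5 := by
    have h := Subgroup.card_mul_index (Subgroup.normalizer ((vsub t e : Subgroup G) : Set G))
    rw [hNcard, hGcard] at h
    omega
  haveI hsimp : IsSimpleGroup ↥M := φ.isSimpleGroup
  have hcore : (Subgroup.normalizer ((vsub t e : Subgroup G) : Set G)).normalCore = ⊥ := by
    have hKN := Subgroup.normalCore_le (Subgroup.normalizer ((vsub t e : Subgroup G) : Set G))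
    generalize hKdef : (Subgroup.normalizer ((vsub t e : Subgroup G) : Set G)).normalCore = K at *
    haveI hKn : K.Normal := by rw [← hKdef]; infer_instance
    have hKM : K ⊓ M = ⊥ := by
      have hn : ((K ⊓ M).subgroupOf M).Normal := inferInstance
      rcases hn.eq_bot_or_eq_top with h | h
      · rw [Subgroup.subgroupOf_eq_bot] at h
        have h1 := h.eq_bot
        rwa [inf_assoc, inf_idem] at h1
      · exfalso
        rw [Subgroup.subgroupOf_eq_top] at h
        have h1 : M ≤ Subgroup.normalizer ((vsub t e : Subgroup G) : Set G) :=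
          (h.trans inf_le_left).trans hKN
        have h2 := Subgroup.card_dvd_of_le h1
        rw [hMcard, hNcard] at h2
        omega
    by_contra hKne
    obtain ⟨⟨k, hkK⟩, hk1⟩ := Subgroup.ne_bot_iff_exists_ne_one.mp hKne
    have hkG1 : k ≠ 1 := fun h => hk1 (Subtype.ext h)
    have hnotM : ∀ x ∈ K, x ≠ 1 → x ∉ M := by
      intro x hx hx1 hxM
      have h1 : x ∈ K ⊓ M := ⟨hx, hxM⟩
      rw [hKM, Subgroup.mem_bot] at h1
      exact hx1 h1
    have huniq : ∀ x ∈ K, x ≠ 1 → x = k := by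
      intro x hx hx1
      have h1 : x⁻¹ * k ∈ M := by
        rw [Subgroup.mul_mem_iff_of_index_two hMi]
        constructor
        · intro h
          exact absurd (M.inv_mem_iff.mp h) (hnotM x hx hx1)
        · intro h
          exact absurd h (hnotM k hkK hkG1)
      have h2 : x⁻¹ * k ∈ K ⊓ M := ⟨K.mul_mem (K.inv_mem hx) hkK, h1⟩
      rw [hKM, Subgroup.mem_bot] at h2
      calc x = x * (x⁻¹ * k) := by rw [h2, mul_one]
        _ = k := by group
    exact no_central t e ht hb k hkG1 (central_of_unique K hkK hkG1 huniq)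
  exact equiv_perm_of_index _ 5 hcore hNidx (by rw [hGcard]; rfl)

end withM

/-- The case where `t` is conjugate to `sr 0` but not to `sr 1`. -/
theorem caseB (ht : orderOf t = 2) (hb : ∃ g : G, g * t * g⁻¹ = emb t e (sr 0))
    (hnc : ∀ g : G, g * t * g⁻¹ ≠ emb t e (sr 1)) :
    Nonempty (G ≃* Equiv.Perm (Fin 4)) ∨ Nonempty (G ≃* Equiv.Perm (Fin 5)) := by
  haveI : Fact (Nat.Prime 2) := ⟨Nat.prime_two⟩
  obtain ⟨M, hMn, hMi, hcM⟩ := exists_index_two t e ht hb hnc
  by_cases hE4 : ∃ E : Subgroup ↥M, E.Normal ∧ Nat.card E = 4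
  · left
    obtain ⟨E, hEn, hE4⟩ := hE4
    exact s4_case t e M ht hb hMi hcM (normal_four t e M ht hb hMi hcM E hEn hE4)
  · right
    have hVM := vsub_le_M t e M ht hb hMi hcM
    have htM : t ∈ M := hVM (t_mem_vsub t e ht)
    have hmap := centralizer_M_map t e M ht hb hMi hcM htM
    have hx : orderOf (⟨t, htM⟩ : ↥M) = 2 := by
      rw [← ht]; exact Subgroup.orderOf_mk t htM
    have hC4 : Nat.card ↥(Subgroup.centralizer ({(⟨t, htM⟩ : ↥M)} : Set ↥M)) = 4 := by
      rw [← Subgroup.card_map_of_injective (Subgroup.subtype_injective M), hmap, card_vsub t e ht]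
    have hCe : ∀ c ∈ Subgroup.centralizer ({(⟨t, htM⟩ : ↥M)} : Set ↥M), c ^ 2 = 1 := by
      intro c hc
      have h1 : (c : G) ∈ vsub t e := by
        rw [← hmap]; exact ⟨c, hc, rfl⟩
      apply Subtype.ext
      rw [pow_two]
      exact vsub_mul_self t e ht h1
    obtain ⟨φ⟩ := Cfsg.Agent.S3277.result (⟨t, htM⟩ : ↥M) hx hC4 hCe
      (no_complement t e M ht hb hMi hcM)
      (fun E hEn _ => ⟨fun h2 => no_normal_two t e M ht hb hMi hcM E hEn h2,
        fun h4 => hE4 ⟨E, hEn, h4⟩⟩)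
    exact s5_case t e M ht hb hMi hcM φ

end caseB

end Cfsg.Agent.H27.D8
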