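import Mathlib
import Cfsg.Agent.H27.D8A
import Cfsg.Agent.S0848
import Cfsg.Agent.S0495
import Cfsg.Agent.S0497
import Cfsg.Agent.H6.L27

/-!
# Groups with an involution whose centralizer is dihedral of order 8, part C (helper27)

The case where all involutions are conjugate: the group is simple, hence (helper5's S0848)
of order 168 or 360, hence `SL₃(2)` or `A₆`.
-/

set_option autoImplicit false
set_option linter.unusedSectionVars false
set_option linter.style.haveILetI false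
set_option linter.unusedVariables false

namespace Cfsg.Agent.H27.D8

open DihedralGroup Cfsg.Agent.H5.D8Local

/-- A fixed-point-free involution of a finite subgroup inverts it. -/
theorem inverts_of_fpf {G : Type*} [Group G] (M : Subgroup G) [Finite M] (u : G)
    (huu : u * u = 1) (hnorm : ∀ m ∈ M, u * m * u⁻¹ ∈ M)
    (hfpf : ∀ m ∈ M, u * m * u⁻¹ = m → m = 1) : ∀ m ∈ M, u * m * u⁻¹ = m⁻¹ := by
  let f : ↥M → ↥M := fun m =>
    ⟨(m : G)⁻¹ * (u * m * u⁻¹), M.mul_mem (M.inv_mem m.2) (hnorm m m.2)⟩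
  have hinj : Function.Injective f := by
    intro m m' h
    have h1 : (m : G)⁻¹ * (u * m * u⁻¹) = (m' : G)⁻¹ * (u * m' * u⁻¹) := congrArg Subtype.val h
    have h2 : u * ((m' : G) * (m : G)⁻¹) * u⁻¹ = (m' : G) * (m : G)⁻¹ := by
      calc u * ((m' : G) * (m : G)⁻¹) * u⁻¹
          = (m' : G) * ((m' : G)⁻¹ * (u * m' * u⁻¹)) * (u * m * u⁻¹)⁻¹ := by group
        _ = (m' : G) * ((m : G)⁻¹ * (u * m * u⁻¹)) * (u * m * u⁻¹)⁻¹ := by rw [h1]
        _ = (m' : G) * (m : G)⁻¹ := by group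
    have h3 := hfpf _ (M.mul_mem m'.2 (M.inv_mem m.2)) h2
    apply Subtype.ext
    have h4 : (m' : G) = m := by
      calc (m' : G) = (m' : G) * (m : G)⁻¹ * m := by group
        _ = m := by rw [h3, one_mul]
    exact h4.symm
  have hsurj : Function.Surjective f := Finite.surjective_of_injective hinj
  intro m hm
  obtain ⟨m₀, hm₀⟩ := hsurj ⟨m, hm⟩
  have h1 : (m₀ : G)⁻¹ * (u * m₀ * u⁻¹) = m := congrArg Subtype.val hm₀
  rw [← h1]
  calc u * ((m₀ : G)⁻¹ * (u * m₀ * u⁻¹)) * u⁻¹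
      = (u * m₀ * u⁻¹)⁻¹ * ((u * u) * m₀ * (u * u)⁻¹) := by group
    _ = (u * m₀ * u⁻¹)⁻¹ * m₀ := by rw [huu]; group
    _ = ((m₀ : G)⁻¹ * (u * m₀ * u⁻¹))⁻¹ := by group

section caseC

variable {G : Type*} [Group G] [Finite G] (t : G)
  (e : Subgroup.centralizer ({t} : Set G) ≃* DihedralGroup 4)

include e in
/-- An element of odd order centralizing a conjugate of `t` is trivial. -/
theorem eq_one_of_odd_of_comm_conj (ht : orderOf t = 2) {m h : G} (hodd : Odd (orderOf m))
    (hcomm : (h * t * h⁻¹) * m = m * (h * t * h⁻¹)) : m = 1 := by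
  have h1 : (h⁻¹ * m * h) * t = t * (h⁻¹ * m * h) := by
    calc (h⁻¹ * m * h) * t = h⁻¹ * (m * (h * t * h⁻¹)) * h := by group
      _ = h⁻¹ * ((h * t * h⁻¹) * m) * h := by rw [hcomm]
      _ = t * (h⁻¹ * m * h) := by group
  have h2 : h⁻¹ * m * h ∈ Subgroup.centralizer ({t} : Set G) :=
    (mem_centralizer_iff_comm t).mpr h1
  have h3 : orderOf (h⁻¹ * m * h) ∣ 8 := by
    have h := Subgroup.orderOf_dvd_natCard _ h2
    rwa [card_centralizer t e ht] at h
  have h4 : orderOf (h⁻¹ * m * h) = orderOf m := by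
    have h5 : h⁻¹ * m * h = MulAut.conj h⁻¹ m := by rw [MulAut.conj_apply, inv_inv]
    rw [h5, MulEquiv.orderOf_eq]
  rw [h4] at h3
  have h6 : (orderOf m).Coprime 8 := by
    have h7 : (orderOf m).Coprime 2 := Nat.coprime_two_right.mpr hodd
    exact Nat.Coprime.pow_right 3 h7
  exact orderOf_eq_one_iff.mp (h6.eq_one_of_dvd h3)

/-- If `t` is conjugate to `sr 0`, normal subgroups of odd order are trivial. -/
theorem odd_normal_eq_bot (ht : orderOf t = 2) (hb : ∃ g : G, g * t * g⁻¹ = emb t e (sr 0))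
    (M : Subgroup G) [hM : M.Normal] (hodd : Odd (Nat.card M)) : M = ⊥ := by
  obtain ⟨g, hg⟩ := hb
  have htt := t_mul_t t ht
  have hbb : emb t e (sr 0) * emb t e (sr 0) = 1 := by
    rw [← map_mul]
    have h : (sr 0 : DihedralGroup 4) * sr 0 = 1 := by decide
    rw [h, map_one]
  have h22 : emb t e (sr 2) * emb t e (sr 2) = 1 := by
    rw [← map_mul]
    have h : (sr 2 : DihedralGroup 4) * sr 2 = 1 := by decide
    rw [h, map_one]
  have hmodd : ∀ m ∈ M, Odd (orderOf m) := fun m hm =>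
    Odd.of_dvd_nat hodd (Subgroup.orderOf_dvd_natCard M hm)
  have hinvt : ∀ m ∈ M, t * m * t⁻¹ = m⁻¹ := by
    apply inverts_of_fpf M t htt (fun m hm => hM.conj_mem m hm t)
    intro m hm hfix
    apply eq_one_of_odd_of_comm_conj t e ht (h := 1) (hmodd m hm)
    have h : t * m = m * t := by
      calc t * m = (t * m * t⁻¹) * t := by group
        _ = m * t := by rw [hfix]
    simpa using h
  have hinvb : ∀ m ∈ M, emb t e (sr 0) * m * (emb t e (sr 0))⁻¹ = m⁻¹ := by
    apply inverts_of_fpf M _ hbb (fun m hm => hM.conj_mem m hm _)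
    intro m hm hfix
    apply eq_one_of_odd_of_comm_conj t e ht (h := g) (hmodd m hm)
    rw [hg]
    calc emb t e (sr 0) * m = (emb t e (sr 0) * m * (emb t e (sr 0))⁻¹) * emb t e (sr 0) := by
          group
      _ = m * emb t e (sr 0) := by rw [hfix]
  have hinvtb : ∀ m ∈ M, emb t e (sr 2) * m * (emb t e (sr 2))⁻¹ = m⁻¹ := by
    apply inverts_of_fpf M _ h22 (fun m hm => hM.conj_mem m hm _)
    intro m hm hfix
    apply eq_one_of_odd_of_comm_conj t e ht (h := emb t e (r 1) * g) (hmodd m hm)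
    have hdd : (r 1 : DihedralGroup 4) * sr 0 * (r 1)⁻¹ = sr 2 := by decide
    have hconj : (emb t e (r 1) * g) * t * (emb t e (r 1) * g)⁻¹ = emb t e (sr 2) := by
      calc (emb t e (r 1) * g) * t * (emb t e (r 1) * g)⁻¹
          = emb t e (r 1) * (g * t * g⁻¹) * (emb t e (r 1))⁻¹ := by group
        _ = emb t e (r 1 * sr 0 * (r 1)⁻¹) := by rw [hg, map_mul, map_mul, map_inv]
        _ = emb t e (sr 2) := by rw [hdd]
    rw [hconj]
    calc emb t e (sr 2) * m = (emb t e (sr 2) * m * (emb t e (sr 2))⁻¹) * emb t e (sr 2) := by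
          group
      _ = m * emb t e (sr 2) := by rw [hfix]
  rw [Subgroup.eq_bot_iff_forall]
  intro m hm
  have h2 : emb t e (sr 2) = t * emb t e (sr 0) := by
    have hd : (sr 2 : DihedralGroup 4) = r 2 * sr 0 := by decide
    rw [hd, map_mul, emb_r2 t e ht]
  have h3 := hinvtb m hm
  rw [h2] at h3
  have h4 : t * emb t e (sr 0) * m * (t * emb t e (sr 0))⁻¹ = m := by
    calc t * emb t e (sr 0) * m * (t * emb t e (sr 0))⁻¹
        = t * (emb t e (sr 0) * m * (emb t e (sr 0))⁻¹) * t⁻¹ := by group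
      _ = t * m⁻¹ * t⁻¹ := by rw [hinvb m hm]
      _ = (t * m * t⁻¹)⁻¹ := by group
      _ = m := by rw [hinvt m hm, inv_inv]
  have h5 : m = m⁻¹ := h4.symm.trans h3
  have h6 : m ^ 2 = 1 := by
    rw [pow_two]
    nth_rewrite 2 [h5]
    exact mul_inv_cancel m
  have h7 : orderOf m ∣ 2 := orderOf_dvd_of_pow_eq_one h6
  have h8 : (orderOf m).Coprime 2 := Nat.coprime_two_right.mpr (hmodd m hm)
  exact orderOf_eq_one_iff.mp (h8.eq_one_of_dvd h7)

/-- If `t` is conjugate to `sr 0` and to `sr 1`, every involution is conjugate to `t`. -/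
theorem conj_of_involution (ht : orderOf t = 2) (hb : ∃ g : G, g * t * g⁻¹ = emb t e (sr 0))
    (hc : ∃ g : G, g * t * g⁻¹ = emb t e (sr 1)) (u : G) (hu : orderOf u = 2) :
    ∃ g : G, g * t * g⁻¹ = u := by
  obtain ⟨h, hh⟩ := exists_conj_comm t e ht u hu
  obtain ⟨d, hd⟩ := exists_emb_of_comm t e hh
  have huu : u * u = 1 := by rw [← pow_two, ← hu, pow_orderOf_eq_one]
  have hu1 : u ≠ 1 := by
    rintro rfl
    rw [orderOf_one] at hu
    omega
  have h1 : d * d = 1 := by
    apply emb_injective t e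
    rw [map_mul, hd, map_one]
    calc h⁻¹ * u * h * (h⁻¹ * u * h) = h⁻¹ * (u * u) * h := by group
      _ = 1 := by rw [huu]; group
  have h2 : d ≠ 1 := by
    rintro rfl
    rw [map_one] at hd
    apply hu1
    calc u = h * (h⁻¹ * u * h) * h⁻¹ := by group
      _ = 1 := by rw [← hd]; group
  have key : ∀ d : DihedralGroup 4, d * d = 1 → d ≠ 1 →
      d = r 2 ∨ d = sr 0 ∨ d = sr 1 ∨ d = sr 2 ∨ d = sr 3 := by decide
  have hall : ∃ g' : G, g' * t * g'⁻¹ = emb t e d := by
    obtain ⟨g, hg⟩ := hb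
    obtain ⟨g₁, hg₁⟩ := hc
    rcases key d h1 h2 with rfl | rfl | rfl | rfl | rfl
    · exact ⟨1, by rw [emb_r2 t e ht]; group⟩
    · exact ⟨g, hg⟩
    · exact ⟨g₁, hg₁⟩
    · refine ⟨emb t e (r 1) * g, ?_⟩
      have hdd : (r 1 : DihedralGroup 4) * sr 0 * (r 1)⁻¹ = sr 2 := by decide
      calc emb t e (r 1) * g * t * (emb t e (r 1) * g)⁻¹
          = emb t e (r 1) * (g * t * g⁻¹) * (emb t e (r 1))⁻¹ := by group
        _ = emb t e (r 1 * sr 0 * (r 1)⁻¹) := by rw [hg, map_mul, map_mul, map_inv]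
        _ = emb t e (sr 2) := by rw [hdd]
    · refine ⟨emb t e (r 1) * g₁, ?_⟩
      have hdd : (r 1 : DihedralGroup 4) * sr 1 * (r 1)⁻¹ = sr 3 := by decide
      calc emb t e (r 1) * g₁ * t * (emb t e (r 1) * g₁)⁻¹
          = emb t e (r 1) * (g₁ * t * g₁⁻¹) * (emb t e (r 1))⁻¹ := by group
        _ = emb t e (r 1 * sr 1 * (r 1)⁻¹) := by rw [hg₁, map_mul, map_mul, map_inv]
        _ = emb t e (sr 3) := by rw [hdd]
  obtain ⟨g', hg'⟩ := hall
  refine ⟨h * g', ?_⟩
  calc h * g' * t * (h * g')⁻¹ = h * (g' * t * g'⁻¹) * h⁻¹ := by group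
    _ = h * (h⁻¹ * u * h) * h⁻¹ := by rw [hg', hd]
    _ = u := by group

/-- In the case of a single class of involutions the group is simple. -/
theorem simple_caseC (ht : orderOf t = 2) (hb : ∃ g : G, g * t * g⁻¹ = emb t e (sr 0))
    (hc : ∃ g : G, g * t * g⁻¹ = emb t e (sr 1)) : IsSimpleGroup G := by
  haveI : Fact (Nat.Prime 2) := ⟨Nat.prime_two⟩
  have hnt : Nontrivial G := ⟨⟨t, 1, t_ne_one t ht⟩⟩
  refine { exists_pair_ne := hnt.exists_pair_ne, eq_bot_or_eq_top_of_normal := ?_ }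
  intro M hM
  by_cases hodd : Odd (Nat.card M)
  · left; exact odd_normal_eq_bot t e ht hb M hodd
  · right
    rw [Nat.not_odd_iff_even] at hodd
    obtain ⟨u₀, hu₀⟩ := exists_prime_orderOf_dvd_card' 2 (even_iff_two_dvd.mp hodd)
    have hu : orderOf (u₀ : G) = 2 := by rw [Subgroup.orderOf_coe]; exact hu₀
    obtain ⟨g, hg⟩ := conj_of_involution t e ht hb hc (u₀ : G) hu
    have htM : t ∈ M := by
      have h1 : t = g⁻¹ * (u₀ : G) * g⁻¹⁻¹ := by rw [← hg]; group
      rw [h1]; exact hM.conj_mem _ u₀.2 _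
    obtain ⟨gb, hgb⟩ := hb
    obtain ⟨gc, hgc⟩ := hc
    have hbM : emb t e (sr 0) ∈ M := by rw [← hgb]; exact hM.conj_mem _ htM _
    have hcM : emb t e (sr 1) ∈ M := by rw [← hgc]; exact hM.conj_mem _ htM _
    have hCM : Subgroup.centralizer ({t} : Set G) ≤ M := by
      intro x hx
      rw [← range_emb t e] at hx
      obtain ⟨d, rfl⟩ := hx
      have key : ∀ d : DihedralGroup 4, ∃ m : Fin 4, ∃ n : Fin 2,
          d = (sr 0 * sr 1) ^ (m : ℕ) * sr 0 ^ (n : ℕ) := by decide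
      obtain ⟨m, n, rfl⟩ := key d
      rw [map_mul, map_pow, map_pow, map_mul]
      exact M.mul_mem (M.pow_mem (M.mul_mem hbM hcM) _) (M.pow_mem hbM _)
    obtain ⟨P, hP⟩ := exists_sylow t e ht
    have hPM : (P : Subgroup G) ≤ M := by rw [hP]; exact hCM
    have h1 : Subgroup.normalizer ((P : Subgroup G) : Set G) ⊔ M = ⊤ :=
      Sylow.normalizer_sup_eq_top' P hPM
    rw [hP] at h1
    rw [eq_top_iff, ← h1]
    exact sup_le ((normalizer_le t e ht).trans hCM) le_rfl

include e in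
theorem commutator_eq_top_of_simple (hs : IsSimpleGroup G) : commutator G = ⊤ := by
  have hn : (commutator G).Normal := inferInstance
  rcases hn.eq_bot_or_eq_top with h | h
  · exfalso
    have h1 : emb t e (r 1) * emb t e (sr 0) * (emb t e (r 1))⁻¹ * (emb t e (sr 0))⁻¹ ∈
        commutator G := by
      rw [commutator_def]
      exact Subgroup.commutator_mem_commutator (Subgroup.mem_top _) (Subgroup.mem_top _)
    rw [h, Subgroup.mem_bot] at h1
    have h3 := mul_inv_eq_one.mp h1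
    have h2 : emb t e (r 1 * sr 0) = emb t e (sr 0 * r 1) := by
      rw [map_mul, map_mul]
      calc emb t e (r 1) * emb t e (sr 0)
          = emb t e (r 1) * emb t e (sr 0) * (emb t e (r 1))⁻¹ * emb t e (r 1) := by group
        _ = emb t e (sr 0) * emb t e (r 1) := by rw [h3]
    exact absurd (emb_injective t e h2) (by decide)
  · exact h

/-- The case of a single class of involutions. -/
theorem caseC (ht : orderOf t = 2) (hb : ∃ g : G, g * t * g⁻¹ = emb t e (sr 0))
    (hc : ∃ g : G, g * t * g⁻¹ = emb t e (sr 1)) :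
    Nonempty (G ≃* Matrix.SpecialLinearGroup (Fin 3) (ZMod 2)) ∨
      Nonempty (G ≃* ↥(alternatingGroup (Fin 6))) := by
  haveI hs := simple_caseC t e ht hb hc
  have hperf := commutator_eq_top_of_simple t e hs
  rcases Cfsg.Agent.S0848.result hperf t ht e with h | h
  · left
    haveI : Fact (Nat.Prime 7) := ⟨by norm_num⟩
    haveI : Fact (Nat.Prime 2) := ⟨Nat.prime_two⟩
    obtain ⟨φ1⟩ := Cfsg.Agent.S0495.result h (F := ZMod 7) (ZMod.card 7)
    obtain ⟨φ2⟩ := Cfsg.Agent.H6.L27.psl27_equiv_psl32 (F := ZMod 7) (K := ZMod 2)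
      (ZMod.card 7) (ZMod.card 2)
    have hZ : Subgroup.center (Matrix.SpecialLinearGroup (Fin 3) (ZMod 2)) = ⊥ := by
      apply Subgroup.eq_bot_of_card_eq
      rw [Cfsg.Agent.H6.card_center_sl (F := ZMod 2) (q := 2) (ZMod.card 2) 3 (by norm_num)]
      rfl
    have φ3 : Matrix.ProjectiveSpecialLinearGroup (Fin 3) (ZMod 2) ≃*
        Matrix.SpecialLinearGroup (Fin 3) (ZMod 2) :=
      (QuotientGroup.quotientMulEquivOfEq hZ).trans QuotientGroup.quotientBot
    exact ⟨(φ1.trans φ2).trans φ3⟩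
  · right
    exact Cfsg.Agent.S0497.result h

end caseC

end Cfsg.Agent.H27.D8
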