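import Mathlib

/-!
# S2067-INVOL (helper6's team project S2067): involutions of `K` lie in a conjugation-closed
set as soon as those of a Sylow 2-subgroup do.
-/

set_option autoImplicit false

namespace Cfsg.Agent.H27.J3Out

theorem invol_mem_of_sylow {Γ : Type*} [Group Γ] (K P : Subgroup Γ) [Finite K] (S gens : Set Γ) (a : ℕ)
    (hPK : P ≤ K) (hP : Nat.card P = 2 ^ a) (hodd : ¬ 2 ^ (a + 1) ∣ Nat.card K)
    (hgen : Subgroup.closure gens = K)
    (hS : ∀ s ∈ S, ∀ g ∈ gens, g * s * g⁻¹ ∈ S)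
    (hPS : ∀ t ∈ P, t ^ 2 = 1 → t ≠ 1 → t ∈ S) :
    ∀ t ∈ K, t ^ 2 = 1 → t ≠ 1 → t ∈ S := by
  classical
  have hgK : gens ⊆ K := by rw [← hgen]; exact Subgroup.subset_closure
  have hpow : ∀ g : Γ, (∀ s ∈ S, g * s * g⁻¹ ∈ S) →
      ∀ n : ℕ, ∀ s ∈ S, g ^ n * s * (g ^ n)⁻¹ ∈ S := by
    intro g hg n
    induction n with
    | zero => intro s hs; simpa using hs
    | succ n ih =>
      intro s hs
      have h1 := hg _ (ih s hs)
      have e : g ^ (n + 1) * s * (g ^ (n + 1))⁻¹ = g * (g ^ n * s * (g ^ n)⁻¹) * g⁻¹ := by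
        rw [pow_succ']; group
      rw [e]; exact h1
  have hinv : ∀ g ∈ gens, ∀ s ∈ S, g⁻¹ * s * g ∈ S := by
    intro g hg s hs
    have hgK' : g ∈ K := hgK hg
    have hfin : IsOfFinOrder g := by
      have h1 : IsOfFinOrder (⟨g, hgK'⟩ : K) := isOfFinOrder_of_finite _
      have h2 := K.subtype.isOfFinOrder h1
      exact h2
    have hpos : 0 < orderOf g := hfin.orderOf_pos
    have e : g⁻¹ = g ^ (orderOf g - 1) := by
      apply inv_eq_of_mul_eq_one_right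
      rw [← pow_succ', Nat.sub_add_cancel hpos, pow_orderOf_eq_one]
    have h1 := hpow g (fun s hs => hS s hs g hg) (orderOf g - 1) s hs
    rw [← e, inv_inv] at h1
    exact h1
  have hconj : ∀ k ∈ K, (∀ s ∈ S, k * s * k⁻¹ ∈ S) ∧ (∀ s ∈ S, k⁻¹ * s * k ∈ S) := by
    intro k hk
    rw [← hgen] at hk
    induction hk using Subgroup.closure_induction with
    | mem g hg => exact ⟨fun s hs => hS s hs g hg, hinv g hg⟩
    | one => exact ⟨fun s hs => by simpa using hs, fun s hs => by simpa using hs⟩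
    | mul x y _ _ hx hy =>
      refine ⟨fun s hs => ?_, fun s hs => ?_⟩
      · have h1 := hx.1 _ (hy.1 s hs)
        have e : x * y * s * (x * y)⁻¹ = x * (y * s * y⁻¹) * x⁻¹ := by group
        rw [e]; exact h1
      · have h1 := hy.2 _ (hx.2 s hs)
        have e : (x * y)⁻¹ * s * (x * y) = y⁻¹ * (x⁻¹ * s * x) * y := by group
        rw [e]; exact h1
    | inv x _ hx =>
      refine ⟨fun s hs => ?_, fun s hs => ?_⟩
      · have h1 := hx.2 s hs; simpa using h1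
      · have h1 := hx.1 s hs; simpa using h1
  intro t ht ht2 ht1
  haveI : Fact (Nat.Prime 2) := ⟨Nat.prime_two⟩
  obtain ⟨t', ht'⟩ : ∃ t' : K, (t' : Γ) = t := ⟨⟨t, ht⟩, rfl⟩
  have ht'2 : t' ^ 2 = 1 := Subtype.ext (by rw [Subgroup.coe_pow, ht', ht2]; rfl)
  have ht'1 : t' ≠ 1 := fun h => ht1 (by rw [← ht', h]; rfl)
  have hord : orderOf t' = 2 := orderOf_eq_prime ht'2 ht'1
  have hZ : IsPGroup 2 ↥(Subgroup.zpowers t') :=
    IsPGroup.of_card (n := 1) (by rw [Nat.card_zpowers, hord, pow_one])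
  have hidx : ¬ 2 ∣ Nat.card (↥K ⧸ P.subgroupOf K) := by
    intro h2
    apply hodd
    have hc : Nat.card ↥(P.subgroupOf K) = 2 ^ a := by
      rw [← hP]; exact Nat.card_congr (Subgroup.subgroupOfEquivOfLe hPK).toEquiv
    have h3 := Subgroup.card_mul_index (P.subgroupOf K)
    rw [hc] at h3
    rw [← h3, pow_succ]
    exact Nat.mul_dvd_mul_left _ h2
  obtain ⟨y, hy⟩ := hZ.nonempty_fixed_point_of_prime_not_dvd_card (↥K ⧸ P.subgroupOf K) hidx
  obtain ⟨g, rfl⟩ := QuotientGroup.mk_surjective y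
  have h1 : (QuotientGroup.mk (t' * g) : ↥K ⧸ P.subgroupOf K) = QuotientGroup.mk g :=
    hy ⟨t', Subgroup.mem_zpowers t'⟩
  have h2 := inv_mem (QuotientGroup.eq.mp h1)
  have h3 : (g : Γ)⁻¹ * t * (g : Γ) ∈ P := by
    have e : ((t' * g)⁻¹ * g)⁻¹ = g⁻¹ * t' * g := by group
    rw [e, Subgroup.mem_subgroupOf] at h2
    rw [← ht']
    exact h2
  have h4 : ((g : Γ)⁻¹ * t * (g : Γ)) ^ 2 = 1 := by
    have e : ((g : Γ)⁻¹ * t * (g : Γ)) ^ 2 = (g : Γ)⁻¹ * t ^ 2 * (g : Γ) := by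
      rw [pow_two, pow_two]; group
    rw [e, ht2]; group
  have h5 : (g : Γ)⁻¹ * t * (g : Γ) ≠ 1 := by
    intro h
    apply ht1
    have e : t = (g : Γ) * ((g : Γ)⁻¹ * t * (g : Γ)) * (g : Γ)⁻¹ := by group
    rw [e, h]; group
  have h6 := hPS _ h3 h4 h5
  have h7 := (hconj (g : Γ) g.2).1 _ h6
  have e : (g : Γ) * ((g : Γ)⁻¹ * t * (g : Γ)) * (g : Γ)⁻¹ = t := by group
  rw [e] at h7
  exact h7

end Cfsg.Agent.H27.J3Out
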