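import Cfsg.Agent.H27.Comp

/-!
# The layer, the generalized Fitting subgroup (helper27)

* `layer_normal`, `genFitting_normal`
* `layer_comm_fitting` : `[E(G), F(G)] = 1`
* `centralizer_genFitting_le` : `C_G(F*(G)) ≤ F*(G)`
* `solvable_le_center_fitting`
* `center_layer_le` : `Z(E(G))` is generated by the centres of the components
-/

set_option autoImplicit false

namespace Cfsg.Agent.H27

open Cfsg
open scoped commutatorElement

section basic

variable {G : Type*} [Group G]

theorem le_normalizer_of_normal (A N : Subgroup G) [hN : N.Normal] :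
    A ≤ Subgroup.normalizer (N : Set G) := by
  rw [Subgroup.normalizer_eq_top]; exact le_top

/-- Elements of a join of two elementwise commuting subgroups are products. -/
theorem exists_mul_of_mem_sup_of_comm {A B : Subgroup G}
    (h : ∀ a ∈ A, ∀ b ∈ B, a * b = b * a) {x : G} (hx : x ∈ A ⊔ B) :
    ∃ a ∈ A, ∃ b ∈ B, a * b = x := by
  rw [Subgroup.sup_eq_closure] at hx
  induction hx using Subgroup.closure_induction with
  | mem x hx =>
    rcases hx with hx | hx
    · exact ⟨x, hx, 1, B.one_mem, mul_one x⟩
    · exact ⟨1, A.one_mem, x, hx, one_mul x⟩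
  | one => exact ⟨1, A.one_mem, 1, B.one_mem, mul_one 1⟩
  | mul x y _ _ hx hy =>
    obtain ⟨a, ha, b, hb, rfl⟩ := hx
    obtain ⟨a', ha', b', hb', rfl⟩ := hy
    refine ⟨a * a', A.mul_mem ha ha', b * b', B.mul_mem hb hb', ?_⟩
    have := h a' ha' b hb
    calc a * a' * (b * b') = a * (a' * b) * b' := by group
      _ = a * (b * a') * b' := by rw [this]
      _ = a * b * (a' * b') := by group
  | inv x _ hx =>
    obtain ⟨a, ha, b, hb, rfl⟩ := hx
    refine ⟨a⁻¹, A.inv_mem ha, b⁻¹, B.inv_mem hb, ?_⟩
    have := h a ha b hb
    rw [mul_inv_rev]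
    have h2 : a⁻¹ * b⁻¹ = (b * a)⁻¹ := by group
    have h3 : b⁻¹ * a⁻¹ = (a * b)⁻¹ := by group
    rw [h2, h3, this]

/-- The centre of a subgroup, viewed in the ambient group. -/
theorem mem_center_map_subtype {H : Subgroup G} {x : G} :
    x ∈ (Subgroup.center ↥H).map H.subtype ↔ x ∈ H ∧ ∀ y ∈ H, y * x = x * y := by
  constructor
  · rintro ⟨z, hz, rfl⟩
    refine ⟨z.2, fun y hy => ?_⟩
    exact congrArg Subtype.val (Subgroup.mem_center_iff.1 hz ⟨y, hy⟩)
  · rintro ⟨hx, h⟩
    have hc : (⟨x, hx⟩ : H) ∈ Subgroup.center H := by
      rw [Subgroup.mem_center_iff]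
      intro y
      exact Subtype.ext (h y y.2)
    exact ⟨⟨x, hx⟩, hc, rfl⟩

theorem center_map_subtype_eq (H : Subgroup G) :
    (Subgroup.center ↥H).map H.subtype = H ⊓ Subgroup.centralizer (H : Set G) := by
  ext x
  rw [mem_center_map_subtype, Subgroup.mem_inf, Subgroup.mem_centralizer_iff]
  exact Iff.rfl

/-- A subgroup whose derived subgroup is central in it is nilpotent. -/
theorem nilpotent_of_commutator_central (A : Subgroup G)
    (h : ∀ x ∈ ⁅A, A⁆, ∀ a ∈ A, a * x = x * a) : Group.IsNilpotent A := by
  apply Subgroup.isNilpotent_of_ker_le_center (Abelianization.of : A →* Abelianization A)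
  rw [Abelianization.ker_of, commutator_def, Subgroup.commutator_le]
  intro a _ b _
  rw [Subgroup.mem_center_iff]
  intro z
  apply Subtype.ext
  have h1 : ⁅(a : G), (b : G)⁆ ∈ ⁅A, A⁆ := Subgroup.commutator_mem_commutator a.2 b.2
  exact h _ h1 z z.2

/-- The derived series of a subgroup, inside the ambient group. -/
def dSer (N : Subgroup G) : ℕ → Subgroup G
  | 0 => N
  | n + 1 => ⁅dSer N n, dSer N n⁆

theorem dSer_eq_map (N : Subgroup G) (n : ℕ) :
    dSer N n = (derivedSeries N n).map N.subtype := by
  induction n with
  | zero =>
    show N = _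
    rw [derivedSeries_zero, ← MonoidHom.range_eq_map, Subgroup.range_subtype]
  | succ n ih =>
    show ⁅dSer N n, dSer N n⁆ = _
    rw [derivedSeries_succ, Subgroup.map_commutator, ih]

theorem dSer_eq_bot_of_solvable (N : Subgroup G) (h : Group.IsSolvable N) :
    ∃ n, dSer N n = ⊥ := by
  obtain ⟨n, hn⟩ := h.solvable
  exact ⟨n, by rw [dSer_eq_map, hn, Subgroup.map_bot]⟩

theorem dSer_le (N : Subgroup G) (n : ℕ) : dSer N n ≤ N := by
  induction n with
  | zero => exact le_rfl
  | succ n ih => exact le_trans (commutator_self_le _) ih

theorem normalizer_le_normalizer_dSer (N : Subgroup G) (n : ℕ) :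
    Subgroup.normalizer (N : Set G) ≤ Subgroup.normalizer (dSer N n : Set G) := by
  induction n with
  | zero => exact le_rfl
  | succ n ih =>
    exact le_trans (le_inf ih ih) (normalizer_inf_le_normalizer_commutator _ _)

end basic

/-! ### The layer -/

section layer

variable {G : Type*} [Group G]

theorem isComponent_le_layer {L : Subgroup G} (hL : IsComponent L) : L ≤ layer G :=
  le_sSup hL

theorem layer_map_equiv_le {G' : Type*} [Group G'] (e : G ≃* G') :
    (layer G).map e.toMonoidHom ≤ layer G' := by
  rw [Subgroup.map_le_iff_le_comap]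
  apply sSup_le
  intro L hL
  rw [← Subgroup.map_le_iff_le_comap]
  exact le_sSup (isComponent_map_equiv e hL)

theorem layer_map_equiv {G' : Type*} [Group G'] (e : G ≃* G') :
    (layer G).map e.toMonoidHom = layer G' := by
  apply le_antisymm (layer_map_equiv_le e)
  have h := layer_map_equiv_le e.symm
  have h2 := Subgroup.map_mono (f := e.toMonoidHom) h
  rw [Subgroup.map_map] at h2
  have h3 : e.toMonoidHom.comp e.symm.toMonoidHom = MonoidHom.id G' := by
    ext x; simp
  rw [h3, Subgroup.map_id] at h2
  exact h2

instance layer_characteristic (G : Type*) [Group G] : (layer G).Characteristic :=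
  Subgroup.characteristic_iff_map_eq.2 (fun ϕ => layer_map_equiv ϕ)

instance layer_normal (G : Type*) [Group G] : (layer G).Normal :=
  Subgroup.normal_of_characteristic _

instance fitting_normal (G : Type*) [Group G] : (fittingSubgroup G).Normal :=
  Subgroup.sSup_normal _ (fun _ h => h.1)

instance genFitting_normal (G : Type*) [Group G] : (generalizedFittingSubgroup G).Normal := by
  unfold generalizedFittingSubgroup; infer_instance

theorem layer_le_genFitting : layer G ≤ generalizedFittingSubgroup G := le_sup_left

theorem fitting_le_genFitting : fittingSubgroup G ≤ generalizedFittingSubgroup G := le_sup_right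

/-- A subnormal nilpotent subgroup of a finite group lies in the Fitting subgroup. -/
theorem le_fitting_of_subnormal_nilpotent [Finite G] {M : Subgroup G} (hM : M.IsSubnormal)
    (hnil : Group.IsNilpotent M) : M ≤ fittingSubgroup G :=
  le_rad_of_subnormal isoInv_nilpotent radClosed_nilpotent hM hnil

theorem fitting_solvable [Finite G] : Group.IsSolvable (fittingSubgroup G) := by
  have : Group.IsNilpotent (fittingSubgroup G) := fitting_nilpotent
  infer_instance

/-- `[E(G), F(G)] = 1`. -/
theorem layer_comm_fitting [Finite G] : ⁅layer G, fittingSubgroup G⁆ = ⊥ := by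
  rw [Subgroup.commutator_eq_bot_iff_le_centralizer]
  apply sSup_le
  intro L hL
  rw [← Subgroup.commutator_eq_bot_iff_le_centralizer]
  exact component_comm_solvable L _ hL fitting_solvable (le_normalizer_of_normal _ _)

/-- Subgroup version of `quasisimple_of_normal_central`. -/
theorem isQuasisimple_of_normal_central {M : Subgroup G} (hne : M ≠ ⊥) (hperf : ⁅M, M⁆ = M)
    (h : ∀ N : Subgroup G, N ≤ M → M ≤ Subgroup.normalizer (N : Set G) → N ≠ M → ⁅N, M⁆ = ⊥) :
    IsQuasisimple M := by
  have : Nontrivial M := (Subgroup.nontrivial_iff_ne_bot M).2 hne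
  apply quasisimple_of_normal_central (Subgroup.isPerfect_iff.2 hperf)
  intro N' hN' hne'
  have hle : N'.map M.subtype ≤ M := by
    rintro _ ⟨x, -, rfl⟩; exact x.2
  have hsub : (N'.map M.subtype).subgroupOf M = N' := by
    rw [Subgroup.subgroupOf, Subgroup.comap_map_eq_self_of_injective M.subtype_injective]
  have hnorm : M ≤ Subgroup.normalizer ((N'.map M.subtype : Subgroup G) : Set G) := by
    rw [← Subgroup.normal_subgroupOf_iff_le_normalizer hle, hsub]; exact hN'
  have hneM : N'.map M.subtype ≠ M := by
    intro heq
    apply hne'
    rw [← hsub, heq]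
    exact Subgroup.subgroupOf_self M
  have hc := h _ hle hnorm hneM
  intro x hx
  rw [Subgroup.mem_center_iff]
  intro y
  apply Subtype.ext
  exact (comm_of_comm_eq_bot hc (a := (x : G)) (b := (y : G))
    (Subgroup.mem_map_of_mem M.subtype hx) y.2).symm

/-- **The generalized Fitting subgroup contains its centralizer.** -/
theorem centralizer_genFitting_le [Finite G] :
    Subgroup.centralizer (generalizedFittingSubgroup G : Set G) ≤ generalizedFittingSubgroup G := by
  have key : ∀ n : ℕ, ∀ M : Subgroup G, Nat.card M = n → M.IsSubnormal →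
      M ≤ Subgroup.centralizer (generalizedFittingSubgroup G : Set G) →
      M ≤ generalizedFittingSubgroup G := by
    intro n
    induction n using Nat.strong_induction_on with
    | _ n ih =>
      intro M hcard hsub hMC
      have hprop : ∀ N : Subgroup G, N ≤ M → M ≤ Subgroup.normalizer (N : Set G) → N ≠ M →
          N ≤ generalizedFittingSubgroup G := by
        intro N hNM hnorm hne
        have hlt : Nat.card N < Nat.card M := by
          by_contra hge
          exact hne (Subgroup.eq_of_le_of_card_ge hNM (not_lt.1 hge))
        exact ih (Nat.card N) (hcard ▸ hlt) N rfl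
          (Subgroup.IsSubnormal.step N M hNM hsub
            ((Subgroup.normal_subgroupOf_iff_le_normalizer hNM).2 hnorm)) (hNM.trans hMC)
      -- elements of `F*` in `M`-normal proper subgroups commute with `M`
      have hcomm : ∀ N : Subgroup G, N ≤ generalizedFittingSubgroup G →
          ∀ x ∈ N, ∀ a ∈ M, a * x = x * a := by
        intro N hNF x hx a ha
        exact Subgroup.mem_centralizer_iff.1 (hMC ha) x (hNF hx) |>.symm
      by_cases hperf : ⁅M, M⁆ = M
      · by_cases hbot : M = ⊥
        · rw [hbot]; exact bot_le
        · have hq : IsQuasisimple M := isQuasisimple_of_normal_central hbot hperf (by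
            intro N hNM hnorm hne
            have hNF := hprop N hNM hnorm hne
            apply comm_eq_bot_of_forall
            intro a ha b hb
            exact (hcomm N hNF a ha b hb).symm)
          have hMc : IsComponent M := ⟨hsub, hq⟩
          exact le_trans (isComponent_le_layer hMc) layer_le_genFitting
      · have hM' : ⁅M, M⁆ ≤ generalizedFittingSubgroup G :=
          hprop ⁅M, M⁆ (commutator_self_le M) (le_normalizer_commutator_self M) hperf
        have hnil : Group.IsNilpotent M :=
          nilpotent_of_commutator_central M (hcomm _ hM')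
        exact le_trans (le_fitting_of_subnormal_nilpotent hsub hnil) fitting_le_genFitting
  have hCn : (Subgroup.centralizer (generalizedFittingSubgroup G : Set G)).Normal :=
    inferInstance
  exact key _ _ rfl hCn.isSubnormal le_rfl

/-- A solvable subgroup of `C_G(F(G))` normalized by `C_G(F(G))` lies in `Z(F(G))`. -/
theorem solvable_le_center_fitting [Finite G] (N : Subgroup G)
    (hN : N ≤ Subgroup.centralizer (fittingSubgroup G : Set G))
    (hnorm : Subgroup.centralizer (fittingSubgroup G : Set G) ≤ Subgroup.normalizer (N : Set G))
    (hsolv : Group.IsSolvable N) : N ≤ fittingSubgroup G := by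
  obtain ⟨k, hk⟩ := dSer_eq_bot_of_solvable N hsolv
  have hCn : (Subgroup.centralizer (fittingSubgroup G : Set G)).Normal := inferInstance
  have step : ∀ n, dSer N (n + 1) ≤ fittingSubgroup G → dSer N n ≤ fittingSubgroup G := by
    intro n hle
    have hAC : dSer N n ≤ Subgroup.centralizer (fittingSubgroup G : Set G) :=
      (dSer_le N n).trans hN
    have hnil : Group.IsNilpotent (dSer N n) := by
      apply nilpotent_of_commutator_central
      intro x hx a ha
      exact Subgroup.mem_centralizer_iff.1 (hAC ha) x (hle hx) |>.symm
    have hsub : (dSer N n).IsSubnormal :=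
      Subgroup.IsSubnormal.step _ _ hAC hCn.isSubnormal
        ((Subgroup.normal_subgroupOf_iff_le_normalizer hAC).2
          (hnorm.trans (normalizer_le_normalizer_dSer N n)))
    exact le_fitting_of_subnormal_nilpotent hsub hnil
  have hall : ∀ m, dSer N m ≤ fittingSubgroup G → dSer N 0 ≤ fittingSubgroup G := by
    intro m
    induction m with
    | zero => exact id
    | succ m ih => exact fun h => ih (step m h)
  exact hall k (hk ▸ bot_le)

/-- The centre of the layer is generated by the centres of the components. -/
theorem center_layer_le [Finite G] :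
    layer G ⊓ Subgroup.centralizer (layer G : Set G) ≤
      ⨆ L : {K : Subgroup G // IsComponent K},
        ((L : Subgroup G) ⊓ Subgroup.centralizer ((L : Subgroup G) : Set G)) := by
  classical
  have hfin : ({K : Subgroup G | IsComponent K}).Finite := Set.toFinite _
  have hS : layer G = hfin.toFinset.sup id := by
    rw [Finset.sup_id_eq_sSup, Set.Finite.coe_toFinset]; rfl
  have key : ∀ T : Finset (Subgroup G), (∀ K ∈ T, IsComponent K) →
      ∀ z ∈ T.sup id, (∀ K ∈ T, ∀ y ∈ K, y * z = z * y) →
        z ∈ T.sup (fun K => K ⊓ Subgroup.centralizer (K : Set G)) := by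
    intro T
    induction T using Finset.induction_on with
    | empty =>
      intro _ z hz _
      simpa using hz
    | insert K T' hK ih =>
      intro hT z hz hcz
      rw [Finset.sup_insert] at hz ⊢
      have hKc : IsComponent K := hT K (Finset.mem_insert_self K T')
      have hT' : ∀ K' ∈ T', IsComponent K' := fun K' h => hT K' (Finset.mem_insert_of_mem h)
      -- `K` commutes with the join of `T'`
      have hcomm : ∀ a ∈ (id K : Subgroup G), ∀ b ∈ T'.sup id, a * b = b * a := by
        intro a ha b hb
        have hle : T'.sup id ≤ Subgroup.centralizer (K : Set G) := by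
          apply Finset.sup_le
          intro K' hK'
          have hne : K' ≠ K := fun h => hK (h ▸ hK')
          rw [id, ← Subgroup.commutator_eq_bot_iff_le_centralizer]
          exact components_commute (hT' K' hK') hKc hne
        exact Subgroup.mem_centralizer_iff.1 (hle hb) a ha
      obtain ⟨k, hk, e, he, rfl⟩ := exists_mul_of_mem_sup_of_comm hcomm hz
      have hk' : k ∈ K := hk
      have hkc : k ∈ K ⊓ Subgroup.centralizer (K : Set G) := by
        refine Subgroup.mem_inf.2 ⟨hk', ?_⟩
        rw [Subgroup.mem_centralizer_iff]
        intro y hy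
        have h1 := hcz K (Finset.mem_insert_self K T') y hy
        have h2 := hcomm y hy e he
        have : y * k * e = k * y * e := by
          calc y * k * e = y * (k * e) := by group
            _ = k * e * y := h1
            _ = k * (e * y) := by group
            _ = k * (y * e) := by rw [h2]
            _ = k * y * e := by group
        exact mul_right_cancel this
      have hec : e ∈ T'.sup (fun K => K ⊓ Subgroup.centralizer (K : Set G)) := by
        apply ih hT' e he
        intro K' hK' y hy
        have hne : K ≠ K' := fun h => hK (h ▸ hK')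
        have h1 := hcz K' (Finset.mem_insert_of_mem hK') y hy
        have h2 : k * y = y * k :=
          comm_of_comm_eq_bot (components_commute hKc (hT' K' hK') hne) hk' hy
        have : k * (y * e) = k * (e * y) := by
          calc k * (y * e) = (k * y) * e := by group
            _ = y * k * e := by rw [h2]
            _ = y * (k * e) := by group
            _ = k * e * y := h1
            _ = k * (e * y) := by group
        exact mul_left_cancel this
      exact Subgroup.mul_mem_sup hkc hec
  intro z hz
  have hz1 : z ∈ hfin.toFinset.sup id := hS ▸ hz.1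
  have hz2 := key hfin.toFinset (fun K hK => (Set.Finite.mem_toFinset hfin).1 hK) z hz1 (by
    intro K hK y hy
    have hKc : IsComponent K := (Set.Finite.mem_toFinset hfin).1 hK
    exact Subgroup.mem_centralizer_iff.1 hz.2 y (isComponent_le_layer hKc hy))
  refine (Finset.sup_le ?_ : hfin.toFinset.sup (fun K => K ⊓ Subgroup.centralizer (K : Set G)) ≤ _) hz2
  intro K hK
  have hKc : IsComponent K := (Set.Finite.mem_toFinset hfin).1 hK
  exact le_iSup (fun L : {K : Subgroup G // IsComponent K} =>
    ((L : Subgroup G) ⊓ Subgroup.centralizer ((L : Subgroup G) : Set G))) ⟨K, hKc⟩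

/-- The centre of each component lies in the centre of the layer. -/
theorem center_component_le {L : Subgroup G} (hL : IsComponent L) :
    L ⊓ Subgroup.centralizer (L : Set G) ≤ layer G ⊓ Subgroup.centralizer (layer G : Set G) := by
  intro z hz
  have hz' := Subgroup.mem_inf.1 hz
  refine Subgroup.mem_inf.2 ⟨isComponent_le_layer hL hz'.1, ?_⟩
  have hle : layer G ≤ Subgroup.centralizer ({z} : Set G) := by
    apply sSup_le
    intro K hK y hy
    rw [Subgroup.mem_centralizer_iff]
    intro w hw
    rw [Set.mem_singleton_iff] at hw
    subst hw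
    by_cases hKL : K = L
    · subst hKL
      exact (Subgroup.mem_centralizer_iff.1 hz'.2 y hy).symm
    · exact comm_of_comm_eq_bot (components_commute hL hK (Ne.symm hKL)) hz'.1 hy
  rw [Subgroup.mem_centralizer_iff]
  intro y hy
  exact (Subgroup.mem_centralizer_iff.1 (hle hy) z rfl).symm

end layer

end Cfsg.Agent.H27
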