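import Mathlib
import Cfsg.Agent.H43.MCDefs

/-!
# S3905-XEA (helper43's team project S3905): transfer of `IntEA` to the quotient `N ⧸ Z(N)`
-/

set_option autoImplicit false

namespace Cfsg.Agent.H27.MC

open Cfsg.Agent.H43.MC

universe u

/-- **S3905-XEA**. -/
theorem xferEA : StXferEA.{u} := by
  intro G _ N p hEA
  obtain ⟨hc, hp⟩ := hEA
  have hcen : ∀ n : ↥N, (n : G) ∈ Subgroup.centralizer (N : Set G) →
      n ∈ Subgroup.center ↥N := by
    intro n hn
    rw [Subgroup.mem_center_iff]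
    intro g
    apply Subtype.ext
    have := (mem_cent_set.mp hn) g g.2
    simpa using this
  refine ⟨⟨⟨?_⟩⟩, ?_⟩
  · rintro ⟨a, ha⟩ ⟨b, hb⟩
    apply Subtype.ext
    show a * b = b * a
    induction a using QuotientGroup.induction_on with | _ a => ?_
    induction b using QuotientGroup.induction_on with | _ b => ?_
    rw [← QuotientGroup.mk_mul, ← QuotientGroup.mk_mul, QuotientGroup.eq]
    apply hcen
    have h1 := hc (b⁻¹ : ↥N) (b⁻¹ : ↥N).2 (a⁻¹ : ↥N) (a⁻¹ : ↥N).2
    have h2 : (((a * b)⁻¹ * (b * a) : ↥N) : G) =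
        ((b⁻¹ : ↥N) : G) * ((a⁻¹ : ↥N) : G) * ((b⁻¹ : ↥N) : G)⁻¹ * ((a⁻¹ : ↥N) : G)⁻¹ := by
      simp only [Subgroup.coe_mul, Subgroup.coe_inv, mul_inv_rev, inv_inv]
      group
    rw [h2]; exact h1
  · intro a _
    induction a using QuotientGroup.induction_on with | _ a => ?_
    rw [← QuotientGroup.mk_pow, QuotientGroup.eq_one_iff]
    apply hcen
    have := hp (a : G) a.2
    simpa using this

example : Cfsg.Agent.H43.MC.StXferEA.{u} := xferEA

end Cfsg.Agent.H27.MC
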