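import Mathlib

/-!
# S2953, KILL2 case (b) ("V ⊄ Q₁"): the abstract core `r1_out` (helper1's posted signature, drop-in)

`T' = Q₁ ∪ Q₁ v`, `v` an involution with `[Q₁, v] ≤ ⟨z⟩`, `z ∈ Z(T') ∩ Q₁` an involution, `k` of order 3
normalizing `Q₁` and not centralizing `z`, `v` inverting `k` modulo `Q₁`; `s` normalizes `T'` and fixes
`v` modulo `⟨z⟩`.  Then `s` normalizes `Q₁`.

Proof.  `z₁ = z^k`, `z₂ = z^(k⁻¹)` are central in `Q₁`, `v` swaps them, so `z₂ = z₁ z`.  For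
`w = k v k⁻¹` the map `q ↦ [w, q]` is a homomorphism `Q₁ → ⟨z₁⟩` which is non-trivial on `z`; hence `z` is
neither a square nor a commutator in `Q₁`.  This gives: every involution `t ∈ T'` with `t^v = t z` lies in
`Q₁`, and `C_{T'}(t) ≤ Q₁`.  Apply this to `t = s z₁ s⁻¹`, which centralizes `s Q₁ s⁻¹`.
-/

set_option autoImplicit false

namespace Cfsg.Agent.H27.R1

universe u

theorem r1_out {G : Type u} [Group G] [Finite G] (T' Q₁ K' O : Subgroup G) (z v k s : G)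
    (hQT : Q₁ ≤ T') (hT2 : IsPGroup 2 ↥T') (hvT : v ∈ T') (hvQ : v ∉ Q₁)
    (hTQv : ∀ t ∈ T', t ∈ Q₁ ∨ t * v ∈ Q₁) (hv2 : v * v = 1) (hz2 : z * z = 1) (hzQ : z ∈ Q₁)
    (hzT : ∀ t ∈ T', t * z = z * t)
    (hQv : ∀ q ∈ Q₁, v * q * v⁻¹ = q ∨ v * q * v⁻¹ = q * z) (hkK : k ∈ K') (hk3 : k ^ 3 = 1)
    (hkz : k * z * k⁻¹ ≠ z) (hkQ : ∀ q ∈ Q₁, k * q * k⁻¹ ∈ Q₁) (hOQ : O ≤ Q₁)
    (hKO : ∀ g ∈ K', ∃ o ∈ O, ∃ i : ℕ, g = o * k ^ i)
    (hKgen : Subgroup.closure {g : G | g ∈ K' ∧ Odd (orderOf g)} = K')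
    (hvk : v * k * v⁻¹ ∈ K') (hvk' : v * k * v⁻¹ * k ∈ Q₁)
    (hsT : ∀ t ∈ T', s * t * s⁻¹ ∈ T') (hsv : s * v * s⁻¹ = v ∨ s * v * s⁻¹ = v * z) :
    ∀ q ∈ Q₁, s * q * s⁻¹ ∈ Q₁ := by
  have hzne : z ≠ 1 := by
    intro h
    apply hkz
    rw [h]
    group
  have hkinv : k⁻¹ = k * k := by
    apply inv_eq_of_mul_eq_one_right
    calc k * (k * k) = k ^ 3 := by rw [pow_succ, pow_two, mul_assoc]
      _ = 1 := hk3
  have hkQ' : ∀ q ∈ Q₁, k⁻¹ * q * k ∈ Q₁ := by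
    intro q hq
    have h := hkQ _ (hkQ q hq)
    have e : k⁻¹ * q * k = k * (k * q * k⁻¹) * k⁻¹ := by
      calc k⁻¹ * q * k = (k * k) * q * (k * k)⁻¹ := by rw [← hkinv, inv_inv]
        _ = k * (k * q * k⁻¹) * k⁻¹ := by group
    rw [e]
    exact h
  obtain ⟨z1, hz1def⟩ : ∃ z1, z1 = k * z * k⁻¹ := ⟨_, rfl⟩
  obtain ⟨z2, hz2def⟩ : ∃ z2, z2 = k⁻¹ * z * k := ⟨_, rfl⟩
  have hz1Q : z1 ∈ Q₁ := hz1def ▸ hkQ z hzQ
  have hcz : ∀ q ∈ Q₁, q * z = z * q := fun q hq => hzT q (hQT hq)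
  have hcz1 : ∀ q ∈ Q₁, q * z1 = z1 * q := by
    intro q hq
    have h := hcz _ (hkQ' q hq)
    rw [hz1def]
    calc q * (k * z * k⁻¹) = k * ((k⁻¹ * q * k) * z) * k⁻¹ := by group
      _ = k * (z * (k⁻¹ * q * k)) * k⁻¹ := by rw [h]
      _ = k * z * k⁻¹ * q := by group
  have hcz2 : ∀ q ∈ Q₁, q * z2 = z2 * q := by
    intro q hq
    have h := hcz _ (hkQ q hq)
    rw [hz2def]
    calc q * (k⁻¹ * z * k) = k⁻¹ * ((k * q * k⁻¹) * z) * k := by group
      _ = k⁻¹ * (z * (k * q * k⁻¹)) * k := by rw [h]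
      _ = k⁻¹ * z * k * q := by group
  have hvz : v * z = z * v := hzT v hvT
  have hvzv : v * z * v⁻¹ = z := by
    rw [hvz]
    group
  have hswap : v * z1 * v⁻¹ = z2 := by
    have ha := hcz2 _ hvk'
    rw [hz1def]
    calc v * (k * z * k⁻¹) * v⁻¹
        = (v * k * v⁻¹ * k) * (k⁻¹ * (v * z * v⁻¹) * k) * (v * k * v⁻¹ * k)⁻¹ := by group
      _ = (v * k * v⁻¹ * k) * z2 * (v * k * v⁻¹ * k)⁻¹ := by rw [hvzv, hz2def]
      _ = z2 := by
        rw [ha]
        group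
  have hz1z2 : z2 = z1 * z := by
    rcases hQv z1 hz1Q with h | h
    · exfalso
      rw [hswap] at h
      apply hkz
      rw [hz2def, hz1def] at h
      calc k * z * k⁻¹ = k⁻¹ * z * k := h.symm
        _ = (k * k) * z * (k * k)⁻¹ := by rw [← hkinv, inv_inv]
        _ = k * (k * z * k⁻¹) * k⁻¹ := by group
        _ = k * (k⁻¹ * z * k) * k⁻¹ := by rw [h]
        _ = z := by group
    · rw [hswap] at h
      exact h
  have hz1sq : z1 * z1 = 1 := by
    rw [hz1def]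
    calc k * z * k⁻¹ * (k * z * k⁻¹) = k * (z * z) * k⁻¹ := by group
      _ = 1 := by
        rw [hz2]
        group
  have hz1ne : z1 ≠ 1 := by
    intro h
    apply hzne
    rw [hz1def] at h
    calc z = k⁻¹ * (k * z * k⁻¹) * k := by group
      _ = 1 := by
        rw [h]
        group
  have hzz1 : z1 * z = z * z1 := hcz z1 hz1Q
  have hswap2 : v * z2 * v⁻¹ = z1 := by
    rw [← hswap]
    calc v * (v * z1 * v⁻¹) * v⁻¹ = (v * v) * z1 * (v * v)⁻¹ := by group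
      _ = z1 := by
        rw [hv2]
        group
  -- the conjugate `w = k v k⁻¹`
  obtain ⟨w, hwdef⟩ : ∃ w, w = k * v * k⁻¹ := ⟨_, rfl⟩
  have hL1 : ∀ q ∈ Q₁, w * q * w⁻¹ = q ∨ w * q * w⁻¹ = q * z1 := by
    intro q hq
    have e : w * q * w⁻¹ = k * (v * (k⁻¹ * q * k) * v⁻¹) * k⁻¹ := by
      rw [hwdef]
      group
    rcases hQv _ (hkQ' q hq) with h | h
    · left
      rw [e, h]
      group
    · right
      rw [e, h, hz1def]
      group
  have hL2 : w * z * w⁻¹ = z * z1 := by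
    have e : w * z * w⁻¹ = k * (v * (k⁻¹ * z * k) * v⁻¹) * k⁻¹ := by
      rw [hwdef]
      group
    have e2 : k * z1 * k⁻¹ = z2 := by
      rw [hz1def, hz2def]
      calc k * (k * z * k⁻¹) * k⁻¹ = (k * k) * z * (k * k)⁻¹ := by group
        _ = k⁻¹ * z * k := by rw [← hkinv, inv_inv]
    rw [e, ← hz2def, hswap2, e2, hz1z2, hzz1]
  have hne : ∀ x : G, x * z1 ≠ x := fun x h =>
    hz1ne (mul_left_cancel (a := x) (h.trans (mul_one x).symm))
  have hwz : ¬ (w * z * w⁻¹ = z) := by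
    rw [hL2]
    exact hne z
  -- `q ↦ [w, q]` is additive on `Q₁`
  have key : ∀ q ∈ Q₁, ∀ q' ∈ Q₁,
      (w * (q * q') * w⁻¹ = q * q') ↔ ((w * q * w⁻¹ = q) ↔ (w * q' * w⁻¹ = q')) := by
    intro q hq q' hq'
    have hmul : w * (q * q') * w⁻¹ = (w * q * w⁻¹) * (w * q' * w⁻¹) := by group
    rcases hL1 q hq with h1 | h1 <;> rcases hL1 q' hq' with h2 | h2
    · rw [hmul, h1, h2]
      simp
    · rw [hmul, h1, h2]
      constructor
      · intro h
        exact absurd (by rw [← mul_assoc] at h; exact h) (hne (q * q'))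
      · intro h
        exact absurd (h.mp rfl) (hne q')
    · rw [hmul, h1, h2]
      have e : q * z1 * q' = q * q' * z1 := by
        calc q * z1 * q' = q * (z1 * q') := by group
          _ = q * (q' * z1) := by rw [← hcz1 q' hq']
          _ = q * q' * z1 := by group
      rw [e]
      constructor
      · intro h
        exact absurd h (hne (q * q'))
      · intro h
        exact absurd (h.mpr rfl) (hne q)
    · rw [hmul, h1, h2]
      have e : q * z1 * (q' * z1) = q * q' := by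
        calc q * z1 * (q' * z1) = q * (z1 * q') * z1 := by group
          _ = q * (q' * z1) * z1 := by rw [← hcz1 q' hq']
          _ = q * q' * (z1 * z1) := by group
          _ = q * q' := by rw [hz1sq, mul_one]
      rw [e]
      constructor
      · intro _
        constructor
        · intro h
          exact absurd h (hne q)
        · intro h
          exact absurd h (hne q')
      · intro _
        rfl
  -- `[v, T'] ≤ ⟨z⟩`
  have hF0 : ∀ t ∈ T', v * t * v⁻¹ = t ∨ v * t * v⁻¹ = t * z := by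
    intro t ht
    rcases hTQv t ht with h | h
    · exact hQv t h
    · have e : v * t * v⁻¹ = (v * (t * v) * v⁻¹) * v⁻¹ := by group
      rcases hQv _ h with h' | h'
      · left
        rw [e, h']
        group
      · right
        rw [e, h']
        calc t * v * z * v⁻¹ = t * (v * z * v⁻¹) := by group
          _ = t * z := by rw [hvzv]
  -- the involution `t₁ = s z₁ s⁻¹`
  obtain ⟨t₁, ht₁def⟩ : ∃ t₁, t₁ = s * z1 * s⁻¹ := ⟨_, rfl⟩
  have ht₁T : t₁ ∈ T' := ht₁def ▸ hsT z1 (hQT hz1Q)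
  have hconj : (s * v * s⁻¹) * t₁ * (s * v * s⁻¹)⁻¹ = v * t₁ * v⁻¹ := by
    rcases hsv with h | h
    · rw [h]
    · rw [h]
      have hc := hzT t₁ ht₁T
      calc v * z * t₁ * (v * z)⁻¹ = v * (z * t₁) * z⁻¹ * v⁻¹ := by group
        _ = v * (t₁ * z) * z⁻¹ * v⁻¹ := by rw [hc]
        _ = v * t₁ * v⁻¹ := by group
  have hconj2 : (s * v * s⁻¹) * t₁ * (s * v * s⁻¹)⁻¹ = t₁ * (s * z * s⁻¹) := by
    rw [ht₁def]
    calc s * v * s⁻¹ * (s * z1 * s⁻¹) * (s * v * s⁻¹)⁻¹ = s * (v * z1 * v⁻¹) * s⁻¹ := by group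
      _ = s * (z1 * z) * s⁻¹ := by rw [hswap, hz1z2]
      _ = s * z1 * s⁻¹ * (s * z * s⁻¹) := by group
  have hszs : s * z * s⁻¹ = z := by
    have h := hconj2.symm.trans hconj
    rcases hF0 t₁ ht₁T with h' | h'
    · exfalso
      rw [h'] at h
      have h1 : s * z * s⁻¹ = 1 := mul_left_cancel (a := t₁) (h.trans (mul_one t₁).symm)
      apply hzne
      calc z = s⁻¹ * (s * z * s⁻¹) * s := by group
        _ = 1 := by
          rw [h1]
          group
    · rw [h'] at h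
      exact mul_left_cancel h
  have hvt₁ : v * t₁ * v⁻¹ = t₁ * z := by
    rw [← hconj, hconj2, hszs]
  have ht₁sq : t₁ * t₁ = 1 := by
    rw [ht₁def]
    calc s * z1 * s⁻¹ * (s * z1 * s⁻¹) = s * (z1 * z1) * s⁻¹ := by group
      _ = 1 := by
        rw [hz1sq]
        group
  -- `t₁ ∈ Q₁`: otherwise `z` would be a square in `Q₁`
  have ht₁Q : t₁ ∈ Q₁ := by
    rcases hTQv t₁ ht₁T with h | h
    · exact h
    · exfalso
      have hsq : (t₁ * v) * (t₁ * v) = z := by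
        calc t₁ * v * (t₁ * v) = t₁ * (v * t₁ * v⁻¹) * (v * v) := by group
          _ = t₁ * (t₁ * z) * 1 := by rw [hvt₁, hv2]
          _ = (t₁ * t₁) * z := by group
          _ = z := by rw [ht₁sq, one_mul]
      have h1 := (key _ h _ h).mpr Iff.rfl
      rw [hsq] at h1
      exact hwz h1
  -- `C_{T'}(t₁) ≤ Q₁`: otherwise `z` would be a commutator in `Q₁`
  intro q hq
  have hqT : s * q * s⁻¹ ∈ T' := hsT q (hQT hq)
  have hcomm : (s * q * s⁻¹) * t₁ = t₁ * (s * q * s⁻¹) := by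
    rw [ht₁def]
    calc s * q * s⁻¹ * (s * z1 * s⁻¹) = s * (q * z1) * s⁻¹ := by group
      _ = s * (z1 * q) * s⁻¹ := by rw [hcz1 q hq]
      _ = s * z1 * s⁻¹ * (s * q * s⁻¹) := by group
  rcases hTQv _ hqT with h | h
  · exact h
  · exfalso
    obtain ⟨x, hxdef⟩ : ∃ x, x = s * q * s⁻¹ := ⟨_, rfl⟩
    rw [← hxdef] at h hcomm hqT
    have hxz : x * z = z * x := hzT x hqT
    have hp : (x * v) * t₁ * (x * v)⁻¹ = t₁ * z := by
      calc x * v * t₁ * (x * v)⁻¹ = x * (v * t₁ * v⁻¹) * x⁻¹ := by group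
        _ = x * (t₁ * z) * x⁻¹ := by rw [hvt₁]
        _ = (x * t₁) * z * x⁻¹ := by group
        _ = (t₁ * x) * z * x⁻¹ := by rw [hcomm]
        _ = t₁ * (x * z) * x⁻¹ := by group
        _ = t₁ * (z * x) * x⁻¹ := by rw [hxz]
        _ = t₁ * z := by group
    have hpinv : (x * v)⁻¹ ∈ Q₁ := Q₁.inv_mem h
    have k1 := key _ h _ ht₁Q
    have k2 := key _ (Q₁.mul_mem h ht₁Q) _ hpinv
    have k3 := key _ h _ hpinv
    have k4 := key _ ht₁Q _ hzQ
    rw [mul_inv_cancel] at k3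
    have h1 : w * 1 * w⁻¹ = 1 := by group
    rw [hp] at k2
    have hAC := k3.mp h1
    by_cases hB : w * t₁ * w⁻¹ = t₁
    · have hD : w * (x * v * t₁) * w⁻¹ = x * v * t₁ ↔ w * (x * v) * w⁻¹ = x * v :=
        ⟨fun d => (k1.mp d).mpr hB, fun a => k1.mpr ⟨fun _ => hB, fun _ => a⟩⟩
      have hE := k2.mpr ⟨fun d => hAC.mp (hD.mp d), fun c => hD.mpr (hAC.mpr c)⟩
      exact hwz ((k4.mp hE).mp hB)
    · have hE := k4.mpr ⟨fun b => absurd b hB, fun z' => absurd z' hwz⟩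
      have hDC := k2.mp hE
      by_cases hA : w * (x * v) * w⁻¹ = x * v
      · have hC := hAC.mp hA
        have hD := hDC.mpr hC
        exact hB ((k1.mp hD).mp hA)
      · have hD := k1.mpr ⟨fun a => absurd a hA, fun b => absurd b hB⟩
        exact hA (hAC.mpr (hDC.mp hD))

end Cfsg.Agent.H27.R1

#print axioms Cfsg.Agent.H27.R1.r1_out
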