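import Mathlib
import Cfsg.Agent.H13.SchDefs
import Cfsg.Agent.H13.Coprime
import Cfsg.Agent.S0536

/-!
# helper27: S4394-P1, the normal Sylow subgroup of a Schmidt group

`sLike_of_schmidt`: the normal Sylow `p`-subgroup `P` of a minimal non-nilpotent group satisfies
`Cfsg.Agent.H13.Sch.SLike p P`.

The proof is in two parts: an abstract statement about a finite `p`-group `T` with an
automorphism `σ` of prime order `q ≠ p` (or trivial `q`-th power) such that every proper
`σ`-invariant subgroup is fixed pointwise (`sLike_of_aut`), and the reduction of the Schmidt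
situation to it.
-/

set_option autoImplicit false

namespace Cfsg.Agent.H27.Sch

open scoped commutatorElement
open Cfsg Cfsg.Agent.H13.Sch

section Abstract

variable {T : Type*} [Group T]

/-- a characteristic subgroup is preserved by automorphisms, elementwise -/
theorem char_mem (H : Subgroup T) [hH : H.Characteristic] (σ : MulAut T) (x : T) :
    σ x ∈ H ↔ x ∈ H := by
  have h := hH.fixed σ
  constructor
  · intro hx
    rw [← h]
    exact hx
  · intro hx
    rw [← h] at hx
    exact hx

theorem pow_apply_of_eq_mul (σ : MulAut T) {g f : T} (hf : σ f = f) (hg : σ g = g * f) (k : ℕ) :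
    (σ ^ k) g = g * f ^ k := by
  induction k with
  | zero => simp
  | succ k ih =>
    rw [pow_succ', MulAut.mul_apply, ih, map_mul, map_pow, hf, hg, mul_assoc, ← pow_succ']

theorem eq_one_of_pow_prime {p q : ℕ} (hp : p.Prime) (hq : q.Prime) (hpq : q ≠ p)
    (hT : IsPGroup p T) {x : T} (hx : x ^ q = 1) : x = 1 := by
  obtain ⟨k, hk⟩ := hT x
  have h1 : x ^ Nat.gcd q (p ^ k) = 1 := pow_gcd_eq_one.2 ⟨hx, hk⟩
  have h2 : Nat.gcd q (p ^ k) = 1 := Nat.Coprime.pow_right k ((Nat.coprime_primes hq hp).2 hpq)
  rw [h2, pow_one] at h1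
  exact h1

theorem cancel_central {b x w : T} (hw : w ∈ Subgroup.center T)
    (h : b * w * x = x * (b * w)) : b * x = x * b := by
  have hc := Subgroup.mem_center_iff.1 hw
  calc b * x = b * (x * w) * w⁻¹ := by group
    _ = b * (w * x) * w⁻¹ := by rw [hc x]
    _ = (b * w * x) * w⁻¹ := by group
    _ = (x * (b * w)) * w⁻¹ := by rw [h]
    _ = x * b := by group

/-- a fixed point of `σ` is central -/
theorem fixed_mem_center [Finite T] {p q : ℕ} (hp : p.Prime) (hq : q.Prime) (hpq : q ≠ p)
    (hT : IsPGroup p T) (σ : MulAut T) (hσq : σ ^ q = 1)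
    (h2 : ∀ H : Subgroup T, H ≠ ⊤ → (∀ h ∈ H, σ h ∈ H) → ∀ h ∈ H, σ h = h)
    (h3 : ¬ ∀ u : T, σ u = u) {c : T} (hc : σ c = c) : c ∈ Subgroup.center T := by
  by_contra hcZ
  have hCne : Subgroup.centralizer ({c} : Set T) ≠ ⊤ := by
    intro h
    apply hcZ
    rw [Subgroup.mem_center_iff]
    intro g
    have : g ∈ Subgroup.centralizer ({c} : Set T) := by rw [h]; trivial
    exact (Subgroup.mem_centralizer_iff.1 this c rfl).symm
  have hCinv : ∀ u ∈ Subgroup.centralizer ({c} : Set T),
      σ u ∈ Subgroup.centralizer ({c} : Set T) := by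
    intro u hu
    rw [Subgroup.mem_centralizer_iff] at hu ⊢
    intro x hx
    rw [Set.mem_singleton_iff] at hx
    subst hx
    have h' := congrArg σ (hu x rfl)
    rw [map_mul, map_mul, hc] at h'
    exact h'
  have hCfix := h2 _ hCne hCinv
  let Fx : Subgroup T :=
    { carrier := {u | σ u = u}
      mul_mem' := fun {a b} ha hb => by
        show σ (a * b) = a * b
        rw [map_mul, show σ a = a from ha, show σ b = b from hb]
      one_mem' := map_one σ
      inv_mem' := fun {a} ha => by
        show σ a⁻¹ = a⁻¹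
        rw [map_inv, show σ a = a from ha] }
  have hFx : ∀ u, u ∈ Fx ↔ σ u = u := fun u => Iff.rfl
  have hFxne : Fx < ⊤ := by
    rw [lt_top_iff_ne_top]
    intro h
    apply h3
    intro u
    have : u ∈ Fx := by rw [h]; trivial
    exact this
  have : Fact p.Prime := ⟨hp⟩
  have : Group.IsNilpotent T := hT.isNilpotent
  have hNC := Group.normalizerCondition_of_isNilpotent (G := T) Fx hFxne
  obtain ⟨g, hgN, hgF⟩ := SetLike.exists_of_lt hNC
  have hgc : σ (g * c * g⁻¹) = g * c * g⁻¹ :=
    (Subgroup.mem_normalizer_iff.1 hgN c).1 ((hFx c).2 hc)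
  rw [map_mul, map_mul, map_inv, hc] at hgc
  have hfC : g⁻¹ * σ g ∈ Subgroup.centralizer ({c} : Set T) := by
    rw [Subgroup.mem_centralizer_iff]
    intro x hx
    rw [Set.mem_singleton_iff] at hx
    subst hx
    have e : σ g * x = g * x * g⁻¹ * σ g := by
      calc σ g * x = (σ g * x * (σ g)⁻¹) * σ g := by group
        _ = g * x * g⁻¹ * σ g := by rw [hgc]
    calc x * (g⁻¹ * σ g) = g⁻¹ * (g * x * g⁻¹ * σ g) := by group
      _ = g⁻¹ * (σ g * x) := by rw [e]
      _ = g⁻¹ * σ g * x := by group
  have hffix : σ (g⁻¹ * σ g) = g⁻¹ * σ g := hCfix _ hfC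
  have hσg : σ g = g * (g⁻¹ * σ g) := by group
  have hpow := pow_apply_of_eq_mul σ hffix hσg q
  rw [hσq, MulAut.one_apply] at hpow
  have hfq : (g⁻¹ * σ g) ^ q = 1 := by
    have : g * 1 = g * (g⁻¹ * σ g) ^ q := by rw [mul_one]; exact hpow
    exact (mul_left_cancel this).symm
  have hf1 := eq_one_of_pow_prime hp hq hpq hT hfq
  apply hgF
  rw [hFx]
  rw [hf1, mul_one] at hσg
  exact hσg

/-- commutators are fixed by `σ` -/
theorem comm_fixed [Finite T] {p : ℕ} (hp : p.Prime) (hT : IsPGroup p T) (σ : MulAut T)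
    (h2 : ∀ H : Subgroup T, H ≠ ⊤ → (∀ h ∈ H, σ h ∈ H) → ∀ h ∈ H, σ h = h)
    (h3 : ¬ ∀ u : T, σ u = u) (a b : T) : σ ⁅a, b⁆ = ⁅a, b⁆ := by
  have : Fact p.Prime := ⟨hp⟩
  have : Group.IsNilpotent T := hT.isNilpotent
  have : Nontrivial T := by
    by_contra hnt
    rw [not_nontrivial_iff_subsingleton] at hnt
    exact h3 (fun u => Subsingleton.elim _ _)
  have hne : commutator T ≠ ⊤ := (Group.IsSolvable.commutator_lt_top_of_nontrivial T).ne
  have hinv : ∀ h ∈ commutator T, σ h ∈ commutator T :=
    fun h hh => (char_mem (commutator T) σ h).2 hh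
  exact h2 _ hne hinv _
    (Subgroup.commutator_mem_commutator (Subgroup.mem_top a) (Subgroup.mem_top b))

/-- the centralizer criterion: if everything commuting with `σ b` commutes with `b`, then `b`
is central -/
theorem mem_center_of_cent (σ : MulAut T)
    (h2 : ∀ H : Subgroup T, H ≠ ⊤ → (∀ h ∈ H, σ h ∈ H) → ∀ h ∈ H, σ h = h)
    (hfixZ : ∀ u : T, σ u = u → u ∈ Subgroup.center T) {b : T}
    (hcent : ∀ x : T, σ b * x = x * σ b → b * x = x * b) : b ∈ Subgroup.center T := by
  by_cases hne : Subgroup.centralizer ({b} : Set T) = ⊤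
  · rw [Subgroup.mem_center_iff]
    intro g
    have : g ∈ Subgroup.centralizer ({b} : Set T) := by rw [hne]; trivial
    exact (Subgroup.mem_centralizer_iff.1 this b rfl).symm
  · apply hfixZ
    apply h2 _ hne
    · intro x hx
      rw [Subgroup.mem_centralizer_iff] at hx ⊢
      intro y hy
      rw [Set.mem_singleton_iff] at hy
      subst hy
      have h' := congrArg σ (hx y rfl)
      rw [map_mul, map_mul] at h'
      exact hcent _ h'
    · rw [Subgroup.mem_centralizer_iff]
      intro y hy
      rw [Set.mem_singleton_iff] at hy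
      rw [hy]

/-- **The abstract statement**: a finite `p`-group `T` with an automorphism `σ`, `σ ^ q = 1` for a
prime `q ≠ p`, such that every proper `σ`-invariant subgroup is fixed pointwise and `σ ≠ 1`. -/
theorem sLike_of_aut [Finite T] {p q : ℕ} (hp : p.Prime) (hq : q.Prime) (hpq : q ≠ p)
    (hT : IsPGroup p T) (σ : MulAut T) (hσq : σ ^ q = 1)
    (h2 : ∀ H : Subgroup T, H ≠ ⊤ → (∀ h ∈ H, σ h ∈ H) → ∀ h ∈ H, σ h = h)
    (h3 : ¬ ∀ u : T, σ u = u) : SLike p T := by
  by_cases hab : ∀ a b : T, a * b = b * a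
  · exact Or.inl hab
  right
  have hfixZ : ∀ u : T, σ u = u → u ∈ Subgroup.center T :=
    fun u hu => fixed_mem_center hp hq hpq hT σ hσq h2 h3 hu
  have hcfix : ∀ a b : T, σ ⁅a, b⁆ = ⁅a, b⁆ := comm_fixed hp hT σ h2 h3
  have hcc : ∀ a b : T, ⁅a, b⁆ ∈ Subgroup.center T := fun a b => hfixZ _ (hcfix a b)
  have hZne : Subgroup.center T ≠ ⊤ := by
    intro h
    apply hab
    intro a b
    have : b ∈ Subgroup.center T := by rw [h]; trivial
    exact Subgroup.mem_center_iff.1 this a
  have hZfix : ∀ z ∈ Subgroup.center T, σ z = z :=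
    h2 _ hZne (fun h hh => (char_mem _ σ h).2 hh)
  have MP : ∀ H : Subgroup T, (∀ h ∈ H, σ h ∈ H) → ∀ h₀ ∈ H, h₀ ∉ Subgroup.center T →
      H = ⊤ := by
    intro H hinv h₀ hh₀ hh₀Z
    by_contra hne
    exact hh₀Z (hfixZ _ (h2 H hne hinv h₀ hh₀))
  obtain ⟨a₀, b₀, hab₀⟩ : ∃ a b : T, a * b ≠ b * a := by
    by_contra hcon
    exact hab (fun a b => by
      by_contra h
      exact hcon ⟨a, b, h⟩)
  have ha₀Z : a₀ ∉ Subgroup.center T := fun h => hab₀ (Subgroup.mem_center_iff.1 h b₀).symm
  -- bilinearity of commutators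
  have hmulr : ∀ u g h : T, ⁅u, g * h⁆ = ⁅u, g⁆ * ⁅u, h⁆ := by
    intro u g h
    have hc := Subgroup.mem_center_iff.1 (hcc u h)
    calc ⁅u, g * h⁆ = u * g * u⁻¹ * ⁅u, h⁆ * g⁻¹ := by
          simp only [commutatorElement_def]; group
      _ = u * g * u⁻¹ * (g⁻¹ * ⁅u, h⁆) := by rw [hc g⁻¹, ← mul_assoc]
      _ = ⁅u, g⁆ * ⁅u, h⁆ := by rw [← mul_assoc, ← commutatorElement_def]
  have hmull : ∀ u u' g : T, ⁅u * u', g⁆ = ⁅u', g⁆ * ⁅u, g⁆ := by
    intro u u' g
    have e1 : ⁅u * u', g⁆ = ⁅g, u * u'⁆⁻¹ := (commutatorElement_inv g (u * u')).symm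
    rw [e1, hmulr, mul_inv_rev, commutatorElement_inv, commutatorElement_inv]
  -- the fixed point congruence
  have hmod : Nat.card T ≡ Nat.card (Subgroup.center T) [MOD q] := by
    have : Fact q.Prime := ⟨hq⟩
    have hGq : IsPGroup q (Subgroup.zpowers σ) := by
      rintro ⟨g, hg⟩
      obtain ⟨k, rfl⟩ := Subgroup.mem_zpowers_iff.1 hg
      refine ⟨1, ?_⟩
      apply Subtype.ext
      show (σ ^ k) ^ q ^ 1 = 1
      rw [pow_one, ← zpow_natCast, ← zpow_mul, mul_comm, zpow_mul, zpow_natCast, hσq, one_zpow]
    have h := hGq.card_modEq_card_fixedPoints T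
    have hset : (MulAction.fixedPoints (Subgroup.zpowers σ) T) = (Subgroup.center T : Set T) := by
      ext u
      rw [MulAction.mem_fixedPoints]
      constructor
      · intro hu
        exact hfixZ u (hu ⟨σ, Subgroup.mem_zpowers σ⟩)
      · intro hu g
        obtain ⟨g, hg⟩ := g
        have hle : Subgroup.zpowers σ ≤ MulAction.stabilizer (MulAut T) u := by
          rw [Subgroup.zpowers_le]
          exact hZfix u hu
        exact hle hg
    rw [hset] at h
    exact h
  -- `q ≠ 2`
  have hq2 : q ≠ 2 := by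
    intro hq2'
    subst hq2'
    have hσ2 : ∀ u : T, σ (σ u) = u := by
      intro u
      have h : (σ ^ 2) u = u := by rw [hσq]; rfl
      rw [pow_two] at h
      exact h
    have h1 : ∀ a : T, a * σ a ∈ Subgroup.center T := by
      intro a
      apply mem_center_of_cent σ h2 hfixZ
      intro x hx
      rw [map_mul, hσ2] at hx
      have e : σ a * a = a * σ a * ⁅(σ a)⁻¹, a⁻¹⁆ := by
        rw [commutatorElement_def]; group
      rw [e] at hx
      exact cancel_central (hcc _ _) hx
    have h2' : ∀ a : T, a ∈ Subgroup.center T := by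
      intro a
      apply mem_center_of_cent σ h2 hfixZ
      intro x hx
      have e : σ a = a⁻¹ * (a * σ a) := by group
      rw [e] at hx
      have h' := cancel_central (h1 a) hx
      calc a * x = a * (x * a⁻¹) * a := by group
        _ = a * (a⁻¹ * x) * a := by rw [h']
        _ = x * a := by group
    exact hab (fun a b => Subgroup.mem_center_iff.1 (h2' b) a)
  refine ⟨?_, ?_, ?_, ?_, ?_⟩
  · -- class two
    intro a b c
    exact (Subgroup.mem_center_iff.1 (hcc a b) c).symm
  · -- `p`-th powers are central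
    have hcomm : ∀ u v : T, Commute (QuotientGroup.mk u : T ⧸ Subgroup.center T)
        (QuotientGroup.mk v) := by
      intro u v
      show (QuotientGroup.mk u : T ⧸ Subgroup.center T) * QuotientGroup.mk v
        = QuotientGroup.mk v * QuotientGroup.mk u
      rw [← QuotientGroup.mk_mul, ← QuotientGroup.mk_mul, QuotientGroup.eq]
      have : (u * v)⁻¹ * (v * u) = ⁅v⁻¹, u⁻¹⁆ := by rw [commutatorElement_def]; group
      rw [this]; exact hcc _ _
    let K : Subgroup T :=
      { carrier := {u | u ^ p ∈ Subgroup.center T}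
        mul_mem' := fun {a b} ha hb => by
          have ha' : a ^ p ∈ Subgroup.center T := ha
          have hb' : b ^ p ∈ Subgroup.center T := hb
          show (a * b) ^ p ∈ Subgroup.center T
          rw [← QuotientGroup.eq_one_iff] at ha' hb' ⊢
          rw [QuotientGroup.mk_pow, QuotientGroup.mk_mul, (hcomm a b).mul_pow,
            ← QuotientGroup.mk_pow, ← QuotientGroup.mk_pow, ha', hb', one_mul]
        one_mem' := by
          show (1 : T) ^ p ∈ Subgroup.center T
          rw [one_pow]; exact Subgroup.one_mem _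
        inv_mem' := fun {a} ha => by
          have ha' : a ^ p ∈ Subgroup.center T := ha
          show (a⁻¹) ^ p ∈ Subgroup.center T
          rw [inv_pow]; exact Subgroup.inv_mem _ ha' }
    have hKinv : ∀ h ∈ K, σ h ∈ K := by
      intro h hh
      have hh' : h ^ p ∈ Subgroup.center T := hh
      show (σ h) ^ p ∈ Subgroup.center T
      rw [← map_pow]
      exact (char_mem _ σ _).2 hh'
    have hex : ∀ k : ℕ, ∀ v : T, v ∉ Subgroup.center T → v ^ p ^ k ∈ Subgroup.center T →
        ∃ w : T, w ∉ Subgroup.center T ∧ w ^ p ∈ Subgroup.center T := by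
      intro k
      induction k with
      | zero =>
        intro v hv hv'
        rw [pow_zero, pow_one] at hv'
        exact absurd hv' hv
      | succ k ih =>
        intro v hv hv'
        by_cases h : v ^ p ∈ Subgroup.center T
        · exact ⟨v, hv, h⟩
        · apply ih (v ^ p) h
          rw [← pow_mul, ← pow_succ']; exact hv'
    obtain ⟨k, hk⟩ := hT a₀
    obtain ⟨w, hw, hw'⟩ := hex k a₀ ha₀Z (by rw [hk]; exact Subgroup.one_mem _)
    have hKtop := MP K hKinv w hw' hw
    intro u
    have : u ∈ K := by rw [hKtop]; trivial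
    exact this
  · -- every commutator is `⁅v, g⁆`
    intro v hv a b
    let φ : T →* T := MonoidHom.mk' (fun g => ⁅v, g⁆) (fun g h => hmulr v g h)
    have hφ : ∀ g, φ g = ⁅v, g⁆ := fun g => rfl
    have hinvl : ∀ x g : T, ⁅x⁻¹, g⁆ = ⁅x, g⁆⁻¹ := by
      intro x g
      have h := hmull x⁻¹ x g
      rw [inv_mul_cancel, commutatorElement_one_left] at h
      exact eq_inv_of_mul_eq_one_right h.symm
    let S : Subgroup T :=
      { carrier := {u | ∀ g, ⁅u, g⁆ ∈ φ.range}
        mul_mem' := fun {x y} hx hy => by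
          intro g
          rw [hmull]
          exact mul_mem (hy g) (hx g)
        one_mem' := by
          intro g
          rw [commutatorElement_one_left]
          exact one_mem _
        inv_mem' := fun {x} hx => by
          intro g
          rw [hinvl]
          exact inv_mem (hx g) }
    have hSinv : ∀ h ∈ S, σ h ∈ S := by
      intro u hu g
      have e : ⁅σ u, g⁆ = ⁅u, σ.symm g⁆ := by
        rw [← hcfix u (σ.symm g), map_commutatorElement, MulEquiv.apply_symm_apply]
      rw [e]
      exact hu (σ.symm g)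
    have hvS : v ∈ S := fun g => ⟨g, rfl⟩
    have hStop := MP S hSinv v hvS hv
    have haS : a ∈ S := by rw [hStop]; trivial
    obtain ⟨g, hg⟩ := haS b
    exact ⟨g, hg⟩
  · -- `p = 2`
    intro hp2 hcard v hv hv2
    subst hp2
    have : Fact (Nat.Prime 2) := ⟨hp⟩
    obtain ⟨n, hn⟩ := (IsPGroup.iff_card (p := 2)).1 (hT.to_subgroup (Subgroup.center T))
    have hq3 : q = 3 := by
      have hdvd : q ∣ 3 * Nat.card (Subgroup.center T) := by
        have h := (Nat.modEq_iff_dvd' (by rw [hcard]; omega)).1 hmod.symm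
        rw [hcard] at h
        have e : 4 * Nat.card (Subgroup.center T) - Nat.card (Subgroup.center T)
            = 3 * Nat.card (Subgroup.center T) := by omega
        rw [e] at h; exact h
      rcases (Nat.Prime.dvd_mul hq).1 hdvd with h | h
      · exact (Nat.prime_dvd_prime_iff_eq hq Nat.prime_three).1 h
      · rw [hn] at h
        exact absurd ((Nat.prime_dvd_prime_iff_eq hq Nat.prime_two).1 (hq.dvd_of_dvd_pow h)) hpq
    subst hq3
    have hσ3 : ∀ u : T, σ (σ (σ u)) = u := by
      intro u
      have h : (σ ^ 3) u = u := by rw [hσq]; rfl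
      have e : σ ^ 3 = σ * σ * σ := by rw [pow_succ, pow_succ, pow_one]
      rw [e] at h
      exact h
    have hvv : v * v = 1 := by rw [← pow_two]; exact hv2
    have hv'2 : σ v * σ v = 1 := by rw [← map_mul, hvv, map_one]
    have hv''2 : σ (σ v) * σ (σ v) = 1 := by rw [← map_mul, hv'2, map_one]
    have hN : v * σ v * σ (σ v) ∈ Subgroup.center T := by
      apply mem_center_of_cent σ h2 hfixZ
      intro x hx
      rw [map_mul, map_mul, hσ3] at hx
      have e : σ v * σ (σ v) * v
          = v * σ v * σ (σ v) * ⁅(v * σ v * σ (σ v))⁻¹, v⁻¹⁆ := by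
        rw [commutatorElement_def]; group
      rw [e] at hx
      exact cancel_central (hcc _ _) hx
    have hvinv : v⁻¹ = v := inv_eq_of_mul_eq_one_left hvv
    have hv'inv : (σ v)⁻¹ = σ v := inv_eq_of_mul_eq_one_left hv'2
    have hv'' : σ (σ v) = σ v * v * (v * σ v * σ (σ v)) := by
      calc σ (σ v) = (σ v)⁻¹ * v⁻¹ * (v * σ v * σ (σ v)) := by group
        _ = σ v * v * (v * σ v * σ (σ v)) := by rw [hvinv, hv'inv]
    generalize hNdef : v * σ v * σ (σ v) = N at hN hv''
    have hNc := Subgroup.mem_center_iff.1 hN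
    have hσN : σ N = N := hZfix N hN
    have hNN : N * N = ⁅v, σ v⁆ := by
      have h1 : σ v * v * N * (σ v * v * N) = 1 := by rw [← hv'']; exact hv''2
      have h2 : σ v * v * N * (σ v * v * N) = (σ v * v * σ v * v) * (N * N) := by
        calc σ v * v * N * (σ v * v * N) = σ v * v * (N * (σ v * v)) * N := by group
          _ = σ v * v * ((σ v * v) * N) * N := by rw [← hNc (σ v * v)]
          _ = (σ v * v * σ v * v) * (N * N) := by group
      have h3 : σ v * v * σ v * v = ⁅v, σ v⁆⁻¹ := by
        rw [commutatorElement_inv, commutatorElement_def, hvinv, hv'inv]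
      rw [h2, h3] at h1
      exact (inv_mul_eq_one.1 h1).symm
    have hadef : ∀ a : T, a = v * N → False := by
      intro a hadef
      have hbdef : ∀ b : T, b = σ v * N → False := by
        intro b hbdef
        have hσa : σ a = b := by rw [hadef, hbdef, map_mul, hσN]
        have hba : b * a = σ v * v * (N * N) := by
          rw [hadef, hbdef]
          calc σ v * N * (v * N) = σ v * (N * v) * N := by group
            _ = σ v * (v * N) * N := by rw [← hNc v]
            _ = σ v * v * (N * N) := by group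
        have hσb : σ b = b * a := by
          rw [hba, hbdef, map_mul, hσN, hv'']; group
        have haa : a * a = ⁅v, σ v⁆ := by
          rw [← hNN, hadef]
          calc v * N * (v * N) = v * (N * v) * N := by group
            _ = v * (v * N) * N := by rw [← hNc v]
            _ = (v * v) * (N * N) := by group
            _ = N * N := by rw [hvv, one_mul]
        have hbb : b * b = ⁅v, σ v⁆ := by
          rw [← hNN, hbdef]
          calc σ v * N * (σ v * N) = σ v * (N * σ v) * N := by group
            _ = σ v * (σ v * N) * N := by rw [← hNc (σ v)]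
            _ = (σ v * σ v) * (N * N) := by group
            _ = N * N := by rw [hv'2, one_mul]
        have hcab : ⁅a, b⁆ = ⁅v, σ v⁆ := by
          rw [hadef, hbdef]
          exact Cfsg.Agent.H13.commutator_mul_central v (σ v) N N (hNc (σ v)).symm
            (hNc v).symm rfl
        have hHinv : ∀ h ∈ Subgroup.closure ({a, b} : Set T),
            σ h ∈ Subgroup.closure ({a, b} : Set T) := by
          intro h hh
          induction hh using Subgroup.closure_induction with
          | mem x hx =>
            rcases hx with hx | hx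
            · rw [hx, hσa]; exact Subgroup.subset_closure (by simp)
            · rw [Set.mem_singleton_iff] at hx
              rw [hx, hσb]
              exact Subgroup.mul_mem _ (Subgroup.subset_closure (by simp))
                (Subgroup.subset_closure (by simp))
          | one => rw [map_one]; exact Subgroup.one_mem _
          | mul x y _ _ hx hy => rw [map_mul]; exact Subgroup.mul_mem _ hx hy
          | inv x _ hx => rw [map_inv]; exact Subgroup.inv_mem _ hx
        have haZ : a ∉ Subgroup.center T := by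
          intro h
          apply hv
          have : v = a * N⁻¹ := by rw [hadef]; group
          rw [this]
          exact Subgroup.mul_mem _ h (Subgroup.inv_mem _ hN)
        have hHtop := MP _ hHinv a (Subgroup.subset_closure (by simp)) haZ
        have hconj : b * a * b⁻¹ = a⁻¹ := by
          have h : a * b * a⁻¹ * b⁻¹ = a * a := by rw [← commutatorElement_def, hcab, haa]
          have h' : b * a⁻¹ * b⁻¹ = a := by
            have : a * (b * a⁻¹ * b⁻¹) = a * a := by rw [← h]; group
            exact mul_left_cancel this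
          calc b * a * b⁻¹ = (b * a⁻¹ * b⁻¹)⁻¹ := by group
            _ = a⁻¹ := by rw [h']
        have hconj' : b⁻¹ * a * b = a⁻¹ := by
          have : a = b⁻¹ * a⁻¹ * b := by rw [← hconj]; group
          calc b⁻¹ * a * b = (b⁻¹ * a⁻¹ * b)⁻¹ := by group
            _ = a⁻¹ := by rw [← this]
        have hE : ∀ x ∈ Subgroup.closure ({a, b} : Set T), ∃ i j : ℤ, x = a ^ i * b ^ j := by
          intro x hx
          induction hx using Subgroup.closure_induction_left with
          | one => exact ⟨0, 0, by simp⟩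
          | mul_left x hx y _ ih =>
            obtain ⟨i, j, rfl⟩ := ih
            rcases hx with hx | hx
            · exact ⟨1 + i, j, by rw [hx, zpow_add, zpow_one, mul_assoc]⟩
            · rw [Set.mem_singleton_iff] at hx
              rw [hx]
              refine ⟨-i, 1 + j, ?_⟩
              have e : b * a ^ i = a ^ (-i) * b := by
                have h := conj_zpow (i := i) (a := b) (b := a)
                rw [hconj, inv_zpow'] at h
                rw [h]; group
              rw [← mul_assoc, e, mul_assoc, zpow_add, zpow_one]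
          | inv_mul_cancel x hx y _ ih =>
            obtain ⟨i, j, rfl⟩ := ih
            rcases hx with hx | hx
            · exact ⟨-1 + i, j, by rw [hx, zpow_add, zpow_neg_one, mul_assoc]⟩
            · rw [Set.mem_singleton_iff] at hx
              rw [hx]
              refine ⟨-i, -1 + j, ?_⟩
              have e : b⁻¹ * a ^ i = a ^ (-i) * b⁻¹ := by
                have h := conj_zpow (i := i) (a := b⁻¹) (b := a)
                rw [inv_inv, hconj', inv_zpow'] at h
                rw [h]; group
              rw [← mul_assoc, e, mul_assoc, zpow_add, zpow_neg_one]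
        have hNmem : N ∈ Subgroup.closure ({a, b} : Set T) := by rw [hHtop]; trivial
        obtain ⟨i, j, hij⟩ := hE N hNmem
        have habne : a * b ≠ b * a := by
          intro h
          apply haZ
          rw [Subgroup.mem_center_iff]
          intro g
          have hg : g ∈ Subgroup.closure ({a, b} : Set T) := by rw [hHtop]; trivial
          have hle : Subgroup.closure ({a, b} : Set T) ≤ Subgroup.centralizer ({a} : Set T) := by
            rw [Subgroup.closure_le]
            intro x hx
            rw [SetLike.mem_coe, Subgroup.mem_centralizer_iff]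
            intro y hy
            rw [Set.mem_singleton_iff] at hy
            rw [hy]
            rcases hx with hx | hx
            · rw [hx]
            · rw [Set.mem_singleton_iff] at hx; rw [hx]; exact h
          exact ((Subgroup.mem_centralizer_iff.1 (hle hg)) a rfl).symm
        have hc1 : ⁅v, σ v⁆ ≠ 1 := by
          intro h
          rw [← hcab, commutatorElement_eq_one_iff_commute] at h
          exact habne h.eq
        have hbj : Commute a (b ^ j) := by
          have e : b ^ j = (a ^ i)⁻¹ * N := by rw [hij]; group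
          rw [e]
          exact (((Commute.refl a).zpow_right i).inv_right).mul_right (hNc a)
        obtain ⟨k, hk | hk⟩ := Int.even_or_odd' j
        · have e : b ^ j = (N * N) ^ k := by rw [hk, zpow_mul, zpow_two, hbb, hNN]
          have hai : a ^ i = v ^ i * N ^ i := by
            rw [hadef]; exact (show Commute v N from hNc v).mul_zpow i
          rw [e, hai] at hij
          have hvi : v ^ i = N * ((N * N) ^ k)⁻¹ * (N ^ i)⁻¹ := by
            calc v ^ i = v ^ i * N ^ i * (N * N) ^ k * ((N * N) ^ k)⁻¹ * (N ^ i)⁻¹ := by group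
              _ = N * ((N * N) ^ k)⁻¹ * (N ^ i)⁻¹ := by rw [← hij]
          have hviZ : v ^ i ∈ Subgroup.center T := by
            rw [hvi]
            exact Subgroup.mul_mem _ (Subgroup.mul_mem _ hN (Subgroup.inv_mem _
              (Subgroup.zpow_mem _ (Subgroup.mul_mem _ hN hN) k)))
              (Subgroup.inv_mem _ (Subgroup.zpow_mem _ hN i))
          obtain ⟨l, hl | hl⟩ := Int.even_or_odd' i
          · have hvi1 : v ^ i = 1 := by rw [hl, zpow_mul, zpow_two, hvv, one_zpow]
            rw [hvi1, one_mul] at hij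
            have hNodd : N ^ (2 * (l + k) - 1) = 1 := by
              have : N ^ (2 * (l + k)) = N := by
                rw [mul_add, zpow_add, ← hl, zpow_mul, zpow_two]; exact hij.symm
              rw [zpow_sub, zpow_one, this, mul_inv_cancel]
            have hN1 : N = 1 := by
              have hdvd : (orderOf N : ℤ) ∣ (2 * (l + k) - 1) :=
                orderOf_dvd_iff_zpow_eq_one.2 hNodd
              obtain ⟨e', he'⟩ := hT N
              have h2dvd : orderOf N ∣ 2 ^ e' := orderOf_dvd_of_pow_eq_one he'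
              obtain ⟨m, -, hm⟩ := (Nat.dvd_prime_pow Nat.prime_two).1 h2dvd
              rcases Nat.eq_zero_or_pos m with h0 | hpos
              · rw [h0, pow_zero] at hm
                exact orderOf_eq_one_iff.1 hm
              · exfalso
                have h2' : (2 : ℤ) ∣ (orderOf N : ℤ) := by
                  rw [hm]; push_cast; exact dvd_pow_self 2 (Nat.pos_iff_ne_zero.1 hpos)
                have := dvd_trans h2' hdvd
                omega
            apply hc1
            rw [← hNN, hN1, one_mul]
          · apply hv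
            have : v ^ i = v := by
              rw [hl, zpow_add, zpow_mul, zpow_two, hvv, one_zpow, one_mul, zpow_one]
            rw [← this]; exact hviZ
        · have e : b ^ j = (b * b) ^ k * b := by rw [hk, zpow_add, zpow_mul, zpow_two, zpow_one]
          rw [e, hbb] at hbj
          apply habne
          have hck : Commute a (⁅v, σ v⁆ ^ k) :=
            (show Commute a ⁅v, σ v⁆ from Subgroup.mem_center_iff.1 (hcc v (σ v)) a).zpow_right k
          have h1 : ⁅v, σ v⁆ ^ k * (a * b) = ⁅v, σ v⁆ ^ k * (b * a) := by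
            calc ⁅v, σ v⁆ ^ k * (a * b) = a * (⁅v, σ v⁆ ^ k * b) := by
                  rw [← mul_assoc, ← hck.eq, mul_assoc]
              _ = ⁅v, σ v⁆ ^ k * b * a := hbj.eq
              _ = ⁅v, σ v⁆ ^ k * (b * a) := mul_assoc _ _ _
          exact mul_left_cancel h1
      exact hbdef _ rfl
    exact hadef _ rfl
  · -- `p = 3`
    intro hp3 hcard
    subst hp3
    have : Fact (Nat.Prime 3) := ⟨hp⟩
    obtain ⟨n, hn⟩ := (IsPGroup.iff_card (p := 3)).1 (hT.to_subgroup (Subgroup.center T))
    have hdvd : q ∣ 8 * Nat.card (Subgroup.center T) := by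
      have h := (Nat.modEq_iff_dvd' (by rw [hcard]; omega)).1 hmod.symm
      rw [hcard] at h
      have e : 9 * Nat.card (Subgroup.center T) - Nat.card (Subgroup.center T)
          = 8 * Nat.card (Subgroup.center T) := by omega
      rw [e] at h; exact h
    rcases (Nat.Prime.dvd_mul hq).1 hdvd with h | h
    · have h8 : q ∣ 2 ^ 3 := by norm_num; exact h
      exact hq2 ((Nat.prime_dvd_prime_iff_eq hq Nat.prime_two).1 (hq.dvd_of_dvd_pow h8))
    · rw [hn] at h
      exact hpq ((Nat.prime_dvd_prime_iff_eq hq Nat.prime_three).1 (hq.dvd_of_dvd_pow h))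

end Abstract

section Schmidt

variable {X : Type*} [Group X]

theorem eq_one_of_pows {x : X} {p q : ℕ} (hp : p.Prime) (hq : q.Prime) (hne : p ≠ q)
    (h1 : ∃ a : ℕ, x ^ p ^ a = 1) (h2 : ∃ b : ℕ, x ^ q ^ b = 1) : x = 1 := by
  obtain ⟨a, ha⟩ := h1
  obtain ⟨b, hb⟩ := h2
  have h : x ^ Nat.gcd (p ^ a) (q ^ b) = 1 := pow_gcd_eq_one.2 ⟨ha, hb⟩
  have hg : Nat.gcd (p ^ a) (q ^ b) = 1 :=
    Nat.Coprime.pow a b ((Nat.coprime_primes hp hq).2 hne)
  rw [hg, pow_one] at h
  exact h

theorem comm_of_proper (hX : Cfsg.IsMinimalNonNilpotent X) {K : Subgroup X} (hK : K ≠ ⊤)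
    {x z : X} (hx : x ∈ K) (hz : z ∈ K) {p q : ℕ} (hp : p.Prime) (hq : q.Prime) (hne : p ≠ q)
    (hxp : ∃ a : ℕ, x ^ p ^ a = 1) (hzq : ∃ b : ℕ, z ^ q ^ b = 1) : x * z = z * x := by
  obtain ⟨a, ha⟩ := hxp
  obtain ⟨b, hb⟩ := hzq
  apply Cfsg.Agent.H13.coprime_commute_of_mem K (hX.2 K hK) hx hz
  exact Nat.Coprime.coprime_dvd_left (orderOf_dvd_of_pow_eq_one ha)
    (Nat.Coprime.coprime_dvd_right (orderOf_dvd_of_pow_eq_one hb)
      (Nat.Coprime.pow a b ((Nat.coprime_primes hp hq).2 hne)))

/-- a group generated by an `r`-subgroup and an element commuting with it is nilpotent -/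
theorem nilpotent_of_central_gen [Finite X] {r : ℕ} (hr : r.Prime) (N : Subgroup X)
    (hN : IsPGroup r N) (y : X) (hgen : N ⊔ Subgroup.zpowers y = ⊤)
    (hy : ∀ u ∈ N, y * u = u * y) : Group.IsNilpotent X := by
  have hyZ : y ∈ Subgroup.center X := by
    rw [Subgroup.mem_center_iff]
    intro g
    have hg : g ∈ N ⊔ Subgroup.zpowers y := by rw [hgen]; trivial
    have hle : N ⊔ Subgroup.zpowers y ≤ Subgroup.centralizer ({y} : Set X) := by
      apply sup_le
      · intro u hu
        rw [Subgroup.mem_centralizer_iff]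
        intro z hz
        rw [Set.mem_singleton_iff] at hz
        rw [hz]; exact hy u hu
      · rw [Subgroup.zpowers_le, Subgroup.mem_centralizer_iff]
        intro z hz
        rw [Set.mem_singleton_iff] at hz
        rw [hz]
    exact ((Subgroup.mem_centralizer_iff.1 (hle hg)) y rfl).symm
  have hQ : IsPGroup r (X ⧸ Subgroup.center X) := by
    intro x
    obtain ⟨g, rfl⟩ := QuotientGroup.mk'_surjective (Subgroup.center X) x
    have hmap : N.map (QuotientGroup.mk' (Subgroup.center X)) = ⊤ := by
      have h1 : (N ⊔ Subgroup.zpowers y).map (QuotientGroup.mk' (Subgroup.center X)) = ⊤ := by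
        rw [hgen]; exact Subgroup.map_top_of_surjective _ (QuotientGroup.mk'_surjective _)
      rw [Subgroup.map_sup] at h1
      have h2 : (Subgroup.zpowers y).map (QuotientGroup.mk' (Subgroup.center X)) = ⊥ := by
        rw [Subgroup.map_eq_bot_iff, QuotientGroup.ker_mk', Subgroup.zpowers_le]; exact hyZ
      rw [h2, sup_bot_eq] at h1
      exact h1
    have hmem : QuotientGroup.mk' (Subgroup.center X) g
        ∈ N.map (QuotientGroup.mk' (Subgroup.center X)) := by rw [hmap]; trivial
    obtain ⟨u, hu, hug⟩ := Subgroup.mem_map.1 hmem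
    obtain ⟨k, hk⟩ := hN ⟨u, hu⟩
    refine ⟨k, ?_⟩
    rw [← hug, ← map_pow]
    have : u ^ r ^ k = 1 := by simpa using congrArg Subtype.val hk
    rw [this, map_one]
  have : Fact r.Prime := ⟨hr⟩
  have hnil : Group.IsNilpotent (X ⧸ Subgroup.center X) := hQ.isNilpotent
  exact Subgroup.isNilpotent_of_ker_le_center (QuotientGroup.mk' (Subgroup.center X))
    (by rw [QuotientGroup.ker_mk'])

/-- the reduction of the Schmidt situation to `sLike_of_aut` -/
theorem sLike_of_gen [Finite X] {p q : ℕ} (hp : p.Prime) (hq : q.Prime) (hpq : q ≠ p)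
    (hX : Cfsg.IsMinimalNonNilpotent X) (P : Subgroup X) [hPn : P.Normal] (hP : IsPGroup p P)
    (y : X) (m : ℕ) (hy : y ^ q ^ m = 1) (hgen : P ⊔ Subgroup.zpowers y = ⊤) : SLike p ↥P := by
  have hPel : ∀ u ∈ P, ∃ a : ℕ, u ^ p ^ a = 1 := by
    intro u hu
    obtain ⟨a, ha⟩ := hP ⟨u, hu⟩
    exact ⟨a, by simpa using congrArg Subtype.val ha⟩
  have hσ : ∀ (g : X) (h : ↥P), ((MulAut.conjNormal g : MulAut ↥P) h : X) = g * h * g⁻¹ :=
    fun g h => MulAut.conjNormal_apply g h
  apply sLike_of_aut hp hq hpq hP (MulAut.conjNormal y : MulAut ↥P)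
  · -- `σ ^ q = 1`
    have hK : P ⊔ Subgroup.zpowers (y ^ q) ≠ ⊤ := by
      intro hK
      have hmap : (Subgroup.zpowers (y ^ q)).map (QuotientGroup.mk' P) = ⊤ := by
        have h1 : (P ⊔ Subgroup.zpowers (y ^ q)).map (QuotientGroup.mk' P) = ⊤ := by
          rw [hK]; exact Subgroup.map_top_of_surjective _ (QuotientGroup.mk'_surjective _)
        rw [Subgroup.map_sup] at h1
        have h2 : P.map (QuotientGroup.mk' P) = ⊥ := by
          rw [Subgroup.map_eq_bot_iff, QuotientGroup.ker_mk']
        rw [h2, bot_sup_eq] at h1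
        exact h1
      have hymem : QuotientGroup.mk' P y ∈ (Subgroup.zpowers (y ^ q)).map (QuotientGroup.mk' P) := by
        rw [hmap]; trivial
      obtain ⟨w, hw, hwy⟩ := Subgroup.mem_map.1 hymem
      obtain ⟨k, rfl⟩ := Subgroup.mem_zpowers_iff.1 hw
      have e1 : (QuotientGroup.mk' P y) ^ ((q : ℤ) * k - 1) = 1 := by
        have : (QuotientGroup.mk' P y) ^ ((q : ℤ) * k) = QuotientGroup.mk' P y := by
          rw [zpow_mul, zpow_natCast, ← map_pow, ← map_zpow]; exact hwy
        rw [zpow_sub, zpow_one, this, mul_inv_cancel]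
      have e2 : (QuotientGroup.mk' P y) ^ q ^ m = 1 := by rw [← map_pow, hy, map_one]
      have hdvd : (orderOf (QuotientGroup.mk' P y) : ℤ) ∣ (q : ℤ) * k - 1 :=
        orderOf_dvd_iff_zpow_eq_one.2 e1
      obtain ⟨m', -, hm'⟩ := (Nat.dvd_prime_pow hq).1 (orderOf_dvd_of_pow_eq_one e2)
      rcases Nat.eq_zero_or_pos m' with h0 | hpos
      · rw [h0, pow_zero] at hm'
        have hy1 : QuotientGroup.mk' P y = 1 := orderOf_eq_one_iff.1 hm'
        have hyP : y ∈ P := (QuotientGroup.eq_one_iff y).1 hy1
        have hPtop : P = ⊤ := by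
          rw [← hgen]
          exact (sup_eq_left.2 (by rw [Subgroup.zpowers_le]; exact hyP)).symm
        apply hX.1
        have hXp : IsPGroup p X := by
          intro x
          exact hPel x (by rw [hPtop]; trivial)
        have : Fact p.Prime := ⟨hp⟩
        exact hXp.isNilpotent
      · have hq' : (q : ℤ) ∣ (orderOf (QuotientGroup.mk' P y) : ℤ) := by
          rw [hm']; push_cast; exact dvd_pow_self _ (Nat.pos_iff_ne_zero.1 hpos)
        have h3 := dvd_trans hq' hdvd
        have h4 : (q : ℤ) ∣ 1 := by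
          have h5 : (q : ℤ) ∣ (q : ℤ) * k := dvd_mul_right _ _
          have := dvd_sub h5 h3
          simpa using this
        have h6 := Int.le_of_dvd (by norm_num) h4
        have h7 := hq.two_le
        omega
    rw [← map_pow]
    ext h
    rw [hσ, MulAut.one_apply]
    have hc := comm_of_proper hX hK (x := (h : X)) (z := y ^ q)
      ((le_sup_left : P ≤ P ⊔ Subgroup.zpowers (y ^ q)) h.2)
      ((le_sup_right : Subgroup.zpowers (y ^ q) ≤ P ⊔ Subgroup.zpowers (y ^ q))
        (Subgroup.mem_zpowers _)) hp hq (Ne.symm hpq) (hPel _ h.2)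
      ⟨m, by rw [← pow_mul, mul_comm, pow_mul, hy, one_pow]⟩
    rw [← hc]; group
  · -- proper invariant subgroups are centralized
    intro H hH hinv h hh
    have hK : H.map P.subtype ⊔ Subgroup.zpowers y ≠ ⊤ := by
      intro hK
      have hpow : ∀ k : ℕ, ∀ n ∈ H.map P.subtype, y ^ k * n * (y ^ k)⁻¹ ∈ H.map P.subtype := by
        intro k
        induction k with
        | zero => intro n hn; simpa using hn
        | succ k ih =>
          intro n hn
          obtain ⟨h', hh', hh'n⟩ := Subgroup.mem_map.1 (ih n hn)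
          have e : y ^ (k + 1) * n * (y ^ (k + 1))⁻¹ = y * (y ^ k * n * (y ^ k)⁻¹) * y⁻¹ := by
            rw [pow_succ']; group
          rw [e, ← hh'n]
          exact Subgroup.mem_map.2 ⟨MulAut.conjNormal y h', hinv h' hh', hσ y h'⟩
      have hyinv : y⁻¹ = y ^ (q ^ m - 1) := by
        apply inv_eq_of_mul_eq_one_right
        rw [← pow_succ', Nat.sub_add_cancel (Nat.one_le_pow _ _ hq.pos), hy]
      have hynorm : y ∈ Subgroup.normalizer ((H.map P.subtype : Subgroup X) : Set X) := by
        rw [Subgroup.mem_normalizer_iff]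
        intro n
        constructor
        · intro hn
          have := hpow 1 n hn
          simpa using this
        · intro hn
          have := hpow (q ^ m - 1) _ hn
          rw [← hyinv] at this
          have e : y⁻¹ * (y * n * y⁻¹) * y⁻¹⁻¹ = n := by group
          rw [e] at this
          exact this
      have hle : H.map P.subtype ⊔ Subgroup.zpowers y
          ≤ Subgroup.normalizer ((H.map P.subtype : Subgroup X) : Set X) :=
        sup_le Subgroup.le_normalizer (by rw [Subgroup.zpowers_le]; exact hynorm)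
      have hnormal : (H.map P.subtype).Normal := ⟨fun n hn g => by
        have hg : g ∈ Subgroup.normalizer ((H.map P.subtype : Subgroup X) : Set X) :=
          hle (by rw [hK]; trivial)
        exact (Subgroup.mem_normalizer_iff.1 hg n).1 hn⟩
      obtain ⟨u, -, hu⟩ := SetLike.exists_of_lt (lt_top_iff_ne_top.2 hH)
      have huH' : (u : X) ∉ H.map P.subtype := by
        intro h'
        obtain ⟨u', hu', hu'u⟩ := Subgroup.mem_map.1 h'
        have : u' = u := Subtype.ext hu'u
        rw [this] at hu'
        exact hu hu'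
      apply huH'
      rw [← QuotientGroup.eq_one_iff (N := H.map P.subtype)]
      apply eq_one_of_pows hp hq (Ne.symm hpq)
      · obtain ⟨a, ha⟩ := hPel _ u.2
        exact ⟨a, by rw [← QuotientGroup.mk_pow, ha]; rfl⟩
      · refine ⟨m, ?_⟩
        have hmap : (Subgroup.zpowers y).map (QuotientGroup.mk' (H.map P.subtype)) = ⊤ := by
          have h1 : (H.map P.subtype ⊔ Subgroup.zpowers y).map
              (QuotientGroup.mk' (H.map P.subtype)) = ⊤ := by
            rw [hK]; exact Subgroup.map_top_of_surjective _ (QuotientGroup.mk'_surjective _)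
          rw [Subgroup.map_sup] at h1
          have h2 : (H.map P.subtype).map (QuotientGroup.mk' (H.map P.subtype)) = ⊥ := by
            rw [Subgroup.map_eq_bot_iff, QuotientGroup.ker_mk']
          rw [h2, bot_sup_eq] at h1
          exact h1
        have humem : QuotientGroup.mk' (H.map P.subtype) (u : X)
            ∈ (Subgroup.zpowers y).map (QuotientGroup.mk' (H.map P.subtype)) := by
          rw [hmap]; trivial
        obtain ⟨w, hw, hwu⟩ := Subgroup.mem_map.1 humem
        obtain ⟨k, rfl⟩ := Subgroup.mem_zpowers_iff.1 hw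
        show (QuotientGroup.mk' (H.map P.subtype) (u : X)) ^ q ^ m = 1
        rw [← hwu, ← map_pow, ← zpow_natCast, ← zpow_mul, mul_comm, zpow_mul, zpow_natCast, hy,
          one_zpow, map_one]
    have hc := comm_of_proper hX hK (x := (h : X)) (z := y)
      ((le_sup_left : H.map P.subtype ≤ H.map P.subtype ⊔ Subgroup.zpowers y)
        (Subgroup.mem_map.2 ⟨h, hh, rfl⟩))
      ((le_sup_right : Subgroup.zpowers y ≤ H.map P.subtype ⊔ Subgroup.zpowers y)
        (Subgroup.mem_zpowers y)) hp hq (Ne.symm hpq) (hPel _ h.2) ⟨m, hy⟩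
    apply Subtype.ext
    rw [hσ, ← hc]; group
  · -- `σ ≠ 1`
    intro hall
    apply hX.1
    apply nilpotent_of_central_gen hp P hP y hgen
    intro u hu
    have h1 : y * u * y⁻¹ = u := by
      have h' := congrArg Subtype.val (hall ⟨u, hu⟩)
      rw [hσ] at h'
      exact h'
    calc y * u = y * u * y⁻¹ * y := by group
      _ = u * y := by rw [h1]

/-- the Schmidt structure: a cyclic `q`-complement generated by `y` -/
theorem exists_gen [Finite X] (p : ℕ) [Fact p.Prime] (hX : Cfsg.IsMinimalNonNilpotent X)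
    (P : Sylow p X) (hPn : (P : Subgroup X).Normal) (hP1 : (P : Subgroup X) ≠ ⊥) :
    ∃ q : ℕ, q.Prime ∧ q ≠ p ∧ ∃ (y : X) (m : ℕ), y ^ q ^ m = 1 ∧
      (P : Subgroup X) ⊔ Subgroup.zpowers y = ⊤ := by
  have hp : p.Prime := Fact.out
  obtain ⟨p', q', hp', hq', hne, P', Q', hcyc, hQn, hsup⟩ := Cfsg.Agent.S0536.result hX
  obtain ⟨g, hg⟩ := IsCyclic.exists_generator (α := ↥(P' : Subgroup X))
  have hgle : (P' : Subgroup X) ≤ Subgroup.zpowers (g : X) := by
    intro x hx
    obtain ⟨k, hk⟩ := Subgroup.mem_zpowers_iff.1 (hg ⟨x, hx⟩)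
    refine Subgroup.mem_zpowers_iff.2 ⟨k, ?_⟩
    simpa using congrArg Subtype.val hk
  obtain ⟨mg, hmg⟩ := P'.isPGroup' g
  have hgpow : (g : X) ^ p' ^ mg = 1 := by simpa using congrArg Subtype.val hmg
  have hPel : ∀ u ∈ (P : Subgroup X), ∃ a : ℕ, u ^ p ^ a = 1 := by
    intro u hu
    obtain ⟨a, ha⟩ := P.isPGroup' ⟨u, hu⟩
    exact ⟨a, by simpa using congrArg Subtype.val ha⟩
  have hQel : ∀ u ∈ (Q' : Subgroup X), ∃ a : ℕ, u ^ q' ^ a = 1 := by
    intro u hu
    obtain ⟨a, ha⟩ := Q'.isPGroup' ⟨u, hu⟩
    exact ⟨a, by simpa using congrArg Subtype.val ha⟩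
  by_cases hq'p : q' = p
  · subst hq'p
    have hQP : Q' = P := by
      have := Sylow.unique_of_normal P hPn
      exact Subsingleton.elim _ _
    refine ⟨p', hp', hne, (g : X), mg, hgpow, ?_⟩
    rw [eq_top_iff, ← hsup, ← hQP]
    exact sup_le (le_sup_of_le_right hgle) le_sup_left
  · exfalso
    obtain ⟨u, hu, hu1⟩ : ∃ u ∈ (P : Subgroup X), u ≠ 1 := by
      by_contra hcon
      apply hP1
      rw [Subgroup.eq_bot_iff_forall]
      intro x hx
      by_contra hx1
      exact hcon ⟨x, hx, hx1⟩
    have hpp' : p = p' := by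
      by_contra hpp'
      apply hu1
      have := hQn
      have huQ : u ∈ (Q' : Subgroup X) := by
        rw [← QuotientGroup.eq_one_iff (N := (Q' : Subgroup X))]
        apply eq_one_of_pows hp hp' hpp'
        · obtain ⟨a, ha⟩ := hPel u hu
          exact ⟨a, by rw [← QuotientGroup.mk_pow, ha]; rfl⟩
        · have hmap : (P' : Subgroup X).map (QuotientGroup.mk' (Q' : Subgroup X)) = ⊤ := by
            have h1 : ((P' : Subgroup X) ⊔ Q').map (QuotientGroup.mk' (Q' : Subgroup X)) = ⊤ := by
              rw [hsup]; exact Subgroup.map_top_of_surjective _ (QuotientGroup.mk'_surjective _)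
            rw [Subgroup.map_sup] at h1
            have h2 : (Q' : Subgroup X).map (QuotientGroup.mk' (Q' : Subgroup X)) = ⊥ := by
              rw [Subgroup.map_eq_bot_iff, QuotientGroup.ker_mk']
            rw [h2, sup_bot_eq] at h1
            exact h1
          have humem : QuotientGroup.mk' (Q' : Subgroup X) u
              ∈ (P' : Subgroup X).map (QuotientGroup.mk' (Q' : Subgroup X)) := by
            rw [hmap]; trivial
          obtain ⟨w, hw, hwu⟩ := Subgroup.mem_map.1 humem
          obtain ⟨a, ha⟩ := P'.isPGroup' ⟨w, hw⟩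
          refine ⟨a, ?_⟩
          show (QuotientGroup.mk' (Q' : Subgroup X) u) ^ p' ^ a = 1
          rw [← hwu, ← map_pow]
          have : w ^ p' ^ a = 1 := by simpa using congrArg Subtype.val ha
          rw [this, map_one]
      exact eq_one_of_pows hp hq' (Ne.symm hq'p) (hPel u hu) (hQel u huQ)
    subst hpp'
    have hP'P : P' = P := by
      have := Sylow.unique_of_normal P hPn
      exact Subsingleton.elim _ _
    apply hX.1
    apply nilpotent_of_central_gen hq' (Q' : Subgroup X) Q'.isPGroup' (g : X)
    · rw [eq_top_iff, ← hsup]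
      exact sup_le (le_sup_of_le_right hgle) le_sup_left
    · intro w hw
      have hgP : (g : X) ∈ (P : Subgroup X) := by rw [← hP'P]; exact g.2
      have h1 : (g : X) * w * (g : X)⁻¹ * w⁻¹ ∈ (Q' : Subgroup X) :=
        Subgroup.mul_mem _ (hQn.conj_mem w hw g) (Subgroup.inv_mem _ hw)
      have h2 : (g : X) * w * (g : X)⁻¹ * w⁻¹ ∈ (P : Subgroup X) := by
        have e : (g : X) * w * (g : X)⁻¹ * w⁻¹ = (g : X) * (w * (g : X)⁻¹ * w⁻¹) := by group
        rw [e]
        exact Subgroup.mul_mem _ hgP (hPn.conj_mem _ (Subgroup.inv_mem _ hgP) w)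
      have h3 := eq_one_of_pows hp hq' (Ne.symm hq'p) (hPel _ h2) (hQel _ h1)
      calc (g : X) * w = ((g : X) * w * (g : X)⁻¹ * w⁻¹) * w * g := by group
        _ = w * g := by rw [h3, one_mul]

/-- **S4394-P1**: the normal Sylow `p`-subgroup of a minimal non-nilpotent group is `SLike`. -/
theorem sLike_of_schmidt {X : Type*} [Group X] [Finite X] (p : ℕ) [Fact p.Prime]
    (hX : Cfsg.IsMinimalNonNilpotent X) (P : Sylow p X) (hPn : (P : Subgroup X).Normal)
    (hP1 : (P : Subgroup X) ≠ ⊥) : SLike p ↥(P : Subgroup X) := by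
  obtain ⟨q, hq, hqp, y, m, hy, hgen⟩ := exists_gen p hX P hPn hP1
  have := hPn
  exact sLike_of_gen Fact.out hq hqp hX (P : Subgroup X) P.isPGroup' y m hy hgen

end Schmidt

end Cfsg.Agent.H27.Sch
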