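import Mathlib
import Cfsg.Agent.H45.SpTwoGen

/-!
# S2281-N2O (helper97's team project S2281): `Sp_4(q)`, `q` odd, is generated by three conjugate
regular unipotent elements.
-/

set_option autoImplicit false

namespace Cfsg.Agent.H27.SpR

open Matrix

variable {F : Type*} [Field F]

/-- `U(S)`, `S = [[a, b], [b, c]]`. -/
def Um (a b c : F) : Matrix (Fin 2 ⊕ Fin 2) (Fin 2 ⊕ Fin 2) F :=
  fromBlocks 1 !![a, b; b, c] 0 1

/-- `L(R)`, `R = [[a, b], [b, c]]`. -/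
def Lm (a b c : F) : Matrix (Fin 2 ⊕ Fin 2) (Fin 2 ⊕ Fin 2) F :=
  fromBlocks 1 0 !![a, b; b, c] 1

/-- `d(1 + s E_01)`. -/
def Dm (s : F) : Matrix (Fin 2 ⊕ Fin 2) (Fin 2 ⊕ Fin 2) F :=
  fromBlocks !![1, s; 0, 1] 0 0 !![1, 0; -s, 1]

/-- `d(1 + s E_10)`. -/
def Em (s : F) : Matrix (Fin 2 ⊕ Fin 2) (Fin 2 ⊕ Fin 2) F :=
  fromBlocks !![1, 0; s, 1] 0 0 !![1, -s; 0, 1]

/-- The Weyl element. -/
def Wm : Matrix (Fin 2 ⊕ Fin 2) (Fin 2 ⊕ Fin 2) F :=
  fromBlocks 0 !![0, -1; -1, 0] !![0, 1; 1, 0] 0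

theorem Um_mem (a b c : F) : Um a b c ∈ symplecticGroup (Fin 2) F :=
  Cfsg.Agent.H45.upper_mem_sp _ (by ext i j; fin_cases i <;> fin_cases j <;> rfl)

theorem Lm_mem (a b c : F) : Lm a b c ∈ symplecticGroup (Fin 2) F :=
  Cfsg.Agent.H45.lower_mem_sp _ (by ext i j; fin_cases i <;> fin_cases j <;> rfl)

theorem Dm_mem (s : F) : Dm s ∈ symplecticGroup (Fin 2) F := by
  have h1 : (!![1, 0; -s, 1] : Matrix (Fin 2) (Fin 2) F) = (!![1, -s; 0, 1])ᵀ := by
    ext i j; fin_cases i <;> fin_cases j <;> rfl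
  unfold Dm
  rw [h1]
  exact Cfsg.Agent.H45.diag_mem_sp _ _ (by
    ext i j; fin_cases i <;> fin_cases j <;> simp [Matrix.mul_apply, Fin.sum_univ_two])

theorem Em_mem (s : F) : Em s ∈ symplecticGroup (Fin 2) F := by
  have h1 : (!![1, -s; 0, 1] : Matrix (Fin 2) (Fin 2) F) = (!![1, 0; -s, 1])ᵀ := by
    ext i j; fin_cases i <;> fin_cases j <;> rfl
  unfold Em
  rw [h1]
  exact Cfsg.Agent.H45.diag_mem_sp _ _ (by
    ext i j; fin_cases i <;> fin_cases j <;> simp [Matrix.mul_apply, Fin.sum_univ_two])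

theorem Wm_mem : (Wm : Matrix (Fin 2 ⊕ Fin 2) (Fin 2 ⊕ Fin 2) F) ∈ symplecticGroup (Fin 2) F := by
  have h1 : (!![0, -1; -1, 0] : Matrix (Fin 2) (Fin 2) F) = -(!![0, 1; 1, 0]) := by
    ext i j; fin_cases i <;> fin_cases j <;> simp
  unfold Wm
  rw [h1]
  exact Cfsg.Agent.H45.weyl_mem_sp _ _
    (by ext i j; fin_cases i <;> fin_cases j <;> simp [Matrix.mul_apply, Fin.sum_univ_two])
    (by ext i j; fin_cases i <;> fin_cases j <;> rfl)

/-! ### Matrix relations -/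

theorem Um_mul (a b c a' b' c' : F) :
    Um a b c * Um a' b' c' = Um (a + a') (b + b') (c + c') := by
  unfold Um
  rw [fromBlocks_multiply, fromBlocks_inj]
  refine ⟨?_, ?_, ?_, ?_⟩ <;>
    (ext i j; fin_cases i <;> fin_cases j <;> simp [Matrix.mul_apply, Fin.sum_univ_two]) <;>
    ring

theorem Um_zero : Um (0 : F) 0 0 = 1 := by
  unfold Um
  rw [← fromBlocks_one, fromBlocks_inj]
  refine ⟨rfl, ?_, rfl, rfl⟩
  ext i j; fin_cases i <;> fin_cases j <;> simp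

theorem Lm_mul (a b c a' b' c' : F) :
    Lm a b c * Lm a' b' c' = Lm (a + a') (b + b') (c + c') := by
  unfold Lm
  rw [fromBlocks_multiply, fromBlocks_inj]
  refine ⟨?_, ?_, ?_, ?_⟩ <;>
    (ext i j; fin_cases i <;> fin_cases j <;> simp [Matrix.mul_apply, Fin.sum_univ_two]) <;>
    ring

theorem Lm_zero : Lm (0 : F) 0 0 = 1 := by
  unfold Lm
  rw [← fromBlocks_one, fromBlocks_inj]
  refine ⟨rfl, rfl, ?_, rfl⟩
  ext i j; fin_cases i <;> fin_cases j <;> simp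

theorem Dm_mul (s s' : F) : Dm s * Dm s' = Dm (s + s') := by
  unfold Dm
  rw [fromBlocks_multiply, fromBlocks_inj]
  refine ⟨?_, ?_, ?_, ?_⟩ <;>
    (ext i j; fin_cases i <;> fin_cases j <;> simp [Matrix.mul_apply, Fin.sum_univ_two]) <;>
    ring

theorem Dm_zero : Dm (0 : F) = 1 := by
  unfold Dm
  rw [← fromBlocks_one, fromBlocks_inj]
  refine ⟨?_, rfl, rfl, ?_⟩ <;>
    (ext i j; fin_cases i <;> fin_cases j <;> simp)

theorem Em_mul (s s' : F) : Em s * Em s' = Em (s + s') := by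
  unfold Em
  rw [fromBlocks_multiply, fromBlocks_inj]
  refine ⟨?_, ?_, ?_, ?_⟩ <;>
    (ext i j; fin_cases i <;> fin_cases j <;> simp [Matrix.mul_apply, Fin.sum_univ_two]) <;>
    ring

theorem Em_zero : Em (0 : F) = 1 := by
  unfold Em
  rw [← fromBlocks_one, fromBlocks_inj]
  refine ⟨?_, rfl, rfl, ?_⟩ <;>
    (ext i j; fin_cases i <;> fin_cases j <;> simp)

theorem DmUm (s a b c : F) :
    Dm s * Um a b c = Um (a + 2 * s * b + s ^ 2 * c) (b + s * c) c * Dm s := by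
  unfold Dm Um
  rw [fromBlocks_multiply, fromBlocks_multiply, fromBlocks_inj]
  refine ⟨?_, ?_, ?_, ?_⟩ <;>
    (ext i j; fin_cases i <;> fin_cases j <;> simp [Matrix.mul_apply, Fin.sum_univ_two]) <;>
    ring

theorem DmLm (s a b c : F) :
    Dm s * Lm a b c = Lm a (b - s * a) (c - 2 * s * b + s ^ 2 * a) * Dm s := by
  unfold Dm Lm
  rw [fromBlocks_multiply, fromBlocks_multiply, fromBlocks_inj]
  refine ⟨?_, ?_, ?_, ?_⟩ <;>
    (ext i j; fin_cases i <;> fin_cases j <;> simp [Matrix.mul_apply, Fin.sum_univ_two]) <;>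
    ring

theorem EmUm (s a b c : F) :
    Em s * Um a b c = Um a (b + s * a) (c + 2 * s * b + s ^ 2 * a) * Em s := by
  unfold Em Um
  rw [fromBlocks_multiply, fromBlocks_multiply, fromBlocks_inj]
  refine ⟨?_, ?_, ?_, ?_⟩ <;>
    (ext i j; fin_cases i <;> fin_cases j <;> simp [Matrix.mul_apply, Fin.sum_univ_two]) <;>
    ring

/-- The matrix of `n₀ = U(-E₀₀) L(E₀₀) U(-E₀₀)`. -/
theorem N0m_eq : Um (-1 : F) 0 0 * Lm 1 0 0 * Um (-1) 0 0 =
    fromBlocks !![0, 0; 0, 1] !![-1, 0; 0, 0] !![1, 0; 0, 0] !![0, 0; 0, 1] := by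
  unfold Um Lm
  rw [fromBlocks_multiply, fromBlocks_multiply, fromBlocks_inj]
  refine ⟨?_, ?_, ?_, ?_⟩ <;>
    (ext i j; fin_cases i <;> fin_cases j <;> simp [Matrix.mul_apply, Fin.sum_univ_two])

theorem N0Um2 (c : F) : Um (-1 : F) 0 0 * Lm 1 0 0 * Um (-1) 0 0 * Um 0 c 0 =
    Em (-c) * (Um (-1 : F) 0 0 * Lm 1 0 0 * Um (-1) 0 0) := by
  rw [N0m_eq]
  unfold Um Em
  rw [fromBlocks_multiply, fromBlocks_multiply, fromBlocks_inj]
  refine ⟨?_, ?_, ?_, ?_⟩ <;>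
    (ext i j; fin_cases i <;> fin_cases j <;> simp [Matrix.mul_apply, Fin.sum_univ_two])

theorem N0Um0 (c : F) : Um (-1 : F) 0 0 * Lm 1 0 0 * Um (-1) 0 0 * Um c 0 0 =
    Lm (-c) 0 0 * (Um (-1 : F) 0 0 * Lm 1 0 0 * Um (-1) 0 0) := by
  rw [N0m_eq]
  unfold Um Lm
  rw [fromBlocks_multiply, fromBlocks_multiply, fromBlocks_inj]
  refine ⟨?_, ?_, ?_, ?_⟩ <;>
    (ext i j; fin_cases i <;> fin_cases j <;> simp [Matrix.mul_apply, Fin.sum_univ_two])

theorem N0Lm : Um (-1 : F) 0 0 * Lm 1 0 0 * Um (-1) 0 0 * Lm (-1) 0 0 =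
    Lm 1 0 0 * Um (-1 : F) 0 0 := by
  rw [N0m_eq]
  unfold Um Lm
  rw [fromBlocks_multiply, fromBlocks_multiply, fromBlocks_inj]
  refine ⟨?_, ?_, ?_, ?_⟩ <;>
    (ext i j; fin_cases i <;> fin_cases j <;> simp [Matrix.mul_apply, Fin.sum_univ_two])

theorem WmDmUm (s : F) : Wm * (Dm s * Um 0 0 1) = Dm (-s) * Lm (-1) 0 0 * Wm := by
  unfold Wm Dm Um Lm
  rw [fromBlocks_multiply, fromBlocks_multiply, fromBlocks_multiply, fromBlocks_multiply,
    fromBlocks_inj]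
  refine ⟨?_, ?_, ?_, ?_⟩ <;>
    (ext i j; fin_cases i <;> fin_cases j <;> simp [Matrix.mul_apply, Fin.sum_univ_two])

/-! ### The nilpotent part of `u = d(1 + s E₀₁) U(E₁₁)` -/

theorem u_sub_one (s : F) : Dm s * Um 0 0 1 - 1 =
    fromBlocks !![0, s; 0, 0] !![0, s; 0, 1] 0 !![0, 0; -s, 0] := by
  rw [sub_eq_iff_eq_add]
  unfold Dm Um
  rw [fromBlocks_multiply]
  conv_rhs => rw [← fromBlocks_one, fromBlocks_add]
  rw [fromBlocks_inj]
  refine ⟨?_, ?_, ?_, ?_⟩ <;>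
    (ext i j; fin_cases i <;> fin_cases j <;> simp)

theorem nil_sq (s : F) :
    (fromBlocks !![0, s; 0, 0] !![0, s; 0, 1] 0 !![0, 0; -s, 0] :
      Matrix (Fin 2 ⊕ Fin 2) (Fin 2 ⊕ Fin 2) F) *
      fromBlocks !![0, s; 0, 0] !![0, s; 0, 1] 0 !![0, 0; -s, 0] =
    fromBlocks 0 !![-s ^ 2, s; -s, 0] 0 0 := by
  rw [fromBlocks_multiply, fromBlocks_inj]
  refine ⟨?_, ?_, ?_, ?_⟩ <;>
    (ext i j; fin_cases i <;> fin_cases j <;> simp) <;>
    ring

theorem nil_cube (s : F) :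
    (fromBlocks 0 !![-s ^ 2, s; -s, 0] 0 0 : Matrix (Fin 2 ⊕ Fin 2) (Fin 2 ⊕ Fin 2) F) *
      fromBlocks !![0, s; 0, 0] !![0, s; 0, 1] 0 !![0, 0; -s, 0] =
    fromBlocks 0 !![-s ^ 2, 0; 0, 0] 0 0 := by
  rw [fromBlocks_multiply, fromBlocks_inj]
  refine ⟨?_, ?_, ?_, ?_⟩ <;>
    (ext i j; fin_cases i <;> fin_cases j <;> simp) <;>
    ring

theorem nil_four (s : F) :
    (fromBlocks 0 !![-s ^ 2, 0; 0, 0] 0 0 : Matrix (Fin 2 ⊕ Fin 2) (Fin 2 ⊕ Fin 2) F) *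
      fromBlocks !![0, s; 0, 0] !![0, s; 0, 1] 0 !![0, 0; -s, 0] = 0 := by
  rw [fromBlocks_multiply, ← fromBlocks_zero, fromBlocks_inj]
  refine ⟨?_, ?_, ?_, ?_⟩ <;>
    (ext i j; fin_cases i <;> fin_cases j <;> simp)

/-! ### The elements of `Sp` -/

/-- `U(S)` as an element of `Sp`. -/
def U (a b c : F) : symplecticGroup (Fin 2) F := ⟨Um a b c, Um_mem a b c⟩

/-- `L(R)` as an element of `Sp`. -/
def L (a b c : F) : symplecticGroup (Fin 2) F := ⟨Lm a b c, Lm_mem a b c⟩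

/-- `d(1 + s E₀₁)` as an element of `Sp`. -/
def D (s : F) : symplecticGroup (Fin 2) F := ⟨Dm s, Dm_mem s⟩

/-- `d(1 + s E₁₀)` as an element of `Sp`. -/
def E (s : F) : symplecticGroup (Fin 2) F := ⟨Em s, Em_mem s⟩

/-- The Weyl element of `Sp`. -/
def W : symplecticGroup (Fin 2) F := ⟨Wm, Wm_mem⟩

/-- `n₀ = U(-E₀₀) L(E₀₀) U(-E₀₀)`. -/
def N0 : symplecticGroup (Fin 2) F := U (-1) 0 0 * L 1 0 0 * U (-1) 0 0

theorem U_mul (a b c a' b' c' : F) : U a b c * U a' b' c' = U (a + a') (b + b') (c + c') :=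
  Subtype.ext (Um_mul a b c a' b' c')

theorem U_zero : U (0 : F) 0 0 = 1 := Subtype.ext Um_zero

theorem U_inv (a b c : F) : (U a b c)⁻¹ = U (-a) (-b) (-c) := by
  apply inv_eq_of_mul_eq_one_right
  rw [U_mul, add_neg_cancel, add_neg_cancel, add_neg_cancel, U_zero]

theorem L_mul (a b c a' b' c' : F) : L a b c * L a' b' c' = L (a + a') (b + b') (c + c') :=
  Subtype.ext (Lm_mul a b c a' b' c')

theorem L_zero : L (0 : F) 0 0 = 1 := Subtype.ext Lm_zero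

theorem L_inv (a b c : F) : (L a b c)⁻¹ = L (-a) (-b) (-c) := by
  apply inv_eq_of_mul_eq_one_right
  rw [L_mul, add_neg_cancel, add_neg_cancel, add_neg_cancel, L_zero]

theorem D_mul (s s' : F) : D s * D s' = D (s + s') := Subtype.ext (Dm_mul s s')

theorem D_zero : D (0 : F) = 1 := Subtype.ext Dm_zero

theorem D_inv (s : F) : (D s)⁻¹ = D (-s) := by
  apply inv_eq_of_mul_eq_one_right
  rw [D_mul, add_neg_cancel, D_zero]

theorem DU (s a b c : F) :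
    D s * U a b c = U (a + 2 * s * b + s ^ 2 * c) (b + s * c) c * D s :=
  Subtype.ext (DmUm s a b c)

theorem DL (s a b c : F) :
    D s * L a b c = L a (b - s * a) (c - 2 * s * b + s ^ 2 * a) * D s :=
  Subtype.ext (DmLm s a b c)

theorem EU (s a b c : F) :
    E s * U a b c = U a (b + s * a) (c + 2 * s * b + s ^ 2 * a) * E s :=
  Subtype.ext (EmUm s a b c)

theorem N0U2 (c : F) : N0 * U 0 c 0 = E (-c) * N0 := Subtype.ext (N0Um2 c)

theorem N0U0 (c : F) : N0 * U c 0 0 = L (-c) 0 0 * N0 := Subtype.ext (N0Um0 c)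

theorem N0L : (N0 : symplecticGroup (Fin 2) F) * L (-1) 0 0 = L 1 0 0 * U (-1) 0 0 :=
  Subtype.ext N0Lm

theorem WDU (s : F) : W * (D s * U 0 0 1) = D (-s) * L (-1) 0 0 * W :=
  Subtype.ext (WmDmUm s)

/-! ### The generation argument -/

theorem gen_aux [Fintype F] (h2 : (2 : F) ≠ 0) (K : Subgroup (symplecticGroup (Fin 2) F))
    (lam : F) (hlam0 : lam ≠ 0) (hlam : ∀ x : F, x ≠ 0 → ∃ i : ℕ, x = lam ^ i)
    (hX : U (-1 : F) 0 0 ∈ K) (hL1 : L (1 : F) 0 0 ∈ K) (hD : D lam ∈ K)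
    (hU1 : U (0 : F) 0 1 ∈ K) : K = ⊤ := by
  classical
  have hDn : D (-lam) ∈ K := by rw [← D_inv]; exact inv_mem hD
  have hN0 : (N0 : symplecticGroup (Fin 2) F) ∈ K := mul_mem (mul_mem hX hL1) hX
  let C0 : AddSubgroup F :=
    { carrier := {c | U c 0 0 ∈ K}
      add_mem' := by
        intro a b ha hb
        have ha' : U a 0 0 ∈ K := ha
        have hb' : U b 0 0 ∈ K := hb
        have h := mul_mem ha' hb'
        rw [U_mul, add_zero] at h
        exact h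
      zero_mem' := by
        show U (0 : F) 0 0 ∈ K
        rw [U_zero]; exact one_mem K
      neg_mem' := by
        intro a ha
        have ha' : U a 0 0 ∈ K := ha
        have h := inv_mem ha'
        rw [U_inv, neg_zero] at h
        exact h }
  let C1 : AddSubgroup F :=
    { carrier := {c | U 0 0 c ∈ K}
      add_mem' := by
        intro a b ha hb
        have ha' : U 0 0 a ∈ K := ha
        have hb' : U 0 0 b ∈ K := hb
        have h := mul_mem ha' hb'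
        rw [U_mul, add_zero] at h
        exact h
      zero_mem' := by
        show U (0 : F) 0 0 ∈ K
        rw [U_zero]; exact one_mem K
      neg_mem' := by
        intro a ha
        have ha' : U 0 0 a ∈ K := ha
        have h := inv_mem ha'
        rw [U_inv, neg_zero] at h
        exact h }
  let C2 : AddSubgroup F :=
    { carrier := {c | U 0 c 0 ∈ K}
      add_mem' := by
        intro a b ha hb
        have ha' : U 0 a 0 ∈ K := ha
        have hb' : U 0 b 0 ∈ K := hb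
        have h := mul_mem ha' hb'
        rw [U_mul, add_zero] at h
        exact h
      zero_mem' := by
        show U (0 : F) 0 0 ∈ K
        rw [U_zero]; exact one_mem K
      neg_mem' := by
        intro a ha
        have ha' : U 0 a 0 ∈ K := ha
        have h := inv_mem ha'
        rw [U_inv, neg_zero] at h
        exact h }
  have h1C1 : (1 : F) ∈ C1 := hU1
  have h1C0 : (1 : F) ∈ C0 := by
    have h : (-1 : F) ∈ C0 := hX
    have h' := C0.neg_mem h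
    rwa [neg_neg] at h'
  -- (3a)
  have h3a : ∀ c ∈ C1, 2 * lam * c ∈ C2 ∧ 2 * lam ^ 2 * c ∈ C0 := by
    intro c hc
    have hc' : U 0 0 c ∈ K := hc
    have e1 : U (lam ^ 2 * c) (lam * c) c ∈ K := by
      have e : U (lam ^ 2 * c) (lam * c) c = D lam * U 0 0 c * (D lam)⁻¹ := by
        rw [DU, mul_inv_cancel_right]; congr 1 <;> ring
      rw [e]; exact mul_mem (mul_mem hD hc') (inv_mem hD)
    have e2 : U (lam ^ 2 * c) (-(lam * c)) c ∈ K := by
      have e : U (lam ^ 2 * c) (-(lam * c)) c = D (-lam) * U 0 0 c * (D (-lam))⁻¹ := by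
        rw [DU, mul_inv_cancel_right]; congr 1 <;> ring
      rw [e]; exact mul_mem (mul_mem hDn hc') (inv_mem hDn)
    constructor
    · show U 0 (2 * lam * c) 0 ∈ K
      have e : U 0 (2 * lam * c) 0 =
          U (lam ^ 2 * c) (lam * c) c * (U (lam ^ 2 * c) (-(lam * c)) c)⁻¹ := by
        rw [U_inv, U_mul]; congr 1 <;> ring
      rw [e]; exact mul_mem e1 (inv_mem e2)
    · show U (2 * lam ^ 2 * c) 0 0 ∈ K
      have e : U (2 * lam ^ 2 * c) 0 0 =
          U (lam ^ 2 * c) (lam * c) c * U (lam ^ 2 * c) (-(lam * c)) c * (U 0 0 c)⁻¹ *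
            (U 0 0 c)⁻¹ := by
        rw [U_inv, U_mul, U_mul, U_mul]; congr 1 <;> ring
      rw [e]; exact mul_mem (mul_mem (mul_mem e1 e2) (inv_mem hc')) (inv_mem hc')
  -- (3b)
  have h3b : ∀ c ∈ C2, 2 * lam * c ∈ C0 := by
    intro c hc
    have hc' : U 0 c 0 ∈ K := hc
    have e1 : U (2 * lam * c) c 0 ∈ K := by
      have e : U (2 * lam * c) c 0 = D lam * U 0 c 0 * (D lam)⁻¹ := by
        rw [DU, mul_inv_cancel_right]; congr 1 <;> ring
      rw [e]; exact mul_mem (mul_mem hD hc') (inv_mem hD)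
    show U (2 * lam * c) 0 0 ∈ K
    have e : U (2 * lam * c) 0 0 = U (2 * lam * c) c 0 * (U 0 c 0)⁻¹ := by
      rw [U_inv, U_mul]; congr 1 <;> ring
    rw [e]; exact mul_mem e1 (inv_mem hc')
  -- (3c)
  have hE : ∀ μ ∈ C2, E μ ∈ K := by
    intro μ hμ
    have h : U 0 (-μ) 0 ∈ K := C2.neg_mem hμ
    have e : E μ = N0 * U 0 (-μ) 0 * N0⁻¹ := by
      rw [N0U2, mul_inv_cancel_right, neg_neg]
    rw [e]; exact mul_mem (mul_mem hN0 h) (inv_mem hN0)
  have h3c : ∀ μ ∈ C2, ∀ c ∈ C0, 2 * μ * c ∈ C2 ∧ 2 * μ ^ 2 * c ∈ C1 := by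
    intro μ hμ c hc
    have hc' : U c 0 0 ∈ K := hc
    have hE1 := hE μ hμ
    have hE2 := hE (-μ) (C2.neg_mem hμ)
    have e1 : U c (μ * c) (μ ^ 2 * c) ∈ K := by
      have e : U c (μ * c) (μ ^ 2 * c) = E μ * U c 0 0 * (E μ)⁻¹ := by
        rw [EU, mul_inv_cancel_right]; congr 1 <;> ring
      rw [e]; exact mul_mem (mul_mem hE1 hc') (inv_mem hE1)
    have e2 : U c (-(μ * c)) (μ ^ 2 * c) ∈ K := by
      have e : U c (-(μ * c)) (μ ^ 2 * c) = E (-μ) * U c 0 0 * (E (-μ))⁻¹ := by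
        rw [EU, mul_inv_cancel_right]; congr 1 <;> ring
      rw [e]; exact mul_mem (mul_mem hE2 hc') (inv_mem hE2)
    constructor
    · show U 0 (2 * μ * c) 0 ∈ K
      have e : U 0 (2 * μ * c) 0 =
          U c (μ * c) (μ ^ 2 * c) * (U c (-(μ * c)) (μ ^ 2 * c))⁻¹ := by
        rw [U_inv, U_mul]; congr 1 <;> ring
      rw [e]; exact mul_mem e1 (inv_mem e2)
    · show U 0 0 (2 * μ ^ 2 * c) ∈ K
      have e : U 0 0 (2 * μ ^ 2 * c) =
          U c (μ * c) (μ ^ 2 * c) * U c (-(μ * c)) (μ ^ 2 * c) * (U c 0 0)⁻¹ *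
            (U c 0 0)⁻¹ := by
        rw [U_inv, U_mul, U_mul, U_mul]; congr 1 <;> ring
      rw [e]; exact mul_mem (mul_mem (mul_mem e1 e2) (inv_mem hc')) (inv_mem hc')
  have h2lam : 2 * lam ∈ C2 := by
    have h := (h3a 1 h1C1).1
    rwa [mul_one] at h
  have h8 : ∀ c ∈ C0, 8 * lam ^ 2 * c ∈ C0 := by
    intro c hc
    have h1 := (h3c (2 * lam) h2lam c hc).1
    have h2' := h3b _ h1
    have e : 8 * lam ^ 2 * c = 2 * lam * (2 * (2 * lam) * c) := by ring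
    rw [e]; exact h2'
  have hpow : ∀ j : ℕ, (8 * lam ^ 2) ^ j ∈ C0 := by
    intro j
    induction j with
    | zero => rw [pow_zero]; exact h1C0
    | succ j ih => rw [pow_succ']; exact h8 _ ih
  have h8ne : (8 : F) ≠ 0 := by
    have e : (8 : F) = 2 ^ 3 := by norm_num
    rw [e]; exact pow_ne_zero 3 h2
  have hsq : ∀ j : ℕ, lam ^ (2 * j) ∈ C0 := by
    intro j
    obtain ⟨q', hq'⟩ : ∃ q' : ℕ, Fintype.card F = q' + 2 :=
      ⟨Fintype.card F - 2, by have := Fintype.one_lt_card (α := F); omega⟩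
    have h1 := C0.nsmul_mem (hpow j) (8 ^ (j * q'))
    have e : (8 ^ (j * q')) • (8 * lam ^ 2) ^ j = lam ^ (2 * j) := by
      rw [nsmul_eq_mul, mul_pow, ← pow_mul]
      push_cast
      rw [← mul_assoc, ← pow_add]
      have hq : j * q' + j = (Fintype.card F - 1) * j := by
        rw [hq']; simp; ring
      rw [hq, pow_mul, FiniteField.pow_card_sub_one_eq_one 8 h8ne, one_pow, one_mul]
    rw [e] at h1; exact h1
  have hsq' : ∀ x : F, x ^ 2 ∈ C0 := by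
    intro x
    by_cases hx : x = 0
    · rw [hx]
      have e : (0 : F) ^ 2 = 0 := by ring
      rw [e]; exact C0.zero_mem
    · obtain ⟨i, hi⟩ := hlam x hx
      rw [hi, ← pow_mul, mul_comm]; exact hsq i
  have hC0 : ∀ c : F, c ∈ C0 := by
    intro c
    obtain ⟨a, b, hab⟩ := Cfsg.Agent.H45.sum_two_squares c
    rw [← hab]; exact C0.add_mem (hsq' a) (hsq' b)
  have hC2 : ∀ b : F, b ∈ C2 := by
    intro b
    have hne : 2 * (2 * lam) ≠ 0 := mul_ne_zero h2 (mul_ne_zero h2 hlam0)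
    have h1 := (h3c (2 * lam) h2lam ((2 * (2 * lam))⁻¹ * b) (hC0 _)).1
    have e : 2 * (2 * lam) * ((2 * (2 * lam))⁻¹ * b) = b := by
      rw [← mul_assoc, mul_inv_cancel₀ hne, one_mul]
    rw [e] at h1; exact h1
  have hC1 : ∀ c : F, c ∈ C1 := by
    intro c
    have h1 := (h3c 1 (hC2 1) (2⁻¹ * c) (hC0 _)).2
    have e : 2 * (1 : F) ^ 2 * (2⁻¹ * c) = c := by
      rw [one_pow, mul_one, ← mul_assoc, mul_inv_cancel₀ h2, one_mul]
    rw [e] at h1; exact h1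
  have hUall : ∀ a b c : F, U a b c ∈ K := by
    intro a b c
    have e : U a b c = U a 0 0 * U 0 b 0 * U 0 0 c := by
      rw [U_mul, U_mul]; congr 1 <;> ring
    rw [e]; exact mul_mem (mul_mem (hC0 a) (hC2 b)) (hC1 c)
  -- lower unipotents
  have hL0 : ∀ c : F, L c 0 0 ∈ K := by
    intro c
    have e : L c 0 0 = N0 * U (-c) 0 0 * N0⁻¹ := by
      rw [N0U0, mul_inv_cancel_right, neg_neg]
    rw [e]; exact mul_mem (mul_mem hN0 (hUall _ _ _)) (inv_mem hN0)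
  have hLa : ∀ a : F, L a (-(lam * a)) (lam ^ 2 * a) ∈ K ∧ L a (lam * a) (lam ^ 2 * a) ∈ K := by
    intro a
    constructor
    · have e : L a (-(lam * a)) (lam ^ 2 * a) = D lam * L a 0 0 * (D lam)⁻¹ := by
        rw [DL, mul_inv_cancel_right]; congr 1 <;> ring
      rw [e]; exact mul_mem (mul_mem hD (hL0 a)) (inv_mem hD)
    · have e : L a (lam * a) (lam ^ 2 * a) = D (-lam) * L a 0 0 * (D (-lam))⁻¹ := by
        rw [DL, mul_inv_cancel_right]; congr 1 <;> ring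
      rw [e]; exact mul_mem (mul_mem hDn (hL0 a)) (inv_mem hDn)
  have hL2 : ∀ b : F, L 0 b 0 ∈ K := by
    intro b
    obtain ⟨a, ha⟩ : ∃ a : F, 2 * lam * a = b :=
      ⟨(2 * lam)⁻¹ * b, by
        rw [← mul_assoc, mul_inv_cancel₀ (mul_ne_zero h2 hlam0), one_mul]⟩
    obtain ⟨h1, h2'⟩ := hLa a
    have e : L 0 b 0 = L a (lam * a) (lam ^ 2 * a) * (L a (-(lam * a)) (lam ^ 2 * a))⁻¹ := by
      rw [L_inv, L_mul, ← ha]; congr 1 <;> ring
    rw [e]; exact mul_mem h2' (inv_mem h1)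
  have hL1' : ∀ c : F, L 0 0 c ∈ K := by
    intro c
    obtain ⟨a, ha⟩ : ∃ a : F, 2 * lam ^ 2 * a = c :=
      ⟨(2 * lam ^ 2)⁻¹ * c, by
        rw [← mul_assoc, mul_inv_cancel₀ (mul_ne_zero h2 (pow_ne_zero 2 hlam0)), one_mul]⟩
    obtain ⟨h1, h2'⟩ := hLa a
    have e : L 0 0 c = L a (lam * a) (lam ^ 2 * a) * L a (-(lam * a)) (lam ^ 2 * a) *
        (L a 0 0)⁻¹ * (L a 0 0)⁻¹ := by
      rw [L_inv, L_mul, L_mul, L_mul, ← ha]; congr 1 <;> ring
    rw [e]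
    exact mul_mem (mul_mem (mul_mem h2' h1) (inv_mem (hL0 a))) (inv_mem (hL0 a))
  have hLall : ∀ a b c : F, L a b c ∈ K := by
    intro a b c
    have e : L a b c = L a 0 0 * L 0 b 0 * L 0 0 c := by
      rw [L_mul, L_mul]; congr 1 <;> ring
    rw [e]; exact mul_mem (mul_mem (hL0 a) (hL2 b)) (hL1' c)
  apply Cfsg.Agent.H45.sp_eq_top_of_upper_lower
  · intro S hS
    refine ⟨U (S 0 0) (S 0 1) (S 1 1), hUall _ _ _, ?_⟩
    show Um (S 0 0) (S 0 1) (S 1 1) = fromBlocks 1 S 0 1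
    unfold Um
    rw [fromBlocks_inj]
    refine ⟨rfl, ?_, rfl, rfl⟩
    ext i j
    fin_cases i <;> fin_cases j <;> first | rfl | exact congrFun (congrFun hS 1) 0
  · intro R hR
    refine ⟨L (R 0 0) (R 0 1) (R 1 1), hLall _ _ _, ?_⟩
    show Lm (R 0 0) (R 0 1) (R 1 1) = fromBlocks 1 0 R 1
    unfold Lm
    rw [fromBlocks_inj]
    refine ⟨rfl, rfl, ?_, rfl⟩
    ext i j
    fin_cases i <;> fin_cases j <;> first | rfl | exact congrFun (congrFun hR 1) 0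

/-- **S2281-N2O**: `Sp_4(q)`, `q` odd, is generated by three conjugates of a regular unipotent
element. -/
theorem sp4_odd {F : Type*} [Field F] [Fintype F] (h2 : (2 : F) ≠ 0) :
    ∃ u g h : Matrix.symplecticGroup (Fin 2) F,
      IsNilpotent ((u : Matrix (Fin 2 ⊕ Fin 2) (Fin 2 ⊕ Fin 2) F) - 1) ∧
      ((u : Matrix (Fin 2 ⊕ Fin 2) (Fin 2 ⊕ Fin 2) F) - 1) ^ 3 ≠ 0 ∧
      Subgroup.closure ({u, g * u * g⁻¹, h * u * h⁻¹} :
        Set (Matrix.symplecticGroup (Fin 2) F)) = ⊤ := by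
  classical
  obtain ⟨ζ, hζ⟩ := IsCyclic.exists_generator (α := Fˣ)
  obtain ⟨lam, hlamdef⟩ : ∃ lam : F, lam = (ζ : F) := ⟨_, rfl⟩
  have hlam0 : lam ≠ 0 := by rw [hlamdef]; exact ζ.ne_zero
  have hlam : ∀ x : F, x ≠ 0 → ∃ i : ℕ, x = lam ^ i := by
    intro x hx
    have h1 : Units.mk0 x hx ∈ Submonoid.powers ζ := by
      rw [mem_powers_iff_mem_zpowers]; exact hζ _
    obtain ⟨n, hn⟩ := (Submonoid.mem_powers_iff _ _).mp h1
    refine ⟨n, ?_⟩
    have h3 := congrArg (fun y : Fˣ => (y : F)) hn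
    simp only [Units.val_pow_eq_pow_val, Units.val_mk0] at h3
    rw [hlamdef]; exact h3.symm
  obtain ⟨t, ht⟩ : ∃ t : F, 2 * lam * t = 1 :=
    ⟨(2 * lam)⁻¹, mul_inv_cancel₀ (mul_ne_zero h2 hlam0)⟩
  have hN : ((D lam * U 0 0 1 : symplecticGroup (Fin 2) F) :
      Matrix (Fin 2 ⊕ Fin 2) (Fin 2 ⊕ Fin 2) F) - 1 =
      fromBlocks !![0, lam; 0, 0] !![0, lam; 0, 1] 0 !![0, 0; -lam, 0] := u_sub_one lam
  have hN2 : (fromBlocks !![0, lam; 0, 0] !![0, lam; 0, 1] 0 !![0, 0; -lam, 0] :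
      Matrix (Fin 2 ⊕ Fin 2) (Fin 2 ⊕ Fin 2) F) ^ 2 =
      fromBlocks 0 !![-lam ^ 2, lam; -lam, 0] 0 0 := by
    rw [pow_two, nil_sq]
  have hN3 : (fromBlocks !![0, lam; 0, 0] !![0, lam; 0, 1] 0 !![0, 0; -lam, 0] :
      Matrix (Fin 2 ⊕ Fin 2) (Fin 2 ⊕ Fin 2) F) ^ 3 =
      fromBlocks 0 !![-lam ^ 2, 0; 0, 0] 0 0 := by
    rw [pow_succ, hN2, nil_cube]
  have hN4 : (fromBlocks !![0, lam; 0, 0] !![0, lam; 0, 1] 0 !![0, 0; -lam, 0] :
      Matrix (Fin 2 ⊕ Fin 2) (Fin 2 ⊕ Fin 2) F) ^ 4 = 0 := by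
    rw [pow_succ, hN3, nil_four]
  refine ⟨D lam * U 0 0 1, U 0 t 0, W, ?_, ?_, ?_⟩
  · rw [hN]; exact ⟨4, hN4⟩
  · rw [hN, hN3]
    intro h
    have h' := congrFun (congrFun h (Sum.inl 0)) (Sum.inr 0)
    simp at h'
    exact hlam0 h'
  · obtain ⟨K, hK⟩ : ∃ K : Subgroup (symplecticGroup (Fin 2) F), K = Subgroup.closure
        ({D lam * U 0 0 1, U 0 t 0 * (D lam * U 0 0 1) * (U 0 t 0)⁻¹,
          W * (D lam * U 0 0 1) * W⁻¹} : Set (symplecticGroup (Fin 2) F)) := ⟨_, rfl⟩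
    rw [← hK]
    have hu : D lam * U 0 0 1 ∈ K := by
      rw [hK]; exact Subgroup.subset_closure (Set.mem_insert _ _)
    have hu2 : U 0 t 0 * (D lam * U 0 0 1) * (U 0 t 0)⁻¹ ∈ K := by
      rw [hK]; exact Subgroup.subset_closure (Set.mem_insert_of_mem _ (Set.mem_insert _ _))
    have hu3 : W * (D lam * U 0 0 1) * W⁻¹ ∈ K := by
      rw [hK]
      exact Subgroup.subset_closure (Set.mem_insert_of_mem _ (Set.mem_insert_of_mem _ rfl))
    have h1 : U 0 t 0 * D lam = D lam * U (-1) t 0 := by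
      rw [DU, ht]; congr 2 <;> ring
    have e2 : U 0 t 0 * (D lam * U 0 0 1) * (U 0 t 0)⁻¹ = D lam * U 0 0 1 * U (-1) 0 0 := by
      have e : U (-1) t 0 * U 0 0 1 * (U (0 : F) t 0)⁻¹ = U 0 0 1 * U (-1) 0 0 := by
        rw [U_inv, U_mul, U_mul, U_mul]; congr 1 <;> ring
      calc U 0 t 0 * (D lam * U 0 0 1) * (U 0 t 0)⁻¹
          = (U 0 t 0 * D lam) * U 0 0 1 * (U 0 t 0)⁻¹ := by simp only [mul_assoc]
        _ = D lam * (U (-1) t 0 * U 0 0 1 * (U 0 t 0)⁻¹) := by rw [h1]; simp only [mul_assoc]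
        _ = D lam * U 0 0 1 * U (-1) 0 0 := by rw [e, mul_assoc]
    have hX : U (-1 : F) 0 0 ∈ K := by
      have e : U (-1 : F) 0 0 =
          (D lam * U 0 0 1)⁻¹ * (U 0 t 0 * (D lam * U 0 0 1) * (U 0 t 0)⁻¹) := by
        rw [e2, inv_mul_cancel_left]
      rw [e]; exact mul_mem (inv_mem hu) hu2
    have e3 : W * (D lam * U 0 0 1) * W⁻¹ = D (-lam) * L (-1) 0 0 := by
      rw [WDU, mul_inv_cancel_right]
    have hu3' : D (-lam) * L (-1) 0 0 ∈ K := e3 ▸ hu3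
    have hL1 : L (1 : F) 0 0 ∈ K := by
      have einv : (D (-lam) * L (-1) 0 0)⁻¹ = L 1 0 0 * D lam := by
        rw [_root_.mul_inv_rev, L_inv, D_inv, neg_neg, neg_neg, neg_zero]
      have ecomm : D lam * U (-1) 0 0 = U (-1) 0 0 * D lam := by
        rw [DU]; congr 2 <;> ring
      have e' : L (1 : F) 0 0 * D lam * U (-1) 0 0 * (D (-lam) * L (-1) 0 0) =
          L 1 0 0 * U (-1) 0 0 * L (-1) 0 0 := by
        calc L (1 : F) 0 0 * D lam * U (-1) 0 0 * (D (-lam) * L (-1) 0 0)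
            = L 1 0 0 * (D lam * U (-1) 0 0) * (D (-lam) * L (-1) 0 0) := by
              simp only [mul_assoc]
          _ = L 1 0 0 * (U (-1) 0 0 * D lam) * (D (-lam) * L (-1) 0 0) := by rw [ecomm]
          _ = L 1 0 0 * U (-1) 0 0 * (D lam * D (-lam)) * L (-1) 0 0 := by
              simp only [mul_assoc]
          _ = L 1 0 0 * U (-1) 0 0 * L (-1) 0 0 := by
              rw [D_mul, add_neg_cancel, D_zero, mul_one]
      have e'' : U (-1 : F) 0 0 * (L 1 0 0 * U (-1) 0 0 * L (-1) 0 0) =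
          L 1 0 0 * U (-1) 0 0 := by
        calc U (-1 : F) 0 0 * (L 1 0 0 * U (-1) 0 0 * L (-1) 0 0)
            = N0 * L (-1) 0 0 := by unfold N0; simp only [mul_assoc]
          _ = _ := N0L
      have e : L (1 : F) 0 0 = U (-1) 0 0 * ((D (-lam) * L (-1) 0 0)⁻¹ * U (-1) 0 0 *
          (D (-lam) * L (-1) 0 0)) * (U (-1) 0 0)⁻¹ := by
        rw [einv, e', e'', mul_inv_cancel_right]
      rw [e]
      exact mul_mem (mul_mem hX (mul_mem (mul_mem (inv_mem hu3') hX) hu3')) (inv_mem hX)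
    have hDn : D (-lam) ∈ K := by
      have e : D (-lam) = D (-lam) * L (-1) 0 0 * L 1 0 0 := by
        rw [mul_assoc, L_mul, neg_add_cancel, add_zero, L_zero, mul_one]
      rw [e]; exact mul_mem hu3' hL1
    have hD : D lam ∈ K := by
      have e : D lam = (D (-lam))⁻¹ := by rw [D_inv, neg_neg]
      rw [e]; exact inv_mem hDn
    have hU1 : U (0 : F) 0 1 ∈ K := by
      have e : U (0 : F) 0 1 = (D lam)⁻¹ * (D lam * U 0 0 1) := by rw [inv_mul_cancel_left]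
      rw [e]; exact mul_mem (inv_mem hD) hu
    exact gen_aux h2 K lam hlam0 hlam hX hL1 hD hU1

end Cfsg.Agent.H27.SpR
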