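import Mathlib

/-!
# helper27: S5965 piece WC (`exists_witness_C`) for helper99
-/

set_option autoImplicit false

namespace Cfsg.Agent.H27.Sub

open scoped MatrixGroups

variable {F : Type*} [Field F] [Fintype F]

/-- rank of `diagonal d - ν • 1` plus the multiplicity of `ν` in `d` is `n` -/
theorem rank_diag_sub_add {n : ℕ} [DecidableEq F] (d : Fin n → F) (ν : F) :
    (Matrix.diagonal d - ν • (1 : Matrix (Fin n) (Fin n) F)).rank
      + (Finset.univ.filter (fun i => d i = ν)).card = n := by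
  rw [Matrix.smul_one_eq_diagonal, Matrix.diagonal_sub, Matrix.rank_diagonal,
    Fintype.card_subtype]
  have key : ∀ s : Finset (Fin n), (∀ i, i ∈ s ↔ d i - ν ≠ 0) →
      s.card + (Finset.univ.filter (fun i => d i = ν)).card = n := by
    intro s hs
    have h1 : s = Finset.univ.filter (fun i => ¬ (d i = ν)) := by
      ext i
      rw [hs, Finset.mem_filter, Ne, sub_eq_zero]
      simp
    rw [h1, add_comm, Finset.card_filter_add_card_filter_not, Finset.card_univ,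
      Fintype.card_fin]
  apply key
  intro i
  rw [Finset.mem_filter]
  simp

/-- **S5965-WC** -/
theorem exists_witness_C (F₀ : Subfield F) (n r : ℕ) (hr : r.Prime) (hr2 : r ≠ 2) (hr3 : r ≠ 3)
    (hNR : ¬ r ∣ Nat.card ↥F₀ - 1) (hn : 6 ≤ n) (ζ : F) (hζ : ζ ^ r = 1) (hζ1 : ζ ≠ 1) :
    ∃ M : Matrix (Fin n) (Fin n) F, M.det = 1 ∧ M ^ r = 1 ∧
      (∀ z : F, M ≠ z • (1 : Matrix (Fin n) (Fin n) F)) ∧
      ¬ ∃ τ : F, τ ≠ 0 ∧ ∀ ν : F, (M - ν • (1 : Matrix (Fin n) (Fin n) F)).rank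
        = (M - (τ * ν ^ Nat.card ↥F₀) • (1 : Matrix (Fin n) (Fin n) F)).rank := by
  classical
  obtain ⟨m, rfl⟩ : ∃ m, n = m + 3 := ⟨n - 3, by omega⟩
  have hm : 3 ≤ m := by omega
  have iF : Fact r.Prime := ⟨hr⟩
  have hord : orderOf ζ = r := orderOf_eq_prime hζ hζ1
  have hζ0 : ζ ≠ 0 := by
    rintro rfl
    rw [zero_pow hr.ne_zero] at hζ
    exact zero_ne_one hζ
  have hz2 : (ζ ^ 2)⁻¹ ≠ 1 := by
    intro h
    have h1 : ζ ^ 2 = 1 := by rw [← inv_inv (ζ ^ 2), h, inv_one]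
    have h2 : r ∣ 2 := by rw [← hord]; exact orderOf_dvd_of_pow_eq_one h1
    exact hr2 ((Nat.prime_dvd_prime_iff_eq hr Nat.prime_two).1 h2)
  have hz3 : (ζ ^ 2)⁻¹ ≠ ζ := by
    intro h
    have h1 : ζ ^ 3 = 1 := by
      calc ζ ^ 3 = ζ ^ 2 * ζ := pow_succ ζ 2
        _ = ζ ^ 2 * (ζ ^ 2)⁻¹ := by rw [h]
        _ = 1 := mul_inv_cancel₀ (pow_ne_zero 2 hζ0)
    have h2 : r ∣ 3 := by rw [← hord]; exact orderOf_dvd_of_pow_eq_one h1
    exact hr3 ((Nat.prime_dvd_prime_iff_eq hr Nat.prime_three).1 h2)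
  obtain ⟨d, hd⟩ : ∃ d : Fin (m + 3) → F,
      d = fun i : Fin (m + 3) =>
        if (i : ℕ) < 2 then ζ else if (i : ℕ) = 2 then (ζ ^ 2)⁻¹ else 1 := ⟨_, rfl⟩
  have hdlt : ∀ i : Fin (m + 3), (i : ℕ) < 2 → d i = ζ := by
    intro i hi; rw [hd]; simp only [if_pos hi]
  have hd2 : ∀ i : Fin (m + 3), (i : ℕ) = 2 → d i = (ζ ^ 2)⁻¹ := by
    intro i hi
    have h1 : ¬ (i : ℕ) < 2 := by omega
    rw [hd]; simp only [if_neg h1, if_pos hi]
  have hdge : ∀ i : Fin (m + 3), 3 ≤ (i : ℕ) → d i = 1 := by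
    intro i hi
    have h1 : ¬ (i : ℕ) < 2 := by omega
    have h2 : ¬ (i : ℕ) = 2 := by omega
    rw [hd]; simp only [if_neg h1, if_neg h2]
  have htri : ∀ i : Fin (m + 3), d i = ζ ∧ (i : ℕ) < 2 ∨ d i = (ζ ^ 2)⁻¹ ∧ (i : ℕ) = 2 ∨
      d i = 1 ∧ 3 ≤ (i : ℕ) := by
    intro i
    rcases Nat.lt_or_ge (i : ℕ) 2 with h | h
    · exact Or.inl ⟨hdlt i h, h⟩
    · rcases Nat.eq_or_lt_of_le h with h' | h'
      · exact Or.inr (Or.inl ⟨hd2 i h'.symm, h'.symm⟩)
      · exact Or.inr (Or.inr ⟨hdge i h', h'⟩)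
  have hne : ∀ a b : Fin (m + 3), (a : ℕ) ≠ (b : ℕ) → a ≠ b :=
    fun a b h h' => h (congrArg Fin.val h')
  obtain ⟨i0, hi0⟩ : ∃ i : Fin (m + 3), (i : ℕ) = 0 := ⟨⟨0, by omega⟩, rfl⟩
  obtain ⟨i1, hi1⟩ : ∃ i : Fin (m + 3), (i : ℕ) = 1 := ⟨⟨1, by omega⟩, rfl⟩
  obtain ⟨i2, hi2⟩ : ∃ i : Fin (m + 3), (i : ℕ) = 2 := ⟨⟨2, by omega⟩, rfl⟩
  obtain ⟨i3, hi3⟩ : ∃ i : Fin (m + 3), (i : ℕ) = 3 := ⟨⟨3, by omega⟩, rfl⟩
  obtain ⟨i4, hi4⟩ : ∃ i : Fin (m + 3), (i : ℕ) = 4 := ⟨⟨4, by omega⟩, rfl⟩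
  obtain ⟨i5, hi5⟩ : ∃ i : Fin (m + 3), (i : ℕ) = 5 := ⟨⟨5, by omega⟩, rfl⟩
  have hm1 : 3 ≤ (Finset.univ.filter (fun i => d i = 1)).card := by
    have h1 : ({i3, i4, i5} : Finset (Fin (m + 3))) ⊆ Finset.univ.filter (fun i => d i = 1) := by
      intro i hi
      rw [Finset.mem_insert, Finset.mem_insert, Finset.mem_singleton] at hi
      rw [Finset.mem_filter]
      refine ⟨Finset.mem_univ i, ?_⟩
      rcases hi with rfl | rfl | rfl
      · exact hdge _ (by omega)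
      · exact hdge _ (by omega)
      · exact hdge _ (by omega)
    have h2 : ({i3, i4, i5} : Finset (Fin (m + 3))).card = 3 :=
      Finset.card_eq_three.2 ⟨i3, i4, i5, hne _ _ (by omega), hne _ _ (by omega),
        hne _ _ (by omega), rfl⟩
    exact le_of_eq_of_le h2.symm (Finset.card_le_card h1)
  have hmζ_ge : 2 ≤ (Finset.univ.filter (fun i => d i = ζ)).card := by
    have h1 : ({i0, i1} : Finset (Fin (m + 3))) ⊆ Finset.univ.filter (fun i => d i = ζ) := by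
      intro i hi
      rw [Finset.mem_insert, Finset.mem_singleton] at hi
      rw [Finset.mem_filter]
      refine ⟨Finset.mem_univ i, ?_⟩
      rcases hi with rfl | rfl
      · exact hdlt _ (by omega)
      · exact hdlt _ (by omega)
    have h2 : ({i0, i1} : Finset (Fin (m + 3))).card = 2 :=
      Finset.card_pair (hne _ _ (by omega))
    exact le_of_eq_of_le h2.symm (Finset.card_le_card h1)
  have hmζ_le : (Finset.univ.filter (fun i => d i = ζ)).card ≤ 2 := by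
    have h1 : Finset.univ.filter (fun i => d i = ζ) ⊆ ({i0, i1} : Finset (Fin (m + 3))) := by
      intro i hi
      rw [Finset.mem_filter] at hi
      rw [Finset.mem_insert, Finset.mem_singleton]
      rcases htri i with ⟨_, h⟩ | ⟨h, _⟩ | ⟨h, _⟩
      · rcases Nat.lt_or_ge (i : ℕ) 1 with h' | h'
        · left; apply Fin.ext; omega
        · right; apply Fin.ext; omega
      · exact absurd (h.symm.trans hi.2) hz3
      · exact absurd (hi.2.symm.trans h) hζ1
    exact (Finset.card_le_card h1).trans Finset.card_le_two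
  have hmo : ∀ ν : F, ν ≠ 1 → ν ≠ ζ → (Finset.univ.filter (fun i => d i = ν)).card ≤ 1 := by
    intro ν h1 hζν
    have h2 : Finset.univ.filter (fun i => d i = ν) ⊆ ({i2} : Finset (Fin (m + 3))) := by
      intro i hi
      rw [Finset.mem_filter] at hi
      rw [Finset.mem_singleton]
      rcases htri i with ⟨h, _⟩ | ⟨_, h⟩ | ⟨h, _⟩
      · exact absurd (hi.2.symm.trans h) hζν
      · apply Fin.ext; omega
      · exact absurd (hi.2.symm.trans h) h1
    exact (Finset.card_le_card h2).trans (Finset.card_singleton _).le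
  refine ⟨Matrix.diagonal d, ?_, ?_, ?_, ?_⟩
  · rw [Matrix.det_diagonal, Fin.prod_univ_succ, Fin.prod_univ_succ, Fin.prod_univ_succ]
    have h0 : d 0 = ζ := hdlt _ (by simp)
    have h1 : d (Fin.succ 0) = ζ := hdlt _ (by simp)
    have h2 : d (Fin.succ (Fin.succ 0)) = (ζ ^ 2)⁻¹ := hd2 _ (by simp)
    have h3 : ∀ i : Fin m, d i.succ.succ.succ = 1 :=
      fun i => hdge _ (by simp only [Fin.val_succ]; omega)
    rw [h0, h1, h2]
    simp only [h3, Finset.prod_const_one, mul_one]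
    calc ζ * (ζ * (ζ ^ 2)⁻¹) = ζ ^ 2 * (ζ ^ 2)⁻¹ := by ring
      _ = 1 := mul_inv_cancel₀ (pow_ne_zero 2 hζ0)
  · rw [Matrix.diagonal_pow, ← Matrix.diagonal_one]
    congr 1
    funext i
    rw [Pi.pow_apply]
    rcases htri i with ⟨h, _⟩ | ⟨h, _⟩ | ⟨h, _⟩
    · rw [h, hζ]
    · rw [h, inv_pow, ← pow_mul, mul_comm, pow_mul, hζ, one_pow, inv_one]
    · rw [h, one_pow]
  · intro z h
    have h0 := congrFun (congrFun h i0) i0
    have h3 := congrFun (congrFun h i3) i3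
    simp only [Matrix.diagonal_apply_eq, Matrix.smul_apply, Matrix.one_apply_eq, smul_eq_mul,
      mul_one] at h0 h3
    rw [hdlt i0 (by omega)] at h0
    rw [hdge i3 (by omega)] at h3
    exact hζ1 (h0.trans h3.symm)
  · rintro ⟨τ, hτ0, hτ⟩
    have hmeq : ∀ ν : F, (Finset.univ.filter (fun i => d i = ν)).card
        = (Finset.univ.filter (fun i => d i = τ * ν ^ Nat.card ↥F₀)).card := by
      intro ν
      have h1 : (Matrix.diagonal d - ν • (1 : Matrix (Fin (m + 3)) (Fin (m + 3)) F)).rank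
          + (Finset.univ.filter (fun i => d i = ν)).card = m + 3 := rank_diag_sub_add d ν
      have h2 : (Matrix.diagonal d - (τ * ν ^ Nat.card ↥F₀) •
          (1 : Matrix (Fin (m + 3)) (Fin (m + 3)) F)).rank
          + (Finset.univ.filter (fun i => d i = τ * ν ^ Nat.card ↥F₀)).card = m + 3 :=
        rank_diag_sub_add d (τ * ν ^ Nat.card ↥F₀)
      have h3 := hτ ν
      omega
    have hτ1 : τ = 1 := by
      by_contra hne1
      have h1 := hmeq 1
      rw [one_pow, mul_one] at h1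
      have h2 : (Finset.univ.filter (fun i => d i = τ)).card ≤ 2 := by
        by_cases h : τ = ζ
        · rw [h]; exact hmζ_le
        · exact (hmo τ hne1 h).trans (by norm_num)
      omega
    have h1 := hmeq ζ
    rw [hτ1, one_mul] at h1
    have hq : ζ ^ Nat.card ↥F₀ = ζ := by
      by_contra hne1
      by_cases h : ζ ^ Nat.card ↥F₀ = 1
      · rw [h] at h1; omega
      · have h2 := hmo _ h hne1; omega
    have hq0 : Nat.card ↥F₀ ≠ 0 := Nat.card_pos.ne'
    have h2 : ζ ^ (Nat.card ↥F₀ - 1) = 1 := by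
      have h3 : ζ ^ (Nat.card ↥F₀ - 1) * ζ = 1 * ζ := by
        rw [pow_sub_one_mul hq0, hq, one_mul]
      exact mul_right_cancel₀ hζ0 h3
    apply hNR
    rw [← hord]
    exact orderOf_dvd_of_pow_eq_one h2

end Cfsg.Agent.H27.Sub
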