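import Mathlib
import Cfsg.Agent.H77.TpDefs

/-!
# S5980-INTWMAT (helper77's team project S5980): the matrix form of S5980-INTWLIN
-/

set_option autoImplicit false
open scoped Matrix

namespace Cfsg.Agent.H27.Tp

open Cfsg.Agent.H77.Tp Module

universe u

/-- **S5980-INTWMAT**. -/
theorem intwMat (hL : StIntwLin.{u}) : StIntwMat.{u} := by
  intro F _ _ a b r A B hr hrF hA hB
  classical
  -- `C = (Bᵀ)^(r-1)`, the inverse of `Bᵀ`
  obtain ⟨C, hC⟩ : ∃ C : Matrix (Fin b) (Fin b) F, C = Bᵀ ^ (r - 1) := ⟨_, rfl⟩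
  have hBt : Bᵀ ^ r = 1 := by rw [← Matrix.transpose_pow, hB, Matrix.transpose_one]
  have hr1 : r - 1 + 1 = r := Nat.sub_add_cancel hr.one_le
  have hCB : C * Bᵀ = 1 := by rw [hC, ← pow_succ, hr1, hBt]
  have hBC : Bᵀ * C = 1 := by rw [hC, ← pow_succ', hr1, hBt]
  have hCr : C ^ r = 1 := by rw [hC, ← pow_mul, mul_comm, pow_mul, hBt, one_pow]
  have hCdet : IsUnit (-C).det := by
    have h1 : (-C) * (-Bᵀ) = 1 := by rw [neg_mul_neg, hCB]
    have h2 := congrArg Matrix.det h1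
    rw [Matrix.det_mul, Matrix.det_one] at h2
    exact isUnit_iff_exists_inv.mpr ⟨_, h2⟩
  have hS : (Matrix.toLin' A) ^ r = 1 := by
    rw [← Matrix.toLin'_pow, hA, Matrix.toLin'_one]; rfl
  have hT : (Matrix.toLin' C) ^ r = 1 := by
    rw [← Matrix.toLin'_pow, hCr, Matrix.toLin'_one]; rfl
  obtain ⟨W, hWdef⟩ : ∃ W : Submodule F ((Fin b → F) →ₗ[F] (Fin a → F)),
      W = (intw A B).map ((Matrix.toLin' : Matrix (Fin a) (Fin b) F ≃ₗ[F]
        ((Fin b → F) →ₗ[F] (Fin a → F))) : Matrix (Fin a) (Fin b) F →ₗ[F]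
        ((Fin b → F) →ₗ[F] (Fin a → F))) := ⟨_, rfl⟩
  have hWfin : Module.finrank F ↥W = Module.finrank F ↥(intw A B) := by
    rw [hWdef]; exact LinearEquiv.finrank_map_eq _ _
  have hW : ∀ M ∈ W, Matrix.toLin' A ∘ₗ M = M ∘ₗ Matrix.toLin' C := by
    intro M' hM'
    rw [hWdef] at hM'
    obtain ⟨M, hM, rfl⟩ := hM'
    have hM2 : A * M * Bᵀ = M := hM
    show Matrix.toLin' A ∘ₗ Matrix.toLin' M = Matrix.toLin' M ∘ₗ Matrix.toLin' C
    rw [← Matrix.toLin'_mul, ← Matrix.toLin'_mul]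
    congr 1
    calc A * M = A * M * (Bᵀ * C) := by rw [hBC, Matrix.mul_one]
      _ = (A * M * Bᵀ) * C := by rw [Matrix.mul_assoc (A * M)]
      _ = M * C := by rw [hM2]
  have key := hL F (Fin a → F) (Fin b → F) (Matrix.toLin' A) (Matrix.toLin' C) r hr hrF hS hT W hW
  rw [hWfin] at key
  -- ranks
  have e1 : Matrix.toLin' A - 1 = Matrix.toLin' (A - 1) := by
    rw [map_sub, Matrix.toLin'_one]; rfl
  have e2 : Matrix.toLin' C - 1 = Matrix.toLin' (C - 1) := by
    rw [map_sub, Matrix.toLin'_one]; rfl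
  have r1 : Module.finrank F ↥(LinearMap.range (Matrix.toLin' A - 1)) = (A - 1).rank := by
    rw [e1]; rfl
  have hC1 : C - 1 = (-C) * (B - 1)ᵀ := by
    rw [Matrix.transpose_sub, Matrix.transpose_one, Matrix.mul_sub, Matrix.neg_mul, hCB,
      Matrix.mul_one, sub_neg_eq_add, neg_add_eq_sub]
  have r2 : Module.finrank F ↥(LinearMap.range (Matrix.toLin' C - 1)) = (B - 1).rank := by
    rw [e2]
    show (C - 1).rank = (B - 1).rank
    rw [hC1, Matrix.rank_mul_eq_right_of_isUnit_det _ _ hCdet, Matrix.rank_transpose]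
  have k1 : Module.finrank F ↥(LinearMap.ker (Matrix.toLin' A - 1)) = a - (A - 1).rank := by
    have h := LinearMap.finrank_range_add_finrank_ker (Matrix.toLin' A - 1)
    rw [r1, Module.finrank_fin_fun] at h
    omega
  have k2 : Module.finrank F ↥(LinearMap.ker (Matrix.toLin' C - 1)) = b - (B - 1).rank := by
    have h := LinearMap.finrank_range_add_finrank_ker (Matrix.toLin' C - 1)
    rw [r2, Module.finrank_fin_fun] at h
    omega
  rw [r1, r2, k1, k2] at key
  exact key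

example (hL : Cfsg.Agent.H77.Tp.StIntwLin.{u}) : Cfsg.Agent.H77.Tp.StIntwMat.{u} := intwMat hL

end Cfsg.Agent.H27.Tp
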