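import Cfsg.Agent.H58.UqDefs
import Cfsg.Agent.H25.SpSyl

/-!
# UQ-MAXL and UQ-SYLEX (S2950 team project, helper58)

Every 2-local subgroup of a finite group lies in a maximal 2-local subgroup; a 2-subgroup of `N` lies in a
Sylow 2-subgroup of `N` (helper25's `H25/SpSyl.lean`).
-/

set_option autoImplicit false

namespace Cfsg.Agent.H27.Uq

open Cfsg Cfsg.Agent.H58.Uq

universe u

theorem maxL : StMaxL.{u} := by
  intro G _ _ N hN
  have hfin : {L : Subgroup G | IsTwoLocal L ∧ N ≤ L}.Finite := Set.toFinite _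
  obtain ⟨L, ⟨hL, hNL⟩, hmax⟩ :=
    Set.exists_max_image {L : Subgroup G | IsTwoLocal L ∧ N ≤ L} (fun L => Nat.card L) hfin
      ⟨N, hN, le_rfl⟩
  refine ⟨L, ⟨hL, fun N' hN' hLN' => ?_⟩, hNL⟩
  have hc : Nat.card N' ≤ Nat.card L := hmax N' ⟨hN', hNL.trans hLN'⟩
  exact (Subgroup.eq_of_le_of_card_ge hLN' hc).symm

theorem sylEx : StSylEx.{u} := Cfsg.Agent.H25.Sp66.syl

example : Cfsg.Agent.H58.Uq.StMaxL.{u} := maxL
example : Cfsg.Agent.H58.Uq.StSylEx.{u} := sylEx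

end Cfsg.Agent.H27.Uq
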