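import Mathlib

/-!
# `Z₂ × S₄`: decidable facts and generic lemmas (helper27, for S3222)
-/

set_option autoImplicit false
set_option linter.dupNamespace false

namespace Cfsg.Agent.H27.ZS

open Equiv

/-- `Z₂ × S₄`. -/
abbrev ZS := Multiplicative (ZMod 2) × Perm (Fin 4)

/-- the central involution -/
def tt : ZS := (Multiplicative.ofAdd 1, 1)
/-- the central involution of the dihedral Sylow subgroup of `S₄` -/
def zz : ZS := (1, Equiv.swap 0 2 * Equiv.swap 1 3)
/-- a four-cycle squaring to `zz` -/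
def rr : ZS := (1, Equiv.swap 0 1 * Equiv.swap 1 2 * Equiv.swap 2 3)
/-- a three-cycle -/
def q3 : ZS := (1, Equiv.swap 0 1 * Equiv.swap 1 2)
/-- another element of the normal four-group -/
def vv : ZS := (1, Equiv.swap 0 1 * Equiv.swap 2 3)
/-- a transposition -/
def c1 : ZS := (1, Equiv.swap 0 1)
/-- a transposition of the Sylow subgroup, possibly twisted by the central involution -/
def xa (a : Multiplicative (ZMod 2)) : ZS := (a, Equiv.swap 0 2)

/-- the membership predicate of the index-two subgroup `Q_a` of the Sylow subgroup -/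
def PQ (a : Multiplicative (ZMod 2)) (y : ZS) : Prop :=
  y * zz = zz * y ∧ ((y * vv = vv * y ∧ y.1 = 1) ∨ (y * vv ≠ vv * y ∧ y.1 = a))

instance (a : Multiplicative (ZMod 2)) : DecidablePred (PQ a) := fun y => by
  unfold PQ; infer_instance

set_option maxRecDepth 100000 in
theorem d_tt_central : ∀ y : ZS, y * tt = tt * y := by decide +kernel

set_option maxRecDepth 100000 in
theorem d_center : ∀ x : ZS, (∀ y : ZS, x * y = y * x) → x = 1 ∨ x = tt := by decide +kernel

set_option maxRecDepth 100000 in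
theorem d_sq : ∀ w : ZS, w * zz = zz * w → w * w = 1 ∨ w * w = zz := by decide +kernel

set_option maxRecDepth 100000 in
theorem d_comm : ∀ x y : ZS, x * zz = zz * x → y * zz = zz * y →
    x * y * x⁻¹ * y⁻¹ = 1 ∨ x * y * x⁻¹ * y⁻¹ = zz := by decide +kernel

set_option maxRecDepth 100000 in
theorem d_sqconj : ∀ w : ZS, (w * w) * (w * w) = 1 → w * w ≠ 1 →
    ∃ c : ZS, w * w = c * zz * c⁻¹ := by decide +kernel

/-- the involutions of the Sylow subgroup -/
def InvKind (y : ZS) : Prop :=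
  y = 1 ∨ y = tt ∨ (∃ c : ZS, y = c * zz * c⁻¹) ∨ (∃ c : ZS, y = c * (tt * zz) * c⁻¹) ∨
    (∃ c : ZS, y = c * xa 1 * c⁻¹) ∨ (∃ c : ZS, y = c * xa (Multiplicative.ofAdd 1) * c⁻¹)

instance : DecidablePred InvKind := fun y => by unfold InvKind; infer_instance

set_option maxRecDepth 100000 in
theorem d_inv : ∀ y : ZS, y * zz = zz * y → y * y = 1 → InvKind y := by decide +kernel

set_option maxRecDepth 100000 in
theorem d_no3 : ∀ y : ZS, y * zz = zz * y → y * y * y = 1 → y = 1 := by decide +kernel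

set_option maxRecDepth 100000 in
theorem d_pow4 : ∀ y : ZS, y * zz = zz * y → y ^ 4 = 1 := by decide +kernel

set_option maxRecDepth 100000 in
theorem d_rr : rr * rr = zz ∧ rr * (tt * zz) = (tt * zz) * rr ∧ rr * zz = zz * rr := by
  decide +kernel

set_option maxRecDepth 100000 in
theorem d_zz : zz * zz = 1 ∧ zz ≠ 1 ∧ tt * zz ≠ 1 ∧ (tt * zz) * (tt * zz) = 1 ∧ tt ≠ zz := by
  decide +kernel

set_option maxRecDepth 100000 in
theorem d_tt : tt * tt = 1 ∧ tt ≠ 1 := by decide +kernel

set_option maxRecDepth 100000 in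
theorem d_q3 : q3 ≠ 1 ∧ q3 * q3 * q3 = 1 ∧ q3 = (q3 * q3) * (q3 * q3) ∧ q3 ^ 3 = 1 := by
  decide +kernel

set_option maxRecDepth 100000 in
theorem d_card16 : Nat.card {y : ZS // y * zz = zz * y} = 16 := by
  rw [Nat.card_eq_fintype_card, Fintype.card_subtype]
  decide +kernel

set_option maxRecDepth 100000 in
theorem d_PQ_mul : ∀ (a : Multiplicative (ZMod 2)) (y y' : ZS), PQ a y → PQ a y' →
    PQ a (y * y') := by decide +kernel

set_option maxRecDepth 100000 in
theorem d_PQ_one : ∀ a : Multiplicative (ZMod 2), PQ a 1 := by decide +kernel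

set_option maxRecDepth 100000 in
theorem d_PQ_inv : ∀ (a : Multiplicative (ZMod 2)) (y : ZS), PQ a y → PQ a y⁻¹ := by
  decide +kernel

set_option maxRecDepth 100000 in
theorem d_PQ_card : ∀ a : Multiplicative (ZMod 2),
    (Finset.univ.filter (fun y : ZS => PQ a y)).card = 8 := by decide +kernel

/-- the involutions of the index-two subgroup `Q_a` -/
def QKind (a : Multiplicative (ZMod 2)) (y : ZS) : Prop :=
  y = 1 ∨ (∃ c : ZS, y = c * zz * c⁻¹) ∨ (∃ c : ZS, y = c * xa a * c⁻¹)

instance (a : Multiplicative (ZMod 2)) : DecidablePred (QKind a) := fun y => by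
  unfold QKind; infer_instance

set_option maxRecDepth 100000 in
theorem d3 : ∀ (a : Multiplicative (ZMod 2)) (y : ZS), PQ a y → y * y = 1 → QKind a y := by
  decide +kernel

set_option maxRecDepth 100000 in
theorem d_Xcard : ∀ a : Multiplicative (ZMod 2),
    (insert tt (Finset.univ.image (fun c : ZS => c * xa a * c⁻¹))).card = 7 := by
  decide +kernel

set_option maxRecDepth 100000 in
theorem d_noncomm : ∀ a : Multiplicative (ZMod 2),
    (c1 * xa a * c1⁻¹) * xa a ≠ xa a * (c1 * xa a * c1⁻¹) := by decide +kernel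

set_option maxRecDepth 100000 in
theorem d_V : (q3 * q3) * zz * (q3 * q3)⁻¹ = zz * (q3 * zz * q3⁻¹) := by decide +kernel

set_option maxRecDepth 100000 in
theorem d_w : ∀ w : ZS, (w = rr ∨ w = tt * rr) → w * w = zz ∧ w * zz = zz * w ∧
    (q3 * zz * q3⁻¹) * w * (q3 * zz * q3⁻¹)⁻¹ = w⁻¹ ∧
    (q3 * zz * q3⁻¹) * (q3 * zz * q3⁻¹) = 1 ∧ (q3 * zz * q3⁻¹) * zz = zz * (q3 * zz * q3⁻¹) ∧
    w ^ 2 ≠ 1 ∧ w ^ 4 = 1 := by decide +kernel

set_option maxRecDepth 100000 in
theorem d_xa_ne : ∀ a : Multiplicative (ZMod 2), xa a ≠ tt := by decide +kernel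

theorem card_ZS : Nat.card ZS = 48 := by
  rw [Nat.card_prod, Nat.card_perm]
  simp [Nat.factorial]

/-! ### Generic lemmas -/

/-- A normal subgroup of odd order on which the three involutions of a four-group all act without
fixed points is trivial. -/
theorem no_odd_normal {H : Type*} [Group H] [Finite H] (N : Subgroup H) [hN : N.Normal]
    (hodd : Odd (Nat.card N)) (z a b : H) (hz : z * z = 1)
    (hfix : ∀ n ∈ N, z * n = n * z → n = 1)
    (hab : b * z * b⁻¹ = z * (a * z * a⁻¹)) : N = ⊥ := by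
  have hzinv : z⁻¹ = z := inv_eq_of_mul_eq_one_left hz
  have hinv : ∀ n ∈ N, z * n * z⁻¹ = n⁻¹ := by
    intro n hn
    let φ : N →* N := (MulAut.conjNormal z : N ≃* N).toMonoidHom
    have hφ : ∀ m : N, ((φ m : N) : H) = z * (m : H) * z⁻¹ := fun m => rfl
    have hfpf : MonoidHom.FixedPointFree φ := by
      intro m hm
      have h1 : z * (m : H) * z⁻¹ = (m : H) := by rw [← hφ, hm]
      have h2 : z * (m : H) = (m : H) * z := by
        calc z * (m : H) = z * (m : H) * z⁻¹ * z := by group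
          _ = (m : H) * z := by rw [h1]
      exact Subtype.ext (hfix m m.2 h2)
    have hinvol : Function.Involutive φ := by
      intro m
      apply Subtype.ext
      rw [hφ, hφ, hzinv]
      calc z * (z * (m : H) * z) * z = (z * z) * (m : H) * (z * z) := by group
        _ = (m : H) := by rw [hz]; group
    have h3 := congrFun (hfpf.coe_eq_inv_of_involutive hinvol) ⟨n, hn⟩
    have h4 := congrArg (Subtype.val) h3
    rw [hφ] at h4
    exact h4
  have hconj : ∀ c : H, ∀ n ∈ N, (c * z * c⁻¹) * n * (c * z * c⁻¹)⁻¹ = n⁻¹ := by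
    intro c n hn
    have h1 : c⁻¹ * n * c ∈ N := by
      have := hN.conj_mem n hn c⁻¹
      simpa using this
    have h2 := hinv _ h1
    calc (c * z * c⁻¹) * n * (c * z * c⁻¹)⁻¹ = c * (z * (c⁻¹ * n * c) * z⁻¹) * c⁻¹ := by group
      _ = c * (c⁻¹ * n * c)⁻¹ * c⁻¹ := by rw [h2]
      _ = n⁻¹ := by group
  rw [Subgroup.eq_bot_iff_forall]
  intro n hn
  have h1 := hconj b n hn
  rw [hab] at h1
  have h2 := hconj a n hn
  have h3 : n⁻¹ ∈ N := N.inv_mem hn
  have h4 := hinv _ h3
  have h5 : z * (a * z * a⁻¹) * n * (z * (a * z * a⁻¹))⁻¹ = n := by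
    calc z * (a * z * a⁻¹) * n * (z * (a * z * a⁻¹))⁻¹
        = z * ((a * z * a⁻¹) * n * (a * z * a⁻¹)⁻¹) * z⁻¹ := by group
      _ = z * n⁻¹ * z⁻¹ := by rw [h2]
      _ = n := by rw [h4, inv_inv]
  have h6 : n = n⁻¹ := h5.symm.trans h1
  have h7 : n ^ 2 = 1 := by
    rw [pow_two]
    nth_rewrite 2 [h6]
    exact mul_inv_cancel n
  have h8 : n ^ Nat.card N = 1 := by
    have h := pow_card_eq_one' (G := N) (x := ⟨n, hn⟩)
    have h' : n ^ Nat.card N = (((⟨n, hn⟩ : N) ^ Nat.card N : N) : H) :=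
      (Subgroup.coe_pow N ⟨n, hn⟩ _).symm
    rw [h', h]
    rfl
  have h9 : n ^ (Nat.gcd 2 (Nat.card N)) = 1 := pow_gcd_eq_one.mpr ⟨h7, h8⟩
  have h10 : Nat.gcd 2 (Nat.card N) = 1 := Nat.coprime_two_left.mpr hodd
  rw [h10, pow_one] at h9
  exact h9

/-- A subgroup not contained in a normal subgroup of index two meets it in half. -/
theorem card_eq_two_mul_inf {G : Type*} [Group G] [Finite G] (M : Subgroup G) [M.Normal]
    (hMi : M.index = 2) (K : Subgroup G) (hK : ¬ K ≤ M) :
    Nat.card K = 2 * Nat.card (M ⊓ K : Subgroup G) := by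
  have h1 : M.relIndex K ∣ 2 := hMi ▸ Subgroup.relIndex_dvd_index_of_normal M K
  have h2 : M.relIndex K ≠ 1 := fun h => hK (Subgroup.relIndex_eq_one.mp h)
  have h3 : M.relIndex K = 2 := by
    rcases (Nat.dvd_prime Nat.prime_two).mp h1 with h | h
    · exact absurd h h2
    · exact h
  have h4 : Nat.card (M.subgroupOf K) * (M.subgroupOf K).index = Nat.card K :=
    Subgroup.card_mul_index _
  have h5 : Nat.card (M.subgroupOf K) = Nat.card (M ⊓ K : Subgroup G) := by
    rw [← Subgroup.inf_subgroupOf_right]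
    exact Nat.card_congr (Subgroup.subgroupOfEquivOfLe inf_le_right).toEquiv
  have h6 : (M.subgroupOf K).index = 2 := h3
  rw [← h4, h5, h6, mul_comm]

end Cfsg.Agent.H27.ZS
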