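import Mathlib
import Cfsg.Agent.H27.D8B
import Cfsg.Agent.H27.ZS1

/-!
# Extending `A₆` by an involution centralizing an element of order three (helper27, for S3222)

If `M ≅ A₆` is normal of index two in `G`, `G` has trivial centre, and some element outside `M`
centralizes an element of order three of `M`, then `G ≅ S₆`.
-/

set_option autoImplicit false
set_option linter.dupNamespace false

namespace Cfsg.Agent.H27.ZS

open Equiv Equiv.Perm

/-- `A₆` -/
abbrev A6 := alternatingGroup (Fin 6)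

theorem card_A6 : Nat.card A6 = 360 := by
  rw [nat_card_alternatingGroup, Nat.card_eq_fintype_card, Fintype.card_fin]
  decide

theorem A6_trans (i j : Fin 6) : ∃ σ : A6, (σ : Perm (Fin 6)) i = j := by
  by_cases hij : i = j
  · exact ⟨1, by simp [hij]⟩
  · obtain ⟨k, hki, hkj⟩ : ∃ k : Fin 6, k ≠ i ∧ k ≠ j := by
      revert i j; decide
    refine ⟨⟨swap i j * swap j k, ?_⟩, ?_⟩
    · rw [mem_alternatingGroup, Perm.sign_mul, sign_swap hij, sign_swap (Ne.symm hkj)]
      decide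
    · show (swap i j * swap j k) i = j
      rw [Perm.mul_apply, swap_apply_of_ne_of_ne hij (Ne.symm hki), swap_apply_left]

theorem A6_move (k : Fin 6) (hk : k ≠ 0) :
    ∃ σ : A6, (σ : Perm (Fin 6)) 0 = 0 ∧ (σ : Perm (Fin 6)) k ≠ k := by
  obtain ⟨k', k'', h1, h2, h3, h4, h5⟩ :
      ∃ k' k'' : Fin 6, k' ≠ 0 ∧ k'' ≠ 0 ∧ k' ≠ k ∧ k'' ≠ k ∧ k' ≠ k'' := by
    revert k; decide
  refine ⟨⟨swap k k' * swap k' k'', ?_⟩, ?_, ?_⟩
  · rw [mem_alternatingGroup, Perm.sign_mul, sign_swap (Ne.symm h3), sign_swap h5]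
    decide
  · show (swap k k' * swap k' k'') 0 = 0
    rw [Perm.mul_apply, swap_apply_of_ne_of_ne (Ne.symm h1) (Ne.symm h2),
      swap_apply_of_ne_of_ne (Ne.symm hk) (Ne.symm h1)]
  · show (swap k k' * swap k' k'') k ≠ k
    rw [Perm.mul_apply, swap_apply_of_ne_of_ne (Ne.symm h3) (Ne.symm h4), swap_apply_left]
    exact h3

instance : MulAction.IsPretransitive A6 (Fin 6) :=
  ⟨fun i j => by obtain ⟨σ, hσ⟩ := A6_trans i j; exact ⟨σ, hσ⟩⟩

theorem card_S0 : Nat.card (MulAction.stabilizer A6 (0 : Fin 6)) = 60 := by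
  have h1 : (MulAction.stabilizer A6 (0 : Fin 6)).index = 6 := by
    rw [MulAction.index_stabilizer_of_transitive, Nat.card_eq_fintype_card, Fintype.card_fin]
  have h2 := Subgroup.card_mul_index (MulAction.stabilizer A6 (0 : Fin 6))
  rw [h1, card_A6] at h2
  omega

open Finset in
theorem card_three : #{g : A6 | (g : Perm (Fin 6)).cycleType = {3}} = 40 := by
  rw [AlternatingGroup.card_of_cycleType]
  decide

open Finset in
theorem card_three_three : #{g : A6 | (g : Perm (Fin 6)).cycleType = {3, 3}} = 40 := by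
  rw [AlternatingGroup.card_of_cycleType]
  decide

theorem order3_cycleType (σ : Perm (Fin 6)) (h : orderOf σ = 3) :
    σ.cycleType = {3} ∨ σ.cycleType = {3, 3} := by
  obtain ⟨n, hn⟩ := cycleType_prime_order (σ := σ) (by rw [h]; norm_num)
  rw [h] at hn
  have h1 := σ.sum_cycleType_le
  rw [hn, Multiset.sum_replicate, Fintype.card_fin] at h1
  have h2 : n = 0 ∨ n = 1 := by
    simp only [smul_eq_mul] at h1
    omega
  rcases h2 with rfl | rfl
  · left; rw [hn]; rfl
  · right; rw [hn]; rfl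

/-- An automorphism of `A₆` fixing an element of order three preserves three-cycles. -/
theorem three_cycle_pres (β : A6 ≃* A6) (q₀ : A6) (hq₀ : orderOf q₀ = 3) (hβ : β q₀ = q₀)
    (σ : A6) (hσ : (σ : Perm (Fin 6)).cycleType = {3}) :
    ((β σ : A6) : Perm (Fin 6)).cycleType = {3} := by
  classical
  by_contra hx'
  have h1 : ∀ y : A6, (y : Perm (Fin 6)).cycleType = {3} →
      ¬ ((β y : A6) : Perm (Fin 6)).cycleType = {3} := by
    intro y hy hβy
    obtain ⟨m, hm⟩ := isConj_iff.mp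
      (alternatingGroup.isThreeCycle_isConj (α := Fin 6)
        (by rw [Nat.card_eq_fintype_card, Fintype.card_fin]; norm_num) (σ := y) (τ := σ) hy hσ)
    apply hx'
    rw [← hm, map_mul, map_mul, map_inv]
    show ((β m : Perm (Fin 6)) * (β y : Perm (Fin 6)) * (β m : Perm (Fin 6))⁻¹).cycleType = {3}
    rw [cycleType_conj]
    exact hβy
  have h2 : ∀ y : A6, (y : Perm (Fin 6)).cycleType = {3} →
      ((β y : A6) : Perm (Fin 6)).cycleType = {3, 3} := by
    intro y hy
    have ho : orderOf ((β y : A6) : Perm (Fin 6)) = 3 := by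
      rw [Subgroup.orderOf_coe, MulEquiv.orderOf_eq, ← Subgroup.orderOf_coe]
      exact IsThreeCycle.orderOf hy
    rcases order3_cycleType _ ho with h | h
    · exact absurd h (h1 y hy)
    · exact h
  have h3 : ∀ w : A6, (w : Perm (Fin 6)).cycleType = {3, 3} →
      ∃ y : A6, (y : Perm (Fin 6)).cycleType = {3} ∧ β y = w := by
    intro w hw
    have hsurj := Finset.surjOn_of_injOn_of_card_le
      (s := Finset.univ.filter (fun g : A6 => (g : Perm (Fin 6)).cycleType = {3}))
      (t := Finset.univ.filter (fun g : A6 => (g : Perm (Fin 6)).cycleType = {3, 3}))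
      (fun y => β y)
      (by
        intro y hy
        simp only [Finset.coe_filter, Finset.mem_univ, true_and, Set.mem_ofPred_eq] at hy ⊢
        exact h2 y hy)
      (fun a _ b _ hab => β.injective hab)
      (by rw [card_three, card_three_three])
    have hw' : w ∈ ((Finset.univ.filter (fun g : A6 => (g : Perm (Fin 6)).cycleType = {3, 3}) :
        Finset A6) : Set A6) := by
      simp only [Finset.coe_filter, Finset.mem_univ, true_and, Set.mem_ofPred_eq]
      exact hw
    obtain ⟨y, hy, hyw⟩ := hsurj hw'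
    simp only [Finset.coe_filter, Finset.mem_univ, true_and, Set.mem_ofPred_eq] at hy
    exact ⟨y, hy, hyw⟩
  have hq : orderOf (q₀ : Perm (Fin 6)) = 3 := by rw [Subgroup.orderOf_coe]; exact hq₀
  rcases order3_cycleType _ hq with h | h
  · exact h1 q₀ h (by rw [hβ]; exact h)
  · obtain ⟨y, hy, hyq⟩ := h3 q₀ h
    have hyq' : y = q₀ := β.injective (hyq.trans hβ.symm)
    rw [hyq'] at hy
    rw [hy] at h
    exact absurd h (by decide)

/-- An automorphism of `A₆` fixing an element of order three maps the stabilizer of the point `0`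
into a point stabilizer. -/
theorem exists_fixed_point (β : A6 ≃* A6) (q₀ : A6) (hq₀ : orderOf q₀ = 3) (hβ : β q₀ = q₀) :
    ∃ i : Fin 6, ∀ σ : A6, (σ : Perm (Fin 6)) 0 = 0 → ((β σ : A6) : Perm (Fin 6)) i = i := by
  classical
  -- a five-cycle and a three-cycle fixing `0`
  have hp5mem : swap (1 : Fin 6) 2 * swap 2 3 * swap 3 4 * swap 4 5 ∈ alternatingGroup (Fin 6) := by
    rw [mem_alternatingGroup]
    decide
  let p5 : A6 := ⟨swap (1 : Fin 6) 2 * swap 2 3 * swap 3 4 * swap 4 5, hp5mem⟩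
  have hp50 : (p5 : Perm (Fin 6)) 0 = 0 := by
    show (swap (1 : Fin 6) 2 * swap 2 3 * swap 3 4 * swap 4 5 : Perm (Fin 6)) 0 = 0
    decide
  have hp5 : orderOf p5 = 5 := by
    have : Fact (Nat.Prime 5) := ⟨by norm_num⟩
    rw [← Subgroup.orderOf_coe]
    apply orderOf_eq_prime
    · show (swap (1 : Fin 6) 2 * swap 2 3 * swap 3 4 * swap 4 5) ^ 5 = 1
      decide
    · show swap (1 : Fin 6) 2 * swap 2 3 * swap 3 4 * swap 4 5 ≠ 1
      decide
  have hc3 : IsThreeCycle (swap (1 : Fin 6) 2 * swap 1 3) :=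
    isThreeCycle_swap_mul_swap_same (by decide) (by decide) (by decide)
  let c3 : A6 := ⟨swap (1 : Fin 6) 2 * swap 1 3, hc3.mem_alternatingGroup⟩
  have hc30 : (c3 : Perm (Fin 6)) 0 = 0 := by
    show (swap (1 : Fin 6) 2 * swap 1 3 : Perm (Fin 6)) 0 = 0
    decide
  have hc3' : (c3 : Perm (Fin 6)).cycleType = {3} := hc3
  have hd : orderOf ((β p5 : A6) : Perm (Fin 6)) = 5 := by
    rw [Subgroup.orderOf_coe, MulEquiv.orderOf_eq]
    exact hp5
  have hdcyc : IsCycle ((β p5 : A6) : Perm (Fin 6)) :=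
    isCycle_of_prime_order' (by rw [hd]; norm_num) (by rw [hd, Fintype.card_fin]; norm_num)
  have hsupp : ((β p5 : A6) : Perm (Fin 6)).support.card = 5 := by
    rw [← hdcyc.orderOf, hd]
  obtain ⟨i, hi⟩ : ∃ i, i ∉ ((β p5 : A6) : Perm (Fin 6)).support := by
    by_contra hcon
    push Not at hcon
    have h1 : ((β p5 : A6) : Perm (Fin 6)).support = Finset.univ := Finset.eq_univ_iff_forall.mpr hcon
    rw [h1, Finset.card_univ, Fintype.card_fin] at hsupp
    omega
  have hall : ∀ j, j ≠ i → ((β p5 : A6) : Perm (Fin 6)) j ≠ j := by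
    intro j hj
    have hsub : ((β p5 : A6) : Perm (Fin 6)).support ⊆ Finset.univ.erase i :=
      fun x hx => Finset.mem_erase.mpr ⟨fun h => hi (h ▸ hx), Finset.mem_univ _⟩
    have heq : ((β p5 : A6) : Perm (Fin 6)).support = Finset.univ.erase i :=
      Finset.eq_of_subset_of_card_le hsub (by
        rw [Finset.card_erase_of_mem (Finset.mem_univ _), hsupp, Finset.card_univ,
          Fintype.card_fin])
    have h1 : j ∈ ((β p5 : A6) : Perm (Fin 6)).support := by
      rw [heq]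
      exact Finset.mem_erase.mpr ⟨hj, Finset.mem_univ _⟩
    exact mem_support.mp h1
  refine ⟨i, ?_⟩
  by_contra hcon
  push Not at hcon
  obtain ⟨σ₁, hσ₁0, hσ₁i⟩ := hcon
  have hS0 : ∀ σ : A6, σ ∈ MulAction.stabilizer A6 (0 : Fin 6) ↔ (σ : Perm (Fin 6)) 0 = 0 :=
    fun σ => MulAction.mem_stabilizer_iff
  let B : Subgroup A6 := (MulAction.stabilizer A6 (0 : Fin 6)).map β.toMonoidHom
  have hBcard : Nat.card B = 60 := by
    rw [Subgroup.card_map_of_injective β.injective]
    exact card_S0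
  have hmemB : ∀ σ : A6, (σ : Perm (Fin 6)) 0 = 0 → β σ ∈ B :=
    fun σ hσ => ⟨σ, (hS0 σ).mpr hσ, rfl⟩
  have hd₁3 : ((β c3 : A6) : Perm (Fin 6)).cycleType = {3} :=
    three_cycle_pres β q₀ hq₀ hβ c3 hc3'
  obtain ⟨p, hp⟩ : ∃ p, ((β c3 : A6) : Perm (Fin 6)) p = p := by
    by_contra hcon
    push Not at hcon
    have h1 : ((β c3 : A6) : Perm (Fin 6)).support = Finset.univ :=
      Finset.eq_univ_iff_forall.mpr (fun x => mem_support.mpr (hcon x))
    have h2 : ((β c3 : A6) : Perm (Fin 6)).support.card = 3 := IsThreeCycle.card_support hd₁3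
    rw [h1, Finset.card_univ, Fintype.card_fin] at h2
    omega
  -- `B` is transitive
  have hreach : ∀ v : Fin 6, ∃ b : A6, b ∈ B ∧ (b : Perm (Fin 6)) i = v := by
    intro v
    by_cases hv : v = i
    · exact ⟨1, B.one_mem, by rw [hv]; rfl⟩
    · obtain ⟨n, hn⟩ := hdcyc.exists_pow_eq (hall _ hσ₁i) (hall v hv)
      refine ⟨β p5 ^ n * β σ₁, B.mul_mem (B.pow_mem (hmemB p5 hp50) n) (hmemB σ₁ hσ₁0), ?_⟩
      show (((β p5 : A6) : Perm (Fin 6)) ^ n * ((β σ₁ : A6) : Perm (Fin 6))) i = v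
      rw [Perm.mul_apply]
      exact hn
  have htrans : ∀ u v : Fin 6, ∃ b : B, ((b : A6) : Perm (Fin 6)) u = v := by
    intro u v
    obtain ⟨bu, hbu, hbu'⟩ := hreach u
    obtain ⟨bv, hbv, hbv'⟩ := hreach v
    refine ⟨⟨bv * bu⁻¹, B.mul_mem hbv (B.inv_mem hbu)⟩, ?_⟩
    show ((bv : Perm (Fin 6)) * (bu : Perm (Fin 6))⁻¹) u = v
    rw [Perm.mul_apply, Perm.inv_eq_iff_eq.mpr hbu'.symm]
    exact hbv'
  have horb : MulAction.orbit B p = Set.univ := by
    ext v
    simp only [Set.mem_univ, iff_true]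
    obtain ⟨b, hb⟩ := htrans p v
    exact ⟨b, hb⟩
  have hidx : (MulAction.stabilizer B p).index = 6 := by
    rw [MulAction.index_stabilizer, horb, Set.ncard_univ, Nat.card_eq_fintype_card,
      Fintype.card_fin]
  have hmul := Subgroup.card_mul_index (MulAction.stabilizer B p)
  rw [hidx, hBcard] at hmul
  let e₁ : MulAction.stabilizer B p := ⟨⟨β c3, hmemB c3 hc30⟩, hp⟩
  have ho : orderOf e₁ = 3 := by
    rw [← Subgroup.orderOf_coe, ← Subgroup.orderOf_coe, ← Subgroup.orderOf_coe]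
    exact IsThreeCycle.orderOf hd₁3
  have hdvd : 3 ∣ Nat.card (MulAction.stabilizer B p) := ho ▸ orderOf_dvd_natCard e₁
  omega

/-- **`A₆` case.** If `M ≅ A₆` is normal of index two in `G`, `G` has trivial centre, and an
element `t ∉ M` centralizes an element of order three of `M`, then `G ≅ S₆`. -/
theorem altSix_case {G : Type*} [Group G] [Finite G] (M : Subgroup G) [hMn : M.Normal]
    (hMi : M.index = 2) (f : M ≃* A6) (t : G) (htM : t ∉ M) (q : G) (hqM : q ∈ M)
    (hq3 : orderOf q = 3) (hqt : q * t = t * q)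
    (hcen : ∀ n : G, (∀ g : G, g * n = n * g) → n = 1) :
    Nonempty (G ≃* Perm (Fin 6)) := by
  classical
  let α : M ≃* M := MulAut.conjNormal t
  have hα : ∀ m : M, ((α m : M) : G) = t * (m : G) * t⁻¹ := fun m => rfl
  let β : A6 ≃* A6 := f.symm.trans (α.trans f)
  have hβ : ∀ σ : A6, β σ = f (α (f.symm σ)) := fun σ => rfl
  let q₀ : A6 := f ⟨q, hqM⟩
  have hq₀ : orderOf q₀ = 3 := by
    rw [MulEquiv.orderOf_eq, ← Subgroup.orderOf_coe]
    exact hq3
  have hβq : β q₀ = q₀ := by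
    rw [hβ]
    show f (α (f.symm (f ⟨q, hqM⟩))) = f ⟨q, hqM⟩
    rw [f.symm_apply_apply]
    congr 1
    apply Subtype.ext
    rw [hα]
    show t * q * t⁻¹ = q
    rw [← hqt]
    group
  obtain ⟨i, hi⟩ := exists_fixed_point β q₀ hq₀ hβq
  obtain ⟨σ₀, hσ₀⟩ := A6_trans 0 i
  let j : A6 →* G := M.subtype.comp f.symm.toMonoidHom
  have hj : Function.Injective j := (Subgroup.subtype_injective M).comp f.symm.injective
  have hjM : ∀ σ, j σ ∈ M := fun σ => (f.symm σ).2
  have hjf : ∀ m : M, j (f m) = (m : G) := by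
    intro m
    show ((f.symm (f m) : M) : G) = m
    rw [f.symm_apply_apply]
  have hjt : ∀ σ : A6, t * j σ * t⁻¹ = j (β σ) := by
    intro σ
    rw [hβ, hjf, hα]
    rfl
  have hS0 : ∀ σ : A6, σ ∈ MulAction.stabilizer A6 (0 : Fin 6) ↔ (σ : Perm (Fin 6)) 0 = 0 :=
    fun σ => MulAction.mem_stabilizer_iff
  let A : Subgroup G := (MulAction.stabilizer A6 (0 : Fin 6)).map j
  have hAcard : Nat.card A = 60 := by
    rw [Subgroup.card_map_of_injective hj]
    exact card_S0
  have hAM : A ≤ M := by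
    rintro _ ⟨σ, -, rfl⟩
    exact hjM σ
  have hg₁ : (j σ₀)⁻¹ * t ∈ Subgroup.normalizer (A : Set G) := by
    apply Cfsg.Agent.H27.D8.mem_normalizer_of_conj_mem
    rintro _ ⟨σ, hσ, rfl⟩
    refine ⟨σ₀⁻¹ * β σ * σ₀, ?_, ?_⟩
    · rw [SetLike.mem_coe, hS0] at hσ
      rw [SetLike.mem_coe, hS0]
      have h1 := hi σ hσ
      show ((σ₀ : Perm (Fin 6))⁻¹ * ((β σ : A6) : Perm (Fin 6)) * (σ₀ : Perm (Fin 6))) 0 = 0
      rw [Perm.mul_apply, Perm.mul_apply, hσ₀, h1]
      exact Perm.inv_eq_iff_eq.mpr hσ₀.symm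
    · rw [map_mul, map_mul, map_inv, ← hjt]
      group
  have hg₁M : (j σ₀)⁻¹ * t ∉ M := by
    intro h
    apply htM
    have h1 : t = j σ₀ * ((j σ₀)⁻¹ * t) := by group
    rw [h1]
    exact M.mul_mem (hjM σ₀) h
  have hHM : ¬ Subgroup.normalizer (A : Set G) ≤ M := fun h => hg₁M (h hg₁)
  have hinf : M ⊓ Subgroup.normalizer (A : Set G) = A := by
    apply le_antisymm
    · rintro g ⟨hgM, hgH⟩
      have hgτ : j (f ⟨g, hgM⟩) = g := hjf ⟨g, hgM⟩
      have hfix : ∀ σ : A6, (σ : Perm (Fin 6)) 0 = 0 →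
          (σ : Perm (Fin 6)) (((f ⟨g, hgM⟩ : A6) : Perm (Fin 6))⁻¹ 0) =
            ((f ⟨g, hgM⟩ : A6) : Perm (Fin 6))⁻¹ 0 := by
        intro σ hσ
        have h1 : j σ ∈ A := ⟨σ, (hS0 σ).mpr hσ, rfl⟩
        have h2 : g * j σ * g⁻¹ ∈ A := (Subgroup.mem_normalizer_iff.mp hgH (j σ)).mp h1
        obtain ⟨ρ, hρ, hρe⟩ := h2
        rw [← hgτ, ← map_inv, ← map_mul, ← map_mul] at hρe
        have h3 : ρ = f ⟨g, hgM⟩ * σ * (f ⟨g, hgM⟩)⁻¹ := hj hρe
        rw [SetLike.mem_coe, hS0, h3] at hρ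
        have h4 : ((f ⟨g, hgM⟩ : A6) : Perm (Fin 6)) ((σ : Perm (Fin 6))
            (((f ⟨g, hgM⟩ : A6) : Perm (Fin 6))⁻¹ 0)) = 0 := hρ
        exact (Perm.inv_eq_iff_eq.mpr h4.symm).symm
      have hτ0 : ((f ⟨g, hgM⟩ : A6) : Perm (Fin 6))⁻¹ 0 = 0 := by
        by_contra hne
        obtain ⟨σ, hσ0, hσk⟩ := A6_move _ hne
        exact hσk (hfix σ hσ0)
      have hτ0' : ((f ⟨g, hgM⟩ : A6) : Perm (Fin 6)) 0 = 0 :=
        (Perm.inv_eq_iff_eq.mp hτ0).symm
      exact ⟨f ⟨g, hgM⟩, (hS0 _).mpr hτ0', hgτ⟩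
    · exact le_inf hAM Subgroup.le_normalizer
  have hHcard : Nat.card (Subgroup.normalizer (A : Set G)) = 120 := by
    rw [card_eq_two_mul_inf M hMi _ hHM, hinf, hAcard]
  have hMcard : Nat.card M = 360 := by
    rw [Nat.card_congr f.toEquiv]
    exact card_A6
  have hGcard : Nat.card G = 720 := by
    rw [← Subgroup.card_mul_index M, hMi, hMcard]
  have hidx : (Subgroup.normalizer (A : Set G)).index = 6 := by
    have h1 := Subgroup.card_mul_index (Subgroup.normalizer (A : Set G))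
    rw [hHcard, hGcard] at h1
    omega
  have hcoreM : ∀ n ∈ (Subgroup.normalizer (A : Set G)).normalCore, n ∈ M → n = 1 := by
    intro n hn hnM
    have hnν : j (f ⟨n, hnM⟩) = n := hjf ⟨n, hnM⟩
    have hν : ∀ k : Fin 6, ((f ⟨n, hnM⟩ : A6) : Perm (Fin 6)) k = k := by
      intro k
      obtain ⟨σ, hσ⟩ := A6_trans 0 k
      have h1 : (j σ)⁻¹ * n * (j σ) ∈ (Subgroup.normalizer (A : Set G)).normalCore := by
        have h := (inferInstance : (Subgroup.normalizer (A : Set G)).normalCore.Normal).conj_mem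
          n hn (j σ)⁻¹
        simpa using h
      have h2 : (j σ)⁻¹ * n * (j σ) ∈ M ⊓ Subgroup.normalizer (A : Set G) :=
        ⟨M.mul_mem (M.mul_mem (M.inv_mem (hjM σ)) hnM) (hjM σ), Subgroup.normalCore_le _ h1⟩
      rw [hinf] at h2
      obtain ⟨ρ, hρ, hρe⟩ := h2
      rw [← hnν, ← map_inv, ← map_mul, ← map_mul] at hρe
      have h3 : ρ = σ⁻¹ * f ⟨n, hnM⟩ * σ := hj hρe
      rw [SetLike.mem_coe, hS0, h3] at hρ
      have h4 : (σ : Perm (Fin 6))⁻¹ (((f ⟨n, hnM⟩ : A6) : Perm (Fin 6))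
          ((σ : Perm (Fin 6)) 0)) = 0 := hρ
      rw [hσ] at h4
      have h5 := Perm.inv_eq_iff_eq.mp h4
      rw [h5, hσ]
    have hν1 : f ⟨n, hnM⟩ = 1 := by
      apply Subtype.ext
      apply Perm.ext
      intro k
      exact hν k
    rw [← hnν, hν1, map_one]
  have hcore : (Subgroup.normalizer (A : Set G)).normalCore = ⊥ := by
    rw [Subgroup.eq_bot_iff_forall]
    intro n hn
    by_cases hnM : n ∈ M
    · exact hcoreM n hn hnM
    · apply hcen
      have hcM : ∀ m ∈ M, m * n = n * m := by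
        intro m hm
        have hN : (Subgroup.normalizer (A : Set G)).normalCore.Normal := inferInstance
        have h1 : n * m * n⁻¹ * m⁻¹ ∈ (Subgroup.normalizer (A : Set G)).normalCore := by
          have h2 : m * n⁻¹ * m⁻¹ ∈ (Subgroup.normalizer (A : Set G)).normalCore :=
            hN.conj_mem _ (Subgroup.inv_mem _ hn) m
          have h3 := Subgroup.mul_mem _ hn h2
          have h4 : n * m * n⁻¹ * m⁻¹ = n * (m * n⁻¹ * m⁻¹) := by group
          rw [h4]
          exact h3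
        have h2 : n * m * n⁻¹ * m⁻¹ ∈ M := M.mul_mem (hMn.conj_mem m hm n) (M.inv_mem hm)
        have h3 := hcoreM _ h1 h2
        have h4 : n * m = m * n := by
          calc n * m = (n * m * n⁻¹ * m⁻¹) * (m * n) := by group
            _ = m * n := by rw [h3, one_mul]
        exact h4.symm
      intro g
      by_cases hg : g ∈ M
      · exact hcM g hg
      · have h1 : n⁻¹ * g ∈ M := by
          rw [Subgroup.mul_mem_iff_of_index_two hMi]
          constructor
          · intro h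
            exact absurd (by simpa using h) hnM
          · intro h
            exact absurd h hg
        have h2 := hcM _ h1
        calc g * n = n * ((n⁻¹ * g) * n) := by group
          _ = n * (n * (n⁻¹ * g)) := by rw [h2]
          _ = n * g := by group
  exact Cfsg.Agent.H27.D8.equiv_perm_of_index _ 6 hcore hidx (by rw [hGcard]; rfl)

end Cfsg.Agent.H27.ZS
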