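import Mathlib
import Cfsg.Agent.S3035
import Cfsg.Agent.H27.ZS2
import Cfsg.Agent.H76.PermSolvable
import Cfsg.Agent.H98.TransvCent
import Cfsg.Agent.Helper55.ClassProd
import Cfsg.Agent.H60.ZD8Fusion
import Cfsg.Agent.H3.Dihedral

/-!
# Groups with a 2-central involution whose centralizer is `Z₂ × S₄` (helper27, for S3222)

`ι : Z₂ × S₄ →* G` is an embedding onto the centralizer of `t = ι tt`, and `z = ι zz` has
centralizer the Sylow 2-subgroup `ι (C(zz))`.  Then `G = C(t)` or `G ≅ S₆`.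
-/

set_option autoImplicit false
set_option linter.dupNamespace false

namespace Cfsg.Agent.H27.ZS

open Equiv

theorem card_Ss : Nat.card (Subgroup.centralizer ({zz} : Set ZS)) = 16 := by
  rw [Nat.card_congr (Equiv.subtypeEquivRight
    (fun y => Cfsg.Agent.H27.D8.mem_centralizer_iff_comm zz (x := y)))]
  exact d_card16

/-- the index-two subgroup `Q_a` of the Sylow subgroup -/
def Qs (a : Multiplicative (ZMod 2)) : Subgroup ZS where
  carrier := {y | PQ a y}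
  mul_mem' := fun hy hy' => d_PQ_mul a _ _ hy hy'
  one_mem' := d_PQ_one a
  inv_mem' := fun hy => d_PQ_inv a _ hy

theorem card_Qs (a : Multiplicative (ZMod 2)) : Nat.card (Qs a) = 8 := by
  have h1 : Nat.card (Qs a) = Nat.card {y : ZS // PQ a y} := rfl
  rw [h1, Nat.card_eq_fintype_card, Fintype.card_subtype]
  exact d_PQ_card a

theorem eq_one_of_pow_four {H : Type*} [Group H] [Finite H] (N : Subgroup H)
    (hodd : Odd (Nat.card N)) (n : H) (hn : n ∈ N) (h4 : n ^ 4 = 1) : n = 1 := by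
  have h8 : n ^ Nat.card N = 1 := by
    have h := pow_card_eq_one' (G := N) (x := ⟨n, hn⟩)
    have h' : n ^ Nat.card N = (((⟨n, hn⟩ : N) ^ Nat.card N : N) : H) :=
      (Subgroup.coe_pow N ⟨n, hn⟩ _).symm
    rw [h', h]
    rfl
  have h9 : n ^ (Nat.gcd 4 (Nat.card N)) = 1 := pow_gcd_eq_one.mpr ⟨h4, h8⟩
  have h10 : Nat.gcd 4 (Nat.card N) = 1 := by
    have h11 : Nat.Coprime (2 ^ 2) (Nat.card N) :=
      Nat.Coprime.pow_left 2 (Nat.coprime_two_left.mpr hodd)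
    exact h11
  rw [h10, pow_one] at h9
  exact h9

theorem conj_comm {G : Type*} [Group G] (g a b : G)
    (h : a * (g * b * g⁻¹) = (g * b * g⁻¹) * a) : (g⁻¹ * a * g) * b = b * (g⁻¹ * a * g) := by
  calc (g⁻¹ * a * g) * b = g⁻¹ * (a * (g * b * g⁻¹)) * g := by group
    _ = g⁻¹ * ((g * b * g⁻¹) * a) * g := by rw [h]
    _ = b * (g⁻¹ * a * g) := by group

theorem eq_one_of_conj_eq_one {G : Type*} [Group G] (g a : G) (h : g * a * g⁻¹ = 1) : a = 1 := by
  calc a = g⁻¹ * (g * a * g⁻¹) * g := by group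
    _ = 1 := by rw [h]; group

section main

variable {G : Type*} [Group G] [Finite G]

theorem comm_tt (ι : ZS →* G) (y : ZS) : ι y * ι tt = ι tt * ι y := by
  rw [← map_mul, ← map_mul, d_tt_central y]

theorem ne_one_of_ne (ι : ZS →* G) (hι : Function.Injective ι) {y : ZS} (hy : y ≠ 1) :
    ι y ≠ 1 := fun h => hy (hι (h.trans (map_one ι).symm))

theorem b0 (ι : ZS →* G) (hι : Function.Injective ι)
    (hK : ∀ g : G, g * ι zz = ι zz * g → ∃ y, ι y = g ∧ y * zz = zz * y) (g : G) :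
    g * ι zz * g⁻¹ ≠ ι tt := by
  intro h
  have h1 : (g⁻¹ * ι q3 * g) * ι zz = ι zz * (g⁻¹ * ι q3 * g) :=
    conj_comm g _ _ (by rw [h]; exact comm_tt ι q3)
  obtain ⟨y, hy, hyz⟩ := hK _ h1
  have h3 : y * y * y = 1 := by
    apply hι
    rw [map_mul, map_mul, hy, map_one]
    have h4 : ι q3 * ι q3 * ι q3 = 1 := by rw [← map_mul, ← map_mul, d_q3.2.1, map_one]
    calc g⁻¹ * ι q3 * g * (g⁻¹ * ι q3 * g) * (g⁻¹ * ι q3 * g)
        = g⁻¹ * (ι q3 * ι q3 * ι q3) * g := by group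
      _ = 1 := by rw [h4]; group
  have h4 := d_no3 y hyz h3
  rw [h4, map_one] at hy
  exact ne_one_of_ne ι hι d_q3.1 (eq_one_of_conj_eq_one g⁻¹ _ (by rw [inv_inv]; exact hy.symm))

theorem b1 (ι : ZS →* G) (hι : Function.Injective ι)
    (hK : ∀ g : G, g * ι zz = ι zz * g → ∃ y, ι y = g ∧ y * zz = zz * y) (g : G) :
    g * ι zz * g⁻¹ ≠ ι tt * ι zz := by
  intro h
  have h0 : ι rr * (ι tt * ι zz) = (ι tt * ι zz) * ι rr := by
    rw [← map_mul, ← map_mul, ← map_mul, d_rr.2.1]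
  have h1 : (g⁻¹ * ι rr * g) * ι zz = ι zz * (g⁻¹ * ι rr * g) :=
    conj_comm g _ _ (by rw [h]; exact h0)
  obtain ⟨w, hw, hwz⟩ := hK _ h1
  have h2 : ι (w * w) = g⁻¹ * ι zz * g := by
    rw [map_mul, hw]
    have h3 : ι rr * ι rr = ι zz := by rw [← map_mul, d_rr.1]
    calc g⁻¹ * ι rr * g * (g⁻¹ * ι rr * g) = g⁻¹ * (ι rr * ι rr) * g := by group
      _ = g⁻¹ * ι zz * g := by rw [h3]
  rcases d_sq w hwz with h3 | h3
  · rw [h3, map_one] at h2
    exact ne_one_of_ne ι hι d_zz.2.1 (eq_one_of_conj_eq_one g⁻¹ _ (by rw [inv_inv]; exact h2.symm))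
  · rw [h3] at h2
    have h4 : g * ι zz * g⁻¹ = ι zz := by
      calc g * ι zz * g⁻¹ = g * (g⁻¹ * ι zz * g) * g⁻¹ := by rw [← h2]
        _ = ι zz := by group
    rw [h4] at h
    have h5 : ι tt = 1 := by
      calc ι tt = (ι tt * ι zz) * (ι zz)⁻¹ := by group
        _ = 1 := by rw [← h]; group
    exact ne_one_of_ne ι hι d_tt.2 h5

theorem b2 (ι : ZS →* G) (hι : Function.Injective ι)
    (hC : ∀ g : G, g * ι tt = ι tt * g → ∃ y, ι y = g)
    (hK : ∀ g : G, g * ι zz = ι zz * g → ∃ y, ι y = g ∧ y * zz = zz * y) (g : G) :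
    g * ι tt * g⁻¹ ≠ ι tt * ι zz := by
  intro h
  have h0 : ι rr * (ι tt * ι zz) = (ι tt * ι zz) * ι rr := by
    rw [← map_mul, ← map_mul, ← map_mul, d_rr.2.1]
  have h1 : (g⁻¹ * ι rr * g) * ι tt = ι tt * (g⁻¹ * ι rr * g) :=
    conj_comm g _ _ (by rw [h]; exact h0)
  obtain ⟨w, hw⟩ := hC _ h1
  have h2 : ι (w * w) = g⁻¹ * ι zz * g := by
    rw [map_mul, hw]
    have h3 : ι rr * ι rr = ι zz := by rw [← map_mul, d_rr.1]
    calc g⁻¹ * ι rr * g * (g⁻¹ * ι rr * g) = g⁻¹ * (ι rr * ι rr) * g := by group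
      _ = g⁻¹ * ι zz * g := by rw [h3]
  have h3 : (w * w) * (w * w) = 1 := by
    apply hι
    rw [map_mul, h2, map_one]
    have h4 : ι zz * ι zz = 1 := by rw [← map_mul, d_zz.1, map_one]
    calc g⁻¹ * ι zz * g * (g⁻¹ * ι zz * g) = g⁻¹ * (ι zz * ι zz) * g := by group
      _ = 1 := by rw [h4]; group
  have h4 : w * w ≠ 1 := by
    intro h5
    rw [h5, map_one] at h2
    exact ne_one_of_ne ι hι d_zz.2.1 (eq_one_of_conj_eq_one g⁻¹ _ (by rw [inv_inv]; exact h2.symm))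
  obtain ⟨c, hc⟩ := d_sqconj w h3 h4
  rw [hc, map_mul, map_mul, map_inv] at h2
  have h5 : (g * ι c) * ι zz = ι zz * (g * ι c) := by
    calc (g * ι c) * ι zz = g * (ι c * ι zz * (ι c)⁻¹) * ι c := by group
      _ = g * (g⁻¹ * ι zz * g) * ι c := by rw [h2]
      _ = ι zz * (g * ι c) := by group
  obtain ⟨y, hy, -⟩ := hK _ h5
  have h6 : (g * ι c) * ι tt = ι tt * (g * ι c) := by rw [← hy]; exact comm_tt ι y
  have h8 := comm_tt ι c
  have h9 : ι c * ι tt * (ι c)⁻¹ = ι tt := by rw [h8]; group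
  have h7 : g * ι tt = ι tt * g := by
    calc g * ι tt = g * (ι c * ι tt * (ι c)⁻¹) := by rw [h9]
      _ = (g * ι c) * ι tt * (ι c)⁻¹ := by group
      _ = ι tt * (g * ι c) * (ι c)⁻¹ := by rw [h6]
      _ = ι tt * g := by group
  have h10 : g * ι tt * g⁻¹ = ι tt := by rw [h7]; group
  rw [h10] at h
  have h11 : ι zz = 1 := by
    calc ι zz = (ι tt)⁻¹ * (ι tt * ι zz) := by group
      _ = 1 := by rw [← h]; group
  exact ne_one_of_ne ι hι d_zz.2.1 h11

theorem card_P (ι : ZS →* G) (hι : Function.Injective ι)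
    (hK : ∀ g : G, g * ι zz = ι zz * g → ∃ y, ι y = g ∧ y * zz = zz * y)
    (P : Sylow 2 G) (hP : ∀ g : G, g ∈ P ↔ g * ι zz = ι zz * g) :
    Nat.card (P : Subgroup G) = 16 := by
  have h1 : (P : Subgroup G) = (Subgroup.centralizer ({zz} : Set ZS)).map ι := by
    ext g
    constructor
    · intro hg
      obtain ⟨y, hy, hyz⟩ := hK g ((hP g).mp hg)
      exact ⟨y, (Cfsg.Agent.H27.D8.mem_centralizer_iff_comm zz).mpr hyz, hy⟩
    · rintro ⟨y, hy, rfl⟩
      refine (hP _).mpr ?_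
      rw [← map_mul, ← map_mul, (Cfsg.Agent.H27.D8.mem_centralizer_iff_comm zz).mp hy]
  rw [h1, Subgroup.card_map_of_injective hι]
  exact card_Ss

/-- **Isolated case**: `t` is central. -/
theorem isolated (ι : ZS →* G) (hι : Function.Injective ι)
    (hC : ∀ g : G, g * ι tt = ι tt * g → ∃ y, ι y = g)
    (hK : ∀ g : G, g * ι zz = ι zz * g → ∃ y, ι y = g ∧ y * zz = zz * y)
    (P : Sylow 2 G) (hP : ∀ g : G, g ∈ P ↔ g * ι zz = ι zz * g)
    (hno : ∀ (g : G) (a : Multiplicative (ZMod 2)), g * ι tt * g⁻¹ ≠ ι (xa a)) :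
    ∀ g : G, g * ι tt = ι tt * g := by
  haveI : Fact (Nat.Prime 2) := ⟨Nat.prime_two⟩
  have ht2 : orderOf (ι tt) = 2 := by
    rw [orderOf_injective ι hι]
    exact orderOf_eq_prime (by rw [pow_two]; exact d_tt.1) d_tt.2
  have htP : ι tt ∈ P := (hP _).mpr (comm_tt ι zz).symm
  have hiso : ∀ g : G, g * ι tt * g⁻¹ ∈ P → g * ι tt * g⁻¹ = ι tt := by
    intro g hg
    obtain ⟨y, hy, hyz⟩ := hK _ ((hP _).mp hg)
    have hyy : y * y = 1 := by
      apply hι
      rw [map_mul, hy, map_one]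
      have h1 : ι tt * ι tt = 1 := by rw [← map_mul, d_tt.1, map_one]
      calc g * ι tt * g⁻¹ * (g * ι tt * g⁻¹) = g * (ι tt * ι tt) * g⁻¹ := by group
        _ = 1 := by rw [h1]; group
    rcases d_inv y hyz hyy with h | h | ⟨c, h⟩ | ⟨c, h⟩ | ⟨c, h⟩ | ⟨c, h⟩
    · exfalso
      rw [h, map_one] at hy
      exact ne_one_of_ne ι hι d_tt.2 (eq_one_of_conj_eq_one g _ hy.symm)
    · rw [← hy, h]
    · exfalso
      apply b0 ι hι hK (g⁻¹ * ι c)
      rw [h, map_mul, map_mul, map_inv] at hy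
      calc g⁻¹ * ι c * ι zz * (g⁻¹ * ι c)⁻¹ = g⁻¹ * (ι c * ι zz * (ι c)⁻¹) * g := by group
        _ = g⁻¹ * (g * ι tt * g⁻¹) * g := by rw [hy]
        _ = ι tt := by group
    · exfalso
      apply b2 ι hι hC hK ((ι c)⁻¹ * g)
      rw [h, map_mul, map_mul, map_inv, map_mul] at hy
      calc (ι c)⁻¹ * g * ι tt * ((ι c)⁻¹ * g)⁻¹ = (ι c)⁻¹ * (g * ι tt * g⁻¹) * ι c := by group
        _ = (ι c)⁻¹ * (ι c * (ι tt * ι zz) * (ι c)⁻¹) * ι c := by rw [hy]
        _ = ι tt * ι zz := by group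
    · exfalso
      apply hno ((ι c)⁻¹ * g) 1
      rw [h, map_mul, map_mul, map_inv] at hy
      calc (ι c)⁻¹ * g * ι tt * ((ι c)⁻¹ * g)⁻¹ = (ι c)⁻¹ * (g * ι tt * g⁻¹) * ι c := by group
        _ = (ι c)⁻¹ * (ι c * ι (xa 1) * (ι c)⁻¹) * ι c := by rw [hy]
        _ = ι (xa 1) := by group
    · exfalso
      apply hno ((ι c)⁻¹ * g) (Multiplicative.ofAdd 1)
      rw [h, map_mul, map_mul, map_inv] at hy
      calc (ι c)⁻¹ * g * ι tt * ((ι c)⁻¹ * g)⁻¹ = (ι c)⁻¹ * (g * ι tt * g⁻¹) * ι c := by group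
        _ = (ι c)⁻¹ * (ι c * ι (xa (Multiplicative.ofAdd 1)) * (ι c)⁻¹) * ι c := by rw [hy]
        _ = ι (xa (Multiplicative.ofAdd 1)) := by group
  obtain ⟨N, hNn, hNodd, hN⟩ := Cfsg.Agent.S0215.result P (ι tt) ht2 htP hiso
  have hNbot : N = ⊥ := by
    haveI := hNn
    apply no_odd_normal N hNodd (ι zz) (ι q3) (ι (q3 * q3))
    · rw [← map_mul, d_zz.1, map_one]
    · intro n hn hnz
      obtain ⟨y, hy, hyz⟩ := hK n hnz.symm
      have h4 : n ^ 4 = 1 := by rw [← hy, ← map_pow, d_pow4 y hyz, map_one]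
      exact eq_one_of_pow_four N hNodd n hn h4
    · have h1 := congrArg ι d_V
      simpa only [map_mul, map_inv] using h1
  intro g
  have h1 := hN g
  rw [hNbot, Subgroup.mem_bot] at h1
  have h2 : ι tt * g = g * ι tt := by
    calc ι tt * g = (ι tt * g * (ι tt)⁻¹ * g⁻¹) * (g * ι tt) := by group
      _ = g * ι tt := by rw [h1, one_mul]
  exact h2.symm

/-- **Non-isolated case, after the transfer**: `G ≅ S₆`. -/
theorem nonisolated_M (ι : ZS →* G) (hι : Function.Injective ι)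
    (hC : ∀ g : G, g * ι tt = ι tt * g → ∃ y, ι y = g)
    (hK : ∀ g : G, g * ι zz = ι zz * g → ∃ y, ι y = g ∧ y * zz = zz * y)
    (P : Sylow 2 G) (hP : ∀ g : G, g ∈ P ↔ g * ι zz = ι zz * g)
    (g₀ : G) (a : Multiplicative (ZMod 2)) (hx : g₀ * ι tt * g₀⁻¹ = ι (xa a))
    (M : Subgroup G) (hMn : M.Normal) (hMi : M.index = 2) (huM : ι tt * ι zz ∉ M) :
    Nonempty (G ≃* Perm (Fin 6)) := by
  haveI := hMn
  haveI : Fact (Nat.Prime 2) := ⟨Nat.prime_two⟩
  haveI : Fact (Nat.Prime 3) := ⟨Nat.prime_three⟩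
  have hsq : ∀ g : G, g * g ∈ M := fun g => (Subgroup.mul_mem_iff_of_index_two hMi).mpr Iff.rfl
  have hzM : ι zz ∈ M := by
    rw [← d_rr.1, map_mul]
    exact hsq _
  have htM : ι tt ∉ M := fun h => huM (M.mul_mem h hzM)
  have hqM : ι q3 ∈ M := by
    have h1 : ι q3 = ι (q3 * q3) * ι (q3 * q3) := by
      rw [← map_mul]
      exact congrArg ι d_q3.2.2.1
    rw [h1]
    exact hsq _
  have hq2M : ι (q3 * q3) ∈ M := by
    rw [map_mul]
    exact hsq _
  -- the class of `t` has at least seven elements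
  have hcen48 : Nat.card (Subgroup.centralizer ({ι tt} : Set G)) = 48 := by
    have h1 : Subgroup.centralizer ({ι tt} : Set G) = ι.range := by
      ext g
      rw [Cfsg.Agent.H27.D8.mem_centralizer_iff_comm]
      constructor
      · intro h
        obtain ⟨y, hy⟩ := hC g h
        exact ⟨y, hy⟩
      · rintro ⟨y, rfl⟩
        exact comm_tt ι y
    rw [h1, Nat.card_congr (MonoidHom.ofInjective hι).toEquiv.symm]
    exact card_ZS
  have hXcard : ((insert tt (Finset.univ.image (fun c : ZS => c * xa a * c⁻¹))).map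
      ⟨ι, hι⟩).card = 7 := by
    rw [Finset.card_map]
    exact d_Xcard a
  have hX : (((insert tt (Finset.univ.image (fun c : ZS => c * xa a * c⁻¹))).map
      ⟨ι, hι⟩ : Finset G) : Set G) ⊆ conjugatesOf (ι tt) := by
    intro x hx'
    rw [Finset.mem_coe, Finset.mem_map] at hx'
    obtain ⟨y, hy, rfl⟩ := hx'
    rw [Cfsg.Agent.Helper55.mem_conj_iff, isConj_iff]
    rw [Finset.mem_insert, Finset.mem_image] at hy
    rcases hy with rfl | ⟨c, -, rfl⟩
    · exact ⟨1, by simp⟩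
    · refine ⟨ι c * g₀, ?_⟩
      show ι c * g₀ * ι tt * (ι c * g₀)⁻¹ = ι (c * xa a * c⁻¹)
      rw [map_mul, map_mul, map_inv, ← hx]
      group
  have h7 : 7 ≤ (conjugatesOf (ι tt)).ncard := by
    rw [← hXcard, ← Set.ncard_coe_finset]
    exact Set.ncard_le_ncard hX (Set.toFinite _)
  have hcsz : (conjugatesOf (ι tt)).ncard = (Subgroup.centralizer ({ι tt} : Set G)).index :=
    Cfsg.Agent.Helper55.ncard_conjugatesOf_eq_csz (ι tt)
  have hG : Nat.card G = 48 * (conjugatesOf (ι tt)).ncard := by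
    rw [hcsz, ← hcen48]
    exact (Subgroup.card_mul_index _).symm
  have hGM : Nat.card G = 2 * Nat.card M := by
    rw [← Subgroup.card_mul_index M, hMi, mul_comm]
  have hMge : 168 ≤ Nat.card M := by omega
  -- the dihedral centralizer in `M`
  obtain ⟨w, hwM, hw⟩ : ∃ w : ZS, ι w ∈ M ∧ (w = rr ∨ w = tt * rr) := by
    by_cases h : ι rr ∈ M
    · exact ⟨rr, h, Or.inl rfl⟩
    · refine ⟨tt * rr, ?_, Or.inr rfl⟩
      rw [map_mul, Subgroup.mul_mem_iff_of_index_two hMi]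
      exact ⟨fun h' => absurd h' htM, fun h' => absurd h' h⟩
  obtain ⟨hw1, hw2, hw3, hw4, hw5, hw6, hw7⟩ := d_w w hw
  have hvM : ι (q3 * zz * q3⁻¹) ∈ M := by
    rw [map_mul, map_mul, map_inv]
    exact hMn.conj_mem _ hzM _
  have hzM2 : orderOf (⟨ι zz, hzM⟩ : M) = 2 := by
    rw [← Subgroup.orderOf_coe]
    show orderOf (ι zz) = 2
    rw [orderOf_injective ι hι]
    exact orderOf_eq_prime (by rw [pow_two]; exact d_zz.1) d_zz.2.1
  have hPcard := card_P ι hι hK P hP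
  have hCMcard : Nat.card (Subgroup.centralizer ({(⟨ι zz, hzM⟩ : M)} : Set M)) = 8 := by
    have htP : ι tt ∈ (P : Subgroup G) := (hP _).mpr (comm_tt ι zz).symm
    have hPM : ¬ (P : Subgroup G) ≤ M := fun h => htM (h htP)
    have h1 := card_eq_two_mul_inf M hMi (P : Subgroup G) hPM
    rw [hPcard] at h1
    have h2 : Nat.card (Subgroup.centralizer ({(⟨ι zz, hzM⟩ : M)} : Set M)) =
        Nat.card (M ⊓ (P : Subgroup G) : Subgroup G) := by
      apply Nat.card_congr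
      refine ⟨fun c => ⟨((c : M) : G), ⟨(c : M).2, (hP _).mpr ?_⟩⟩,
        fun x => ⟨⟨x, x.2.1⟩, ?_⟩, fun c => rfl, fun x => rfl⟩
      · have h3 := (Cfsg.Agent.H27.D8.mem_centralizer_iff_comm (⟨ι zz, hzM⟩ : M)).mp c.2
        exact congrArg Subtype.val h3
      · rw [Cfsg.Agent.H27.D8.mem_centralizer_iff_comm]
        apply Subtype.ext
        exact (hP _).mp x.2.2
    omega
  have hρmem : (⟨ι w, hwM⟩ : M) ∈ Subgroup.centralizer ({(⟨ι zz, hzM⟩ : M)} : Set M) := by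
    rw [Cfsg.Agent.H27.D8.mem_centralizer_iff_comm]
    apply Subtype.ext
    show ι w * ι zz = ι zz * ι w
    rw [← map_mul, ← map_mul, hw2]
  have hτmem : (⟨ι (q3 * zz * q3⁻¹), hvM⟩ : M) ∈
      Subgroup.centralizer ({(⟨ι zz, hzM⟩ : M)} : Set M) := by
    rw [Cfsg.Agent.H27.D8.mem_centralizer_iff_comm]
    apply Subtype.ext
    show ι (q3 * zz * q3⁻¹) * ι zz = ι zz * ι (q3 * zz * q3⁻¹)
    rw [← map_mul, ← map_mul, hw5]
  have hρ : orderOf (⟨⟨ι w, hwM⟩, hρmem⟩ :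
      Subgroup.centralizer ({(⟨ι zz, hzM⟩ : M)} : Set M)) = 4 := by
    rw [← Subgroup.orderOf_coe, ← Subgroup.orderOf_coe]
    show orderOf (ι w) = 4
    rw [orderOf_injective ι hι]
    exact orderOf_eq_prime_pow (p := 2) (n := 1) (by simpa using hw6) (by simpa using hw7)
  have hτ2 : (⟨⟨ι (q3 * zz * q3⁻¹), hvM⟩, hτmem⟩ :
      Subgroup.centralizer ({(⟨ι zz, hzM⟩ : M)} : Set M)) * ⟨⟨ι (q3 * zz * q3⁻¹), hvM⟩, hτmem⟩
        = 1 := by
    apply Subtype.ext
    apply Subtype.ext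
    show ι (q3 * zz * q3⁻¹) * ι (q3 * zz * q3⁻¹) = 1
    rw [← map_mul, hw4, map_one]
  have hconj : (⟨⟨ι (q3 * zz * q3⁻¹), hvM⟩, hτmem⟩ :
      Subgroup.centralizer ({(⟨ι zz, hzM⟩ : M)} : Set M)) * ⟨⟨ι w, hwM⟩, hρmem⟩ *
        (⟨⟨ι (q3 * zz * q3⁻¹), hvM⟩, hτmem⟩ :
          Subgroup.centralizer ({(⟨ι zz, hzM⟩ : M)} : Set M))⁻¹ =
        (⟨⟨ι w, hwM⟩, hρmem⟩ : Subgroup.centralizer ({(⟨ι zz, hzM⟩ : M)} : Set M))⁻¹ := by
    apply Subtype.ext
    apply Subtype.ext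
    show ι (q3 * zz * q3⁻¹) * ι w * (ι (q3 * zz * q3⁻¹))⁻¹ = (ι w)⁻¹
    rw [← map_inv, ← map_mul, ← map_mul, hw3, map_inv]
  have hτ : (⟨⟨ι (q3 * zz * q3⁻¹), hvM⟩, hτmem⟩ :
      Subgroup.centralizer ({(⟨ι zz, hzM⟩ : M)} : Set M)) ∉
        Subgroup.zpowers (⟨⟨ι w, hwM⟩, hρmem⟩ :
          Subgroup.centralizer ({(⟨ι zz, hzM⟩ : M)} : Set M)) := by
    intro hmem
    obtain ⟨k, hk⟩ := Subgroup.mem_zpowers_iff.mp hmem
    rw [← hk] at hconj
    have h1 : (⟨⟨ι w, hwM⟩, hρmem⟩ : Subgroup.centralizer ({(⟨ι zz, hzM⟩ : M)} : Set M))⁻¹ =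
        ⟨⟨ι w, hwM⟩, hρmem⟩ := by
      rw [← hconj]
      group
    have h2 : (⟨⟨ι w, hwM⟩, hρmem⟩ : Subgroup.centralizer ({(⟨ι zz, hzM⟩ : M)} : Set M)) ^ 2
        = 1 := by
      rw [pow_two]
      nth_rewrite 1 [← h1]
      exact inv_mul_cancel _
    have h3 := orderOf_dvd_of_pow_eq_one h2
    rw [hρ] at h3
    omega
  have hD : Nonempty (Subgroup.centralizer ({(⟨ι zz, hzM⟩ : M)} : Set M) ≃* DihedralGroup 4) :=
    Cfsg.Agent.H3.dihedral_of_gens 4 hCMcard _ _ hρ hτ hτ2 hconj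
  rcases Cfsg.Agent.S3035.result (⟨ι zz, hzM⟩ : M) hzM2 hD with
    h | ⟨⟨f⟩⟩ | ⟨⟨f⟩⟩ | ⟨⟨f⟩⟩ | ⟨⟨f⟩⟩
  · exfalso
    have hbot : Cfsg.oddCore M = ⊥ := by
      apply no_odd_normal (Cfsg.oddCore M) (Cfsg.Agent.H27.odd_card_oddCore M)
        (⟨ι zz, hzM⟩ : M) ⟨ι q3, hqM⟩ ⟨ι (q3 * q3), hq2M⟩
      · apply Subtype.ext
        show ι zz * ι zz = 1
        rw [← map_mul, d_zz.1, map_one]
      · intro n hn hnz
        have h1 : (n : G) * ι zz = ι zz * (n : G) := (congrArg Subtype.val hnz).symm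
        obtain ⟨y, hy, hyz⟩ := hK _ h1
        have h4 : n ^ 4 = 1 := by
          apply Subtype.ext
          rw [Subgroup.coe_pow, ← hy, ← map_pow, d_pow4 y hyz, map_one]
          rfl
        exact eq_one_of_pow_four _ (Cfsg.Agent.H27.odd_card_oddCore M) n hn h4
      · apply Subtype.ext
        show ι (q3 * q3) * ι zz * (ι (q3 * q3))⁻¹ = ι zz * (ι q3 * ι zz * (ι q3)⁻¹)
        have h1 := congrArg ι d_V
        simpa only [map_mul, map_inv] using h1
    rw [hbot, sup_bot_eq] at h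
    rw [h, Subgroup.card_top] at hCMcard
    omega
  · exfalso
    have h1 : Nat.card M = 24 := by
      rw [Nat.card_congr f.toEquiv, Nat.card_perm]
      simp [Nat.factorial]
    omega
  · exfalso
    have h1 : Nat.card M = 120 := by
      rw [Nat.card_congr f.toEquiv, Nat.card_perm]
      simp [Nat.factorial]
    omega
  · exfalso
    have hM168 : Nat.card M = 168 := by
      rw [Nat.card_congr f.toEquiv]
      exact Cfsg.Agent.H98.TransvCent.card_SL3
    have hncard : (conjugatesOf (ι tt)).ncard = 7 := by omega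
    have hXeq := Set.eq_of_subset_of_ncard_le hX
      (by rw [hncard, Set.ncard_coe_finset, hXcard]) (Set.toFinite _)
    have hcomm : ∀ g : G, (g * ι tt * g⁻¹) * ι tt = ι tt * (g * ι tt * g⁻¹) := by
      intro g
      have h1 : g * ι tt * g⁻¹ ∈ conjugatesOf (ι tt) :=
        Cfsg.Agent.Helper55.mem_conj_iff.mpr (isConj_iff.mpr ⟨g, rfl⟩)
      rw [← hXeq, Finset.mem_coe, Finset.mem_map] at h1
      obtain ⟨y, -, hy⟩ := h1
      rw [← hy]
      exact comm_tt ι y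
    have h1 := hcomm (g₀⁻¹ * ι c1 * g₀)
    have h2 : (ι c1 * ι (xa a) * (ι c1)⁻¹) * ι (xa a) =
        ι (xa a) * (ι c1 * ι (xa a) * (ι c1)⁻¹) := by
      rw [← hx]
      calc ι c1 * (g₀ * ι tt * g₀⁻¹) * (ι c1)⁻¹ * (g₀ * ι tt * g₀⁻¹)
          = g₀ * ((g₀⁻¹ * ι c1 * g₀ * ι tt * (g₀⁻¹ * ι c1 * g₀)⁻¹) * ι tt) * g₀⁻¹ := by group
        _ = g₀ * (ι tt * (g₀⁻¹ * ι c1 * g₀ * ι tt * (g₀⁻¹ * ι c1 * g₀)⁻¹)) * g₀⁻¹ := by rw [h1]
        _ = g₀ * ι tt * g₀⁻¹ * (ι c1 * (g₀ * ι tt * g₀⁻¹) * (ι c1)⁻¹) := by group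
    apply d_noncomm a
    apply hι
    simpa only [map_mul, map_inv] using h2
  · refine altSix_case M hMi f (ι tt) htM (ι q3) hqM ?_ (comm_tt ι q3) ?_
    · rw [orderOf_injective ι hι]
      exact orderOf_eq_prime d_q3.2.2.2 d_q3.1
    · intro n hn
      obtain ⟨y, hy⟩ := hC n (hn (ι tt)).symm
      have hyc : ∀ y' : ZS, y * y' = y' * y := by
        intro y'
        apply hι
        rw [map_mul, map_mul, hy]
        exact (hn (ι y')).symm
      rcases d_center y hyc with h | h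
      · rw [← hy, h, map_one]
      · exfalso
        rw [h] at hy
        have h1 : g₀ * ι tt * g₀⁻¹ = ι tt := by
          have h2 := hn g₀
          rw [← hy] at h2
          rw [h2]
          group
        rw [hx] at h1
        exact d_xa_ne a (hι h1)

/-- **Non-isolated case**: `G ≅ S₆`. -/
theorem nonisolated (ι : ZS →* G) (hι : Function.Injective ι)
    (hC : ∀ g : G, g * ι tt = ι tt * g → ∃ y, ι y = g)
    (hK : ∀ g : G, g * ι zz = ι zz * g → ∃ y, ι y = g ∧ y * zz = zz * y)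
    (P : Sylow 2 G) (hP : ∀ g : G, g ∈ P ↔ g * ι zz = ι zz * g)
    (g₀ : G) (a : Multiplicative (ZMod 2)) (hx : g₀ * ι tt * g₀⁻¹ = ι (xa a)) :
    Nonempty (G ≃* Perm (Fin 6)) := by
  haveI : Fact (Nat.Prime 2) := ⟨Nat.prime_two⟩
  have hQP : (Qs a).map ι ≤ (P : Subgroup G) := by
    rintro _ ⟨y, hy, rfl⟩
    refine (hP _).mpr ?_
    rw [← map_mul, ← map_mul, hy.1]
  have hPcard := card_P ι hι hK P hP
  have hQcard : Nat.card ((Qs a).map ι) = 8 := by
    rw [Subgroup.card_map_of_injective hι]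
    exact card_Qs a
  have hQi : ((Qs a).map ι).relIndex (P : Subgroup G) = 2 := by
    have h1 := Subgroup.relIndex_mul_index hQP
    have h2 := Subgroup.card_mul_index ((Qs a).map ι)
    have h3 := Subgroup.card_mul_index (P : Subgroup G)
    rw [hQcard] at h2
    rw [hPcard] at h3
    have hpos : 0 < (P : Subgroup G).index := Nat.pos_of_ne_zero Subgroup.index_ne_zero_of_finite
    have h4 : ((Qs a).map ι).relIndex (P : Subgroup G) * (P : Subgroup G).index =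
        2 * (P : Subgroup G).index := by
      rw [h1]
      omega
    exact Nat.eq_of_mul_eq_mul_right hpos h4
  have hu : orderOf (ι tt * ι zz) = 2 := by
    rw [← map_mul, orderOf_injective ι hι]
    exact orderOf_eq_prime (by rw [pow_two]; exact d_zz.2.2.2.1) d_zz.2.2.1
  have huQ : ∀ g : G, g * (ι tt * ι zz) * g⁻¹ ∉ (Qs a).map ι := by
    rintro g ⟨y, hy, hyg⟩
    have hyy : y * y = 1 := by
      apply hι
      rw [map_mul, hyg, map_one]
      have h1 : (ι tt * ι zz) * (ι tt * ι zz) = 1 := by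
        rw [← map_mul, ← map_mul, d_zz.2.2.2.1, map_one]
      calc g * (ι tt * ι zz) * g⁻¹ * (g * (ι tt * ι zz) * g⁻¹)
          = g * ((ι tt * ι zz) * (ι tt * ι zz)) * g⁻¹ := by group
        _ = 1 := by rw [h1]; group
    rcases d3 a y hy hyy with h | ⟨c, h⟩ | ⟨c, h⟩
    · rw [h, map_one] at hyg
      have h1 := eq_one_of_conj_eq_one g _ hyg.symm
      rw [← map_mul] at h1
      exact ne_one_of_ne ι hι d_zz.2.2.1 h1
    · apply b1 ι hι hK (g⁻¹ * ι c)
      rw [h, map_mul, map_mul, map_inv] at hyg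
      calc g⁻¹ * ι c * ι zz * (g⁻¹ * ι c)⁻¹ = g⁻¹ * (ι c * ι zz * (ι c)⁻¹) * g := by group
        _ = g⁻¹ * (g * (ι tt * ι zz) * g⁻¹) * g := by rw [hyg]
        _ = ι tt * ι zz := by group
    · apply b2 ι hι hC hK (g⁻¹ * ι c * g₀)
      rw [h, map_mul, map_mul, map_inv, ← hx] at hyg
      calc g⁻¹ * ι c * g₀ * ι tt * (g⁻¹ * ι c * g₀)⁻¹
          = g⁻¹ * (ι c * (g₀ * ι tt * g₀⁻¹) * (ι c)⁻¹) * g := by group
        _ = g⁻¹ * (g * (ι tt * ι zz) * g⁻¹) * g := by rw [hyg]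
        _ = ι tt * ι zz := by group
  obtain ⟨M, hMn, hMi, huM⟩ :=
    Cfsg.Agent.H60.thompson_transfer P ((Qs a).map ι) hQP hQi _ hu huQ
  exact nonisolated_M ι hι hC hK P hP g₀ a hx M hMn hMi huM

/-- **Main theorem** in terms of the embedding `ι`. -/
theorem main (ι : ZS →* G) (hι : Function.Injective ι)
    (hC : ∀ g : G, g * ι tt = ι tt * g → ∃ y, ι y = g)
    (hK : ∀ g : G, g * ι zz = ι zz * g → ∃ y, ι y = g ∧ y * zz = zz * y)
    (P : Sylow 2 G) (hP : ∀ g : G, g ∈ P ↔ g * ι zz = ι zz * g) :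
    (Group.IsSolvable G → ∀ g : G, g * ι tt = ι tt * g) ∧
      (¬ Group.IsSolvable G → Nonempty (G ≃* Perm (Fin 6))) := by
  by_cases hex : ∃ (g : G) (a : Multiplicative (ZMod 2)), g * ι tt * g⁻¹ = ι (xa a)
  · obtain ⟨g₀, a, hx⟩ := hex
    obtain ⟨e6⟩ := nonisolated ι hι hC hK P hP g₀ a hx
    refine ⟨fun hsol => ?_, fun _ => ⟨e6⟩⟩
    exfalso
    haveI := hsol
    have h1 : Group.IsSolvable (Perm (Fin 6)) :=
      Group.isSolvable_of_surjective (f := e6.toMonoidHom) e6.surjective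
    exact Equiv.Perm.not_isSolvable (Fin 6) (by rw [Cardinal.mk_fin]; norm_num) h1
  · push Not at hex
    have hcentral := isolated ι hι hC hK P hP hex
    refine ⟨fun _ => hcentral, fun hns => ?_⟩
    exfalso
    apply hns
    have hsurj : Function.Surjective ι := fun g => hC g (hcentral g)
    haveI : Group.IsSolvable (Perm (Fin 4)) := Cfsg.Agent.H76.isSolvable_perm_fin_four
    exact Group.isSolvable_of_surjective hsurj

end main

end Cfsg.Agent.H27.ZS
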