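import Cfsg.Agent.H27.ZStarHyp
import Cfsg.Prelude.Def_TwoFusion
import Mathlib.GroupTheory.Sylow
import Mathlib.GroupTheory.PGroup
import Mathlib.GroupTheory.QuotientGroup.Basic

/-!
# Strongly closed 2-subgroups centralize core-free subgroups they normalize and meet trivially
(helper27; statement S1251 from the Z*-theorem)
-/

set_option autoImplicit false

namespace Cfsg.Agent.H27

open Cfsg

universe u

open scoped Pointwise in
theorem mem_smul_sylow_iff {G : Type*} [Group G] {p : ℕ} (S : Sylow p G) (x y : G) :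
    y ∈ (x • S : Sylow p G) ↔ x⁻¹ * y * x ∈ S := by
  have h : ((x • S : Sylow p G) : Subgroup G) = MulAut.conj x • (S : Subgroup G) :=
    Sylow.coe_subgroup_smul
  show y ∈ ((x • S : Sylow p G) : Subgroup G) ↔ _
  rw [h, Subgroup.mem_pointwise_smul_iff_inv_smul_mem]
  simp [MulAut.smul_def]
  exact Iff.rfl

/-- Strong closure in a Sylow subgroup transfers to any `p`-subgroup containing `A`. -/
theorem stronglyClosed_of_le {G : Type*} [Group G] [Finite G] {p : ℕ} [Fact p.Prime]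
    (S : Sylow p G) {A : Subgroup G} (hA : Cfsg.IsStronglyClosed A (S : Subgroup G))
    {R : Subgroup G} (hR : IsPGroup p R) (hAR : A ≤ R) {a : G} (ha : a ∈ A) (g : G)
    (hg : g * a * g⁻¹ ∈ R) : g * a * g⁻¹ ∈ A := by
  obtain ⟨Q, hQ⟩ := hR.exists_le_sylow
  obtain ⟨x, rfl⟩ := MulAction.exists_smul_eq G S Q
  -- conjugation by `x⁻¹` maps `A` into `A`
  have hmap : A.map (MulAut.conj x⁻¹).toMonoidHom ≤ A := by
    rintro _ ⟨b, hb, rfl⟩
    have h1 : x⁻¹ * b * x ∈ S := (mem_smul_sylow_iff S x b).mp (hQ (hAR hb))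
    have h1' : x⁻¹ * b * (x⁻¹)⁻¹ ∈ (S : Subgroup G) := by rw [inv_inv]; exact h1
    have h2 := hA.2 b hb x⁻¹ h1'
    simpa using h2
  have hcard : Nat.card A ≤ Nat.card (A.map (MulAut.conj x⁻¹).toMonoidHom) := by
    rw [Subgroup.card_map_of_injective (MulAut.conj x⁻¹).injective]
  have heq : A.map (MulAut.conj x⁻¹).toMonoidHom = A := Subgroup.eq_of_le_of_card_ge hmap hcard
  have h1 : x⁻¹ * (g * a * g⁻¹) * x ∈ S := (mem_smul_sylow_iff S x _).mp (hQ hg)
  have h2 : (x⁻¹ * g) * a * (x⁻¹ * g)⁻¹ ∈ A := by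
    apply hA.2 a ha
    have : (x⁻¹ * g) * a * (x⁻¹ * g)⁻¹ = x⁻¹ * (g * a * g⁻¹) * x := by group
    rw [this]; exact h1
  rw [← heq] at h2
  obtain ⟨b, hb, hb2⟩ := h2
  have hb3 : x⁻¹ * b * x = (x⁻¹ * g) * a * (x⁻¹ * g)⁻¹ := by simpa using hb2
  have : g * a * g⁻¹ = b := by
    have : b = x * (x⁻¹ * b * x) * x⁻¹ := by group
    rw [this, hb3]; group
  rw [this]; exact hb

/-- **S1251 from Z\***: a strongly closed subgroup `A` of a Sylow 2-subgroup centralizes every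
subgroup `H` it normalizes, provided `O(H) = 1` and `A ∩ H = 1`. -/
theorem strongly_closed_centralizes (hZ : ZStarAt.{u}) {G : Type u} [Group G] [Finite G]
    (S : Sylow 2 G) (A : Subgroup G) (hA : Cfsg.IsStronglyClosed A (S : Subgroup G))
    (H : Subgroup G) (hAH : A ≤ Subgroup.normalizer (H : Set G))
    (hO : Cfsg.oddCore ↥H = ⊥) (hdisj : A ⊓ H = ⊥) : A ≤ Subgroup.centralizer (H : Set G) := by
  have : Fact (Nat.Prime 2) := ⟨Nat.prime_two⟩
  by_contra hnot
  have hA2 : IsPGroup 2 A := S.isPGroup'.to_le hA.1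
  set K : Subgroup G := H ⊔ A with hK
  have hHK : H ≤ K := le_sup_left
  have hAK : A ≤ K := le_sup_right
  have hKN : K ≤ Subgroup.normalizer (H : Set G) := sup_le Subgroup.le_normalizer hAH
  let H' : Subgroup K := H.subgroupOf K
  let A' : Subgroup K := A.subgroupOf K
  have hH'n : H'.Normal := (Subgroup.normal_subgroupOf_iff_le_normalizer hHK).mpr hKN
  have hsup : H' ⊔ A' = ⊤ := by
    rw [← Subgroup.subgroupOf_sup hHK hAK]; exact Subgroup.subgroupOf_self _
  have hdisj' : A' ⊓ H' = ⊥ := by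
    rw [eq_bot_iff]
    intro y hy
    have h1 : (y : G) ∈ A ⊓ H := ⟨Subgroup.mem_subgroupOf.mp hy.1, Subgroup.mem_subgroupOf.mp hy.2⟩
    rw [hdisj, Subgroup.mem_bot] at h1
    rw [Subgroup.mem_bot]
    exact Subtype.ext h1
  have hdecomp : ∀ k : K, ∃ h ∈ H', ∃ a ∈ A', k = h * a := by
    intro k
    have hk : k ∈ H' ⊔ A' := by rw [hsup]; trivial
    rw [← SetLike.mem_coe, Subgroup.normal_mul] at hk
    obtain ⟨h, hh, a, ha, rfl⟩ := Set.mem_mul.mp hk
    exact ⟨h, hh, a, ha, rfl⟩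
  let B' : Subgroup K := A' ⊓ Subgroup.centralizer (H' : Set K)
  have hB'n : B'.Normal := by
    constructor
    intro b hb k
    obtain ⟨h, hh, a, ha, rfl⟩ := hdecomp k
    have hbA : b ∈ A' := hb.1
    have hbC : b ∈ Subgroup.centralizer (H' : Set K) := hb.2
    have h1 : a * b * a⁻¹ ∈ B' := by
      refine Subgroup.mem_inf.mpr ⟨A'.mul_mem (A'.mul_mem ha hbA) (A'.inv_mem ha), ?_⟩
      rw [Subgroup.mem_centralizer_iff]
      intro y hy
      have hy' : a⁻¹ * y * a ∈ H' := by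
        have := hH'n.conj_mem y hy a⁻¹
        simpa using this
      have hc := (Subgroup.mem_centralizer_iff.mp hbC) (a⁻¹ * y * a) hy'
      calc y * (a * b * a⁻¹) = a * ((a⁻¹ * y * a) * b) * a⁻¹ := by group
        _ = a * (b * (a⁻¹ * y * a)) * a⁻¹ := by rw [hc]
        _ = a * b * a⁻¹ * y := by group
    have h2 : h * (a * b * a⁻¹) * h⁻¹ = a * b * a⁻¹ := by
      have hc := (Subgroup.mem_centralizer_iff.mp h1.2) h hh
      rw [hc]; group
    have : h * a * b * (h * a)⁻¹ = h * (a * b * a⁻¹) * h⁻¹ := by group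
    rw [this, h2]; exact h1
  let π : K →* K ⧸ B' := QuotientGroup.mk' B'
  have hπs : Function.Surjective π := QuotientGroup.mk'_surjective B'
  have hA'2 : IsPGroup 2 A' := hA2.comap_subtype
  let Ab : Subgroup (K ⧸ B') := A'.map π
  have hAb2 : IsPGroup 2 Ab := hA'2.map π
  have hAbne : Ab ≠ ⊥ := by
    intro h
    apply hnot
    intro a ha
    have haK : a ∈ K := hAK ha
    have h1 : π ⟨a, haK⟩ ∈ Ab := Subgroup.mem_map_of_mem π (Subgroup.mem_subgroupOf.mpr ha)
    rw [h, Subgroup.mem_bot] at h1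
    have h2 : (⟨a, haK⟩ : K) ∈ B' := (QuotientGroup.eq_one_iff _).mp h1
    rw [Subgroup.mem_centralizer_iff]
    intro y hy
    have := (Subgroup.mem_centralizer_iff.mp h2.2) ⟨y, hHK hy⟩ (Subgroup.mem_subgroupOf.mpr hy)
    exact congrArg Subtype.val this
  obtain ⟨Pb, hPb⟩ := hAb2.exists_le_sylow
  have : Nontrivial ↥Ab := (Subgroup.nontrivial_iff_ne_bot _).mpr hAbne
  have : Nontrivial (Subgroup.center ↥Ab) := hAb2.center_nontrivial
  have hc2 : 2 ∣ Nat.card (Subgroup.center ↥Ab) := by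
    rcases (hAb2.to_subgroup (Subgroup.center ↥Ab)).card_eq_or_dvd with h | h
    · exact absurd h (ne_of_gt Finite.one_lt_card)
    · exact h
  obtain ⟨z₀, hz₀⟩ := exists_prime_orderOf_dvd_card' 2 hc2
  set ab : K ⧸ B' := ((z₀ : ↥Ab) : K ⧸ B') with habdef
  have hab2 : orderOf ab = 2 := by
    rw [habdef, Subgroup.orderOf_coe, Subgroup.orderOf_coe]; exact hz₀
  have habAb : ab ∈ Ab := (z₀ : ↥Ab).2
  obtain ⟨a, haA', hπa⟩ := Subgroup.mem_map.mp habAb
  have hcent : ∀ a' ∈ A', π (a' * a * a'⁻¹) = ab := by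
    intro a' ha'
    have h1 := Subgroup.mem_center_iff.mp z₀.2 ⟨π a', Subgroup.mem_map_of_mem π ha'⟩
    have h2 : π a' * ab = ab * π a' := congrArg Subtype.val h1
    rw [map_mul, map_mul, map_inv, hπa, h2]; group
  have hiso : ∀ q : K ⧸ B', q * ab * q⁻¹ ∈ Pb → q * ab * q⁻¹ = ab := by
    intro q hq
    obtain ⟨x, rfl⟩ := hπs q
    obtain ⟨h, hh, a', ha', rfl⟩ := hdecomp x
    let R' : Subgroup K := (Pb : Subgroup (K ⧸ B')).comap π
    have hR'2 : IsPGroup 2 R' := Pb.isPGroup'.comap_of_ker_isPGroup π (by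
      rw [QuotientGroup.ker_mk']; exact hA'2.to_le inf_le_left)
    have hA'R' : A' ≤ R' := fun y hy => hPb (Subgroup.mem_map_of_mem π hy)
    let R : Subgroup G := R'.map K.subtype
    have hR2 : IsPGroup 2 R := hR'2.map _
    have hAR : A ≤ R := by
      intro y hy
      exact ⟨⟨y, hAK hy⟩, hA'R' (Subgroup.mem_subgroupOf.mpr hy), rfl⟩
    set a'' : K := a' * a * a'⁻¹ with ha''def
    have ha''A' : a'' ∈ A' := A'.mul_mem (A'.mul_mem ha' haA') (A'.inv_mem ha')
    have hconj : h * a' * a * (h * a')⁻¹ = h * a'' * h⁻¹ := by rw [ha''def]; group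
    have hπconj : π (h * a') * ab * (π (h * a'))⁻¹ = π (h * a'' * h⁻¹) := by
      rw [← hconj, map_mul (f := π) (h * a' * a), map_mul (f := π) (h * a') a, map_inv, hπa]
    have hmemR' : h * a'' * h⁻¹ ∈ R' := by
      show π (h * a'' * h⁻¹) ∈ Pb
      rw [← hπconj]; exact hq
    have hG : (h : G) * (a'' : G) * (h : G)⁻¹ ∈ A := by
      apply stronglyClosed_of_le S hA hR2 hAR (Subgroup.mem_subgroupOf.mp ha''A') (h : G)
      exact ⟨h * a'' * h⁻¹, hmemR', by simp⟩
    have hcomm : h * a'' * h⁻¹ * a''⁻¹ = 1 := by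
      have h1 : h * a'' * h⁻¹ * a''⁻¹ ∈ A' :=
        A'.mul_mem (Subgroup.mem_subgroupOf.mpr (by simpa using hG)) (A'.inv_mem ha''A')
      have h2 : h * a'' * h⁻¹ * a''⁻¹ ∈ H' := by
        have : h * a'' * h⁻¹ * a''⁻¹ = h * (a'' * h⁻¹ * a''⁻¹) := by group
        rw [this]
        exact H'.mul_mem hh (hH'n.conj_mem _ (H'.inv_mem hh) a'')
      have : h * a'' * h⁻¹ * a''⁻¹ ∈ A' ⊓ H' := ⟨h1, h2⟩
      rwa [hdisj', Subgroup.mem_bot] at this
    have heq : h * a'' * h⁻¹ = a'' := mul_inv_eq_one.mp hcomm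
    rw [hπconj, heq]
    exact hcent a' ha'
  obtain ⟨Nb, hNbn, hNbodd, hNb⟩ := hZ (K ⧸ B') Pb ab hab2 (hPb habAb) hiso
  let ι : ↥H →* K := Subgroup.inclusion hHK
  let φ : ↥H →* K ⧸ B' := π.comp ι
  have hφinj : Function.Injective φ := by
    rw [injective_iff_map_eq_one]
    intro y hy
    have h1 : ι y ∈ B' := (QuotientGroup.eq_one_iff _).mp hy
    have h2 : ι y ∈ A' ⊓ H' := ⟨h1.1, Subgroup.mem_subgroupOf.mpr y.2⟩
    rw [hdisj', Subgroup.mem_bot] at h2
    exact Subgroup.inclusion_injective hHK (by rw [h2, map_one])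
  let NH : Subgroup ↥H := Nb.comap φ
  have hNHn : NH.Normal := hNbn.comap φ
  have hNHodd : Odd (Nat.card NH) := by
    have h1 : Nat.card NH = Nat.card (NH.map φ) :=
      Nat.card_congr (NH.equivMapOfInjective φ hφinj).toEquiv
    have h2 : Nat.card (NH.map φ) ∣ Nat.card Nb :=
      Subgroup.card_dvd_of_le (Subgroup.map_comap_le φ Nb)
    rw [h1]
    exact Odd.of_dvd_nat hNbodd h2
  have hNH : NH = ⊥ := by
    have := le_oddCore_of_odd hNHn hNHodd
    rw [hO] at this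
    exact le_bot_iff.mp this
  have haC : a ∈ Subgroup.centralizer (H' : Set K) := by
    rw [Subgroup.mem_centralizer_iff]
    intro y hy
    have hcH' : a * y * a⁻¹ * y⁻¹ ∈ H' := H'.mul_mem (hH'n.conj_mem y hy a) (H'.inv_mem hy)
    have hcH : ((a * y * a⁻¹ * y⁻¹ : K) : G) ∈ H := Subgroup.mem_subgroupOf.mp hcH'
    have h1 : (⟨_, hcH⟩ : ↥H) ∈ NH := by
      show φ ⟨_, hcH⟩ ∈ Nb
      have h3 : φ ⟨_, hcH⟩ = ab * π y * ab⁻¹ * (π y)⁻¹ := by
        show π (ι ⟨_, hcH⟩) = _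
        have h4 : ι ⟨_, hcH⟩ = a * y * a⁻¹ * y⁻¹ := Subtype.ext rfl
        rw [h4, map_mul, map_mul, map_mul, map_inv, map_inv, hπa]
      rw [h3]; exact hNb (π y)
    rw [hNH, Subgroup.mem_bot] at h1
    have h2 : a * y * a⁻¹ * y⁻¹ = 1 := by
      have := congrArg (fun t : ↥H => (t : G)) h1
      exact Subtype.ext (by simpa using this)
    have h3 : a * y * a⁻¹ = y := mul_inv_eq_one.mp h2
    calc y * a = a * y * a⁻¹ * a := by rw [h3]
      _ = a * y := by group
  have haB : a ∈ B' := ⟨haA', haC⟩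
  have hone : ab = 1 := by rw [← hπa]; exact (QuotientGroup.eq_one_iff a).mpr haB
  rw [hone, orderOf_one] at hab2
  exact absurd hab2 (by norm_num)

end Cfsg.Agent.H27
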