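import Cfsg.Agent.H27.ZStarHyp
import Cfsg.Agent.H27.ZStarClosed
import Mathlib.GroupTheory.SpecificGroups.Cyclic

/-!
# The involution of a cyclic characteristic subgroup of a Sylow 2-subgroup, when Sylow
intersections are central (helper27; statement S3184 from the Z*-theorem)
-/

set_option autoImplicit false

namespace Cfsg.Agent.H27

open Cfsg

universe u

/-- A finite cyclic group has at most one element of order 2. -/
theorem cyclic_involution_unique {C : Type*} [Group C] [Finite C] [IsCyclic C] {x y : C}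
    (hx : orderOf x = 2) (hy : orderOf y = 2) : x = y := by
  classical
  haveI := Fintype.ofFinite C
  by_contra hne
  have h1 : ({1, x, y} : Finset C) ⊆ Finset.univ.filter (fun a : C => a ^ 2 = 1) := by
    intro a ha
    simp only [Finset.mem_insert, Finset.mem_singleton] at ha
    simp only [Finset.mem_filter, Finset.mem_univ, true_and]
    rcases ha with rfl | rfl | rfl
    · simp
    · rw [← hx]; exact pow_orderOf_eq_one _
    · rw [← hy]; exact pow_orderOf_eq_one _
  have h2 := Finset.card_le_card h1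
  have h3 := IsCyclic.card_pow_eq_one_le (α := C) (n := 2) (by norm_num)
  have hx1 : x ≠ 1 := by
    intro h; rw [h, orderOf_one] at hx; norm_num at hx
  have hy1 : y ≠ 1 := by
    intro h; rw [h, orderOf_one] at hy; norm_num at hy
  have h4 : ({1, x, y} : Finset C).card = 3 := by
    rw [Finset.card_insert_of_notMem, Finset.card_insert_of_notMem, Finset.card_singleton]
    · simpa using hne
    · simp [hx1.symm, hy1.symm]
  omega

/-- Conjugation by an element of the normalizer, as an automorphism of the subgroup. -/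
def normConj {G : Type*} [Group G] (S : Subgroup G) (n : G)
    (hn : n ∈ Subgroup.normalizer (S : Set G)) : ↥S ≃* ↥S where
  toFun x := ⟨n * x * n⁻¹, (Subgroup.mem_normalizer_iff.mp hn x).mp x.2⟩
  invFun x := ⟨n⁻¹ * x * n, (Subgroup.mem_normalizer_iff''.mp hn x).mp x.2⟩
  left_inv x := by ext; simp [mul_assoc]
  right_inv x := by ext; simp [mul_assoc]
  map_mul' x y := by ext; simp [mul_assoc]

section

variable {G : Type*} [Group G] [Finite G] (S : Sylow 2 G) (C : Subgroup ↥(S : Subgroup G))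
  (hCc : IsCyclic ↥C) (hCh : C.Characteristic) (c : ↥(S : Subgroup G)) (hc : c ∈ C)
  (hc2 : orderOf c = 2)

include hCc hCh hc hc2

/-- The involution of a cyclic characteristic subgroup is fixed by the normalizer. -/
theorem cc_norm_fix (n : G) (hn : n ∈ Subgroup.normalizer ((S : Subgroup G) : Set G)) :
    n * (c : G) * n⁻¹ = c := by
  let φ := normConj (S : Subgroup G) n hn
  have h1 : φ c ∈ C := by
    have := hCh.fixed φ.symm
    rw [← this, Subgroup.mem_comap]
    simpa using hc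
  have h2 : orderOf (φ c) = 2 := by rw [MulEquiv.orderOf_eq]; exact hc2
  have h3 : (⟨φ c, h1⟩ : ↥C) = ⟨c, hc⟩ :=
    cyclic_involution_unique ((Subgroup.orderOf_coe (⟨φ c, h1⟩ : ↥C)).symm.trans h2)
      ((Subgroup.orderOf_coe (⟨c, hc⟩ : ↥C)).symm.trans hc2)
  have h4 : φ c = c := congrArg Subtype.val h3
  exact congrArg Subtype.val h4

theorem cc_central (s : G) (hs : s ∈ S) : s * (c : G) = c * s := by
  have h := cc_norm_fix S C hCc hCh c hc hc2 s (Subgroup.le_normalizer hs)
  calc s * (c : G) = s * c * s⁻¹ * s := by group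
    _ = c * s := by rw [h]

/-- A conjugate of `c` centralizing `S` equals `c` (Burnside). -/
theorem cc_conj_centralizer (m : G)
    (hm : m * (c : G) * m⁻¹ ∈ Subgroup.centralizer ((S : Subgroup G) : Set G)) :
    m * (c : G) * m⁻¹ = c := by
  haveI : Fact (Nat.Prime 2) := ⟨Nat.prime_two⟩
  have hcC : (c : G) ∈ Subgroup.centralizer ((S : Subgroup G) : Set G) := by
    rw [Subgroup.mem_centralizer_iff]
    intro s hs
    exact cc_central S C hCc hCh c hc hc2 s hs
  obtain ⟨n, hn, h⟩ := S.conj_eq_normalizer_conj_of_mem_centralizer (c : G) m⁻¹ hcC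
    (by simpa using hm)
  have h2 := cc_norm_fix S C hCc hCh c hc hc2 n⁻¹ (inv_mem hn)
  simp only [inv_inv] at h h2
  rw [h, h2]

/-- A conjugate of `c` centralizing `u S u⁻¹` equals `u c u⁻¹`. -/
theorem cc_conj_centralizer' (u : G) (e : G)
    (he : ∀ s ∈ S, (u * s * u⁻¹) * e = e * (u * s * u⁻¹)) (k : G)
    (hk : e = k * (c : G) * k⁻¹) : e = u * (c : G) * u⁻¹ := by
  have h1 : (u⁻¹ * k) * (c : G) * (u⁻¹ * k)⁻¹ ∈
      Subgroup.centralizer ((S : Subgroup G) : Set G) := by
    rw [Subgroup.mem_centralizer_iff]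
    intro s hs
    have := he s hs
    rw [hk] at this
    calc s * (u⁻¹ * k * (c : G) * (u⁻¹ * k)⁻¹)
        = u⁻¹ * ((u * s * u⁻¹) * (k * (c : G) * k⁻¹)) * u := by group
      _ = u⁻¹ * ((k * (c : G) * k⁻¹) * (u * s * u⁻¹)) * u := by rw [this]
      _ = u⁻¹ * k * (c : G) * (u⁻¹ * k)⁻¹ * s := by group
  have h2 := cc_conj_centralizer S C hCc hCh c hc hc2 (u⁻¹ * k) h1
  rw [hk]
  calc k * (c : G) * k⁻¹ = u * ((u⁻¹ * k) * (c : G) * (u⁻¹ * k)⁻¹) * u⁻¹ := by group
    _ = u * (c : G) * u⁻¹ := by rw [h2]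

/-- If Sylow intersections are central in some Sylow subgroup, `c` is isolated in `S`. -/
theorem cc_isolated
    (hCI : ∀ S T : Sylow 2 G, S ≠ T → ∃ U : Sylow 2 G,
      (S : Subgroup G) ⊓ (T : Subgroup G) ≤
        (Subgroup.center ↥(U : Subgroup G)).map (U : Subgroup G).subtype)
    (g : G) (hg : g * (c : G) * g⁻¹ ∈ S) : g * (c : G) * g⁻¹ = c := by
  haveI : Fact (Nat.Prime 2) := ⟨Nat.prime_two⟩
  -- elements of `S ⊓ T` are central in some `u • S`
  have key : ∀ v : G, v • S ≠ S → ∃ u₂ : G, ∀ e : G, e ∈ S → e ∈ (v • S : Sylow 2 G) →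
      (u₂⁻¹ * e * u₂ ∈ S) ∧ ∀ s ∈ S, (u₂ * s * u₂⁻¹) * e = e * (u₂ * s * u₂⁻¹) := by
    intro v hv
    obtain ⟨U, hU⟩ := hCI S (v • S) (Ne.symm hv)
    obtain ⟨u₂, rfl⟩ := MulAction.exists_smul_eq G S U
    refine ⟨u₂, ?_⟩
    intro e heS heT
    obtain ⟨z, hz, hze⟩ := hU ⟨heS, heT⟩
    have heU : e ∈ (u₂ • S : Sylow 2 G) := by rw [← hze]; exact z.2
    refine ⟨(mem_smul_sylow_iff S u₂ e).mp heU, ?_⟩
    intro s hs
    have hw : u₂ * s * u₂⁻¹ ∈ (u₂ • S : Sylow 2 G) := by
      rw [mem_smul_sylow_iff]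
      have : u₂⁻¹ * (u₂ * s * u₂⁻¹) * u₂ = s := by group
      rw [this]; exact hs
    have h1 := Subgroup.mem_center_iff.mp hz ⟨u₂ * s * u₂⁻¹, hw⟩
    have h2 := congrArg Subtype.val h1
    rw [← hze]
    exact h2
  set d := g * (c : G) * g⁻¹ with hd
  by_cases hT : g • S = S
  · exact cc_norm_fix S C hCc hCh c hc hc2 g (Sylow.smul_eq_iff_mem_normalizer.mp hT)
  · have hdT : d ∈ (g • S : Sylow 2 G) := by
      rw [mem_smul_sylow_iff]
      have : g⁻¹ * d * g = c := by rw [hd]; group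
      rw [this]; exact c.2
    obtain ⟨u, hu⟩ := key g hT
    obtain ⟨hdU, hdc⟩ := hu d hg hdT
    let Cd : Subgroup G := Subgroup.centralizer ({d} : Set G)
    have hUCd : ((u • S : Sylow 2 G) : Subgroup G) ≤ Cd := by
      intro w hw
      have hw' : u⁻¹ * w * u ∈ S := (mem_smul_sylow_iff S u w).mp hw
      have h := hdc _ hw'
      have e1 : u * (u⁻¹ * w * u) * u⁻¹ = w := by group
      rw [e1] at h
      show w ∈ Subgroup.centralizer ({d} : Set G)
      rw [Subgroup.mem_centralizer_iff]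
      intro h' hh'
      rw [Set.mem_singleton_iff] at hh'
      rw [hh']; exact h.symm
    have hcd : d * (c : G) = c * d := cc_central S C hCc hCh c hc hc2 d hg
    have hcCd : (c : G) ∈ Cd := by
      show (c : G) ∈ Subgroup.centralizer ({d} : Set G)
      rw [Subgroup.mem_centralizer_iff]
      intro h' hh'
      rw [Set.mem_singleton_iff] at hh'
      rw [hh']; exact hcd
    have hW2 : IsPGroup 2 ↥((S : Subgroup G) ⊓ Cd) := S.isPGroup'.to_le inf_le_left
    have hW'2 : IsPGroup 2 ↥(((S : Subgroup G) ⊓ Cd).subgroupOf Cd) := hW2.comap_subtype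
    obtain ⟨V', hV'⟩ := hW'2.exists_le_sylow
    obtain ⟨y, hy⟩ := MulAction.exists_smul_eq ↥Cd ((u • S : Sylow 2 G).subtype hUCd) V'
    have hcV' : (⟨(c : G), hcCd⟩ : ↥Cd) ∈ V' :=
      hV' (Subgroup.mem_subgroupOf.mpr ⟨c.2, hcCd⟩)
    rw [← hy, Sylow.smul_subtype] at hcV'
    have hcV : (c : G) ∈ ((y : G) • (u • S) : Sylow 2 G) := by
      have h1 : (⟨(c : G), hcCd⟩ : ↥Cd) ∈
          (((y • (u • S) : Sylow 2 G).subtype (Sylow.smul_le hUCd y) : Sylow 2 ↥Cd) :
            Subgroup ↥Cd) := hcV'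
      rw [Sylow.coe_subtype, Subgroup.mem_subgroupOf] at h1
      exact h1
    have hyd : (y : G) * d = d * (y : G) := by
      have h1 : (y : G) ∈ Subgroup.centralizer ({d} : Set G) := y.2
      rw [Subgroup.mem_centralizer_iff] at h1
      exact (h1 d (Set.mem_singleton d)).symm
    set v : G := (y : G) * u with hv
    have hvS : ((y : G) • (u • S) : Sylow 2 G) = v • S := by rw [hv, mul_smul]
    rw [hvS] at hcV
    -- `d` lies in `v • S` and commutes with it
    have hdV : d ∈ (v • S : Sylow 2 G) := by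
      rw [mem_smul_sylow_iff]
      have : v⁻¹ * d * v = u⁻¹ * d * u := by
        rw [hv]
        calc ((y : G) * u)⁻¹ * d * ((y : G) * u) = u⁻¹ * ((y : G)⁻¹ * (d * (y : G))) * u := by group
          _ = u⁻¹ * ((y : G)⁻¹ * ((y : G) * d)) * u := by rw [hyd]
          _ = u⁻¹ * d * u := by group
      rw [this]; exact hdU
    have hdcV : ∀ s ∈ S, (v * s * v⁻¹) * d = d * (v * s * v⁻¹) := by
      intro s hs
      have h := hdc s hs
      rw [hv]
      calc (y : G) * u * s * ((y : G) * u)⁻¹ * d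
          = (y : G) * (u * s * u⁻¹) * ((y : G)⁻¹ * d) := by group
        _ = (y : G) * (u * s * u⁻¹) * (d * (y : G)⁻¹) := by
            have : (y : G)⁻¹ * d = d * (y : G)⁻¹ := by
              calc (y : G)⁻¹ * d = (y : G)⁻¹ * (d * (y : G)) * (y : G)⁻¹ := by group
                _ = (y : G)⁻¹ * ((y : G) * d) * (y : G)⁻¹ := by rw [hyd]
                _ = d * (y : G)⁻¹ := by group
            rw [this]
        _ = (y : G) * ((u * s * u⁻¹) * d) * (y : G)⁻¹ := by group
        _ = (y : G) * (d * (u * s * u⁻¹)) * (y : G)⁻¹ := by rw [h]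
        _ = ((y : G) * d) * (u * s * u⁻¹) * (y : G)⁻¹ := by group
        _ = (d * (y : G)) * (u * s * u⁻¹) * (y : G)⁻¹ := by rw [hyd]
        _ = d * ((y : G) * u * s * ((y : G) * u)⁻¹) := by group
    by_cases hV : v • S = S
    · -- `d` centralizes `S`
      apply cc_conj_centralizer S C hCc hCh c hc hc2 g
      rw [Subgroup.mem_centralizer_iff]
      intro s hs
      have hs' : s ∈ (v • S : Sylow 2 G) := by rw [hV]; exact hs
      have hs'' : v⁻¹ * s * v ∈ S := (mem_smul_sylow_iff S v s).mp hs'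
      have h := hdcV _ hs''
      have e1 : v * (v⁻¹ * s * v) * v⁻¹ = s := by group
      rw [e1] at h
      exact h
    · obtain ⟨u₂, hu₂⟩ := key v hV
      have h1 := (hu₂ (c : G) c.2 hcV).2
      have h2 := (hu₂ d hg hdV).2
      have e1 : (c : G) = u₂ * (c : G) * u₂⁻¹ :=
        cc_conj_centralizer' S C hCc hCh c hc hc2 u₂ (c : G) h1 1 (by group)
      have e2 : d = u₂ * (c : G) * u₂⁻¹ :=
        cc_conj_centralizer' S C hCc hCh c hc hc2 u₂ d h2 g hd
      rw [e2, ← e1]

end

/-- **S3184 from Z\***. -/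
theorem cyclic_char_involution (hZ : ZStarAt.{u}) {G : Type u} [Group G] [Finite G]
    (hCI : ∀ S T : Sylow 2 G, S ≠ T → ∃ U : Sylow 2 G,
      (S : Subgroup G) ⊓ (T : Subgroup G) ≤
        (Subgroup.center ↥(U : Subgroup G)).map (U : Subgroup G).subtype)
    (S : Sylow 2 G) (C : Subgroup ↥(S : Subgroup G)) (hCc : IsCyclic ↥C)
    (hCh : C.Characteristic) (c : ↥(S : Subgroup G)) (hc : c ∈ C) (hc2 : orderOf c = 2) :
    ∀ g : G, (QuotientGroup.mk (s := Cfsg.oddCore G) (g * (c : G) * g⁻¹)) =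
      QuotientGroup.mk (s := Cfsg.oddCore G) (c : G) := by
  intro g
  have hcG : orderOf (c : G) = 2 := by rw [Subgroup.orderOf_coe]; exact hc2
  have h := hZ.mem_oddCore S (c : G) hcG c.2
    (fun g hg => cc_isolated S C hCc hCh c hc hc2 hCI g hg) g
  have hcc : (c : G) * (c : G) = 1 := by
    have := pow_orderOf_eq_one (c : G)
    rw [hcG, pow_two] at this; exact this
  have hci : (c : G)⁻¹ = c := inv_eq_of_mul_eq_one_left hcc
  rw [QuotientGroup.eq]
  have e : (g * (c : G) * g⁻¹)⁻¹ * (c : G) = ((c : G) * g * (c : G)⁻¹ * g⁻¹)⁻¹ := by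
    simp only [mul_inv_rev, inv_inv, hci, mul_assoc]
  rw [e]
  exact inv_mem h

end Cfsg.Agent.H27
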