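import Cfsg.Agent.H27.ZStarHyp
import Cfsg.Agent.H11.Four

/-!
# Z* for groups of 2-rank one (helper27): statement S0225 from the Z*-theorem
-/

set_option autoImplicit false

namespace Cfsg.Agent.H27

open Cfsg

universe u

/-- A group of even order without Klein four-subgroups has an involution that is central modulo
a normal subgroup of odd order (given the Z*-theorem). -/
theorem rank_one_of_zstar (hZ : ZStarAt.{u}) {G : Type u} [Group G] [Finite G]
    (heven : Even (Nat.card G)) (hrank : ∀ E : Subgroup G, ¬ IsKleinFour E) :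
    ∃ z : G, orderOf z = 2 ∧ ∃ N : Subgroup G, N.Normal ∧ Odd (Nat.card N) ∧
      ∀ g : G, z * g * z⁻¹ * g⁻¹ ∈ N := by
  haveI : Fact (Nat.Prime 2) := ⟨Nat.prime_two⟩
  let P : Sylow 2 G := default
  have h2 : 2 ∣ Nat.card G := even_iff_two_dvd.mp heven
  have hPne : (P : Subgroup G) ≠ ⊥ := P.ne_bot_of_dvd_card h2
  haveI : Nontrivial ↥(P : Subgroup G) := (Subgroup.nontrivial_iff_ne_bot _).mpr hPne
  haveI : Nontrivial (Subgroup.center ↥(P : Subgroup G)) := (P.isPGroup').center_nontrivial
  have hcP : IsPGroup 2 (Subgroup.center ↥(P : Subgroup G)) :=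
    (P.isPGroup').to_subgroup _
  have h2c : 2 ∣ Nat.card (Subgroup.center ↥(P : Subgroup G)) := by
    rcases hcP.card_eq_or_dvd with h | h
    · exact absurd h (ne_of_gt Finite.one_lt_card)
    · exact h
  obtain ⟨z₀, hz₀⟩ := exists_prime_orderOf_dvd_card' 2 h2c
  set z : G := ((z₀ : ↥(P : Subgroup G)) : G) with hzdef
  have hz : orderOf z = 2 := by
    rw [hzdef, Subgroup.orderOf_coe, Subgroup.orderOf_coe]; exact hz₀
  have hzP : z ∈ P := (z₀ : ↥(P : Subgroup G)).2
  have hzz : z * z = 1 := by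
    have := pow_orderOf_eq_one z
    rw [hz, pow_two] at this; exact this
  have hz1 : z ≠ 1 := by
    intro h
    rw [h, orderOf_one] at hz
    exact absurd hz (by norm_num)
  refine ⟨z, hz, ?_⟩
  apply hZ G P z hz hzP
  intro g hw
  by_contra hne
  have hww : g * z * g⁻¹ * (g * z * g⁻¹) = 1 := by
    calc g * z * g⁻¹ * (g * z * g⁻¹) = g * (z * z) * g⁻¹ := by group
      _ = 1 := by rw [hzz]; group
  have hw1 : g * z * g⁻¹ ≠ 1 := by
    intro h
    apply hz1
    have : z = g⁻¹ * (g * z * g⁻¹) * g := by group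
    rw [this, h]; group
  have hcomm : z * (g * z * g⁻¹) = g * z * g⁻¹ * z := by
    have h1 := Subgroup.mem_center_iff.mp z₀.2 ⟨g * z * g⁻¹, hw⟩
    have h2 := congrArg (Subtype.val) h1
    simp only [Subgroup.coe_mul] at h2
    exact h2.symm
  exact hrank _ (Cfsg.Agent.H11.fourSub_isKleinFour z (g * z * g⁻¹) hzz hww hcomm hz1 hw1
    (fun h => hne h.symm))

end Cfsg.Agent.H27
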