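import Mathlib
import Cfsg.Agent.H72.ZasDefs

/-!
# helper27: S0690-CA1 (`StCa1`), the normalizer of `⟨t⟩` when the Sylow 2-subgroups are `Q₈`
-/

set_option autoImplicit false

namespace Cfsg.Agent.H27.Zas

open Cfsg.Agent.H72.Zas

universe u

theorem q8_pow_four : ∀ y : QuaternionGroup 2, y ^ 4 = 1 := by
  decide

theorem orderOf_sq_of_four {G : Type u} [Group G] {g : G} (hg : orderOf g = 4) :
    orderOf (g * g) = 2 := by
  have h := orderOf_pow' g (n := 2) (by norm_num)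
  rw [hg] at h
  rw [← pow_two, h]
  rfl

section

variable {G : Type u} [Group G] [Finite G]

/-- 2-elements have exponent 4 when the Sylow 2-subgroups are `Q₈` -/
theorem pow_four_of_two_elt (S : Sylow 2 G) (hS : Nonempty (S ≃* QuaternionGroup 2)) {d : G}
    {a : ℕ} (hd : d ^ 2 ^ a = 1) : d ^ 4 = 1 := by
  obtain ⟨e⟩ := hS
  have hp : IsPGroup 2 (Subgroup.zpowers d) := by
    rintro ⟨y, hy⟩
    obtain ⟨i, rfl⟩ := Subgroup.mem_zpowers_iff.1 hy
    refine ⟨a, Subtype.ext ?_⟩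
    show (d ^ i) ^ 2 ^ a = 1
    rw [← zpow_natCast, ← zpow_mul, mul_comm, zpow_mul, zpow_natCast, hd, one_zpow]
  obtain ⟨Q, hQ⟩ := hp.exists_le_sylow
  have hdQ : d ∈ Q := hQ (Subgroup.mem_zpowers d)
  let f : Q ≃* QuaternionGroup 2 := (Sylow.equiv Q S).trans e
  have h1 : f ⟨d, hdQ⟩ ^ 4 = 1 := q8_pow_four _
  rw [← map_pow] at h1
  have h2 : (⟨d, hdQ⟩ : Q) ^ 4 = 1 := f.injective (h1.trans (map_one f).symm)
  exact congrArg Subtype.val h2

/-- an element centralizing `t` is a power of `t` times an element of odd order -/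
theorem cent_decomp (hZ : ZasAx G) (S : Sylow 2 G) (hS : Nonempty (S ≃* QuaternionGroup 2))
    {t : G} (ht : orderOf t = 4) {c : G} (hc : c * t = t * c) :
    ∃ (i : ℕ) (k : G), c = t ^ i * k ∧ Odd (orderOf k) ∧ k * t = t * k := by
  have hct : Commute c t := hc
  have hc0 : orderOf c ≠ 0 := (orderOf_pos c).ne'
  obtain ⟨a, m, hm, hcm⟩ := Nat.exists_eq_two_pow_mul_odd hc0
  have hd2 : (c ^ m) ^ 2 ^ a = 1 := by
    rw [← pow_mul, mul_comm, ← hcm, pow_orderOf_eq_one]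
  have hd4 : (c ^ m) ^ 4 = 1 := pow_four_of_two_elt S hS hd2
  have hdt : Commute (c ^ m) t := hct.pow_left m
  have ht4 : t ^ 4 = 1 := by rw [← ht, pow_orderOf_eq_one]
  have htt : orderOf (t * t) = 2 := orderOf_sq_of_four ht
  have hdj : ∃ j : ℕ, c ^ m = t ^ j := by
    have hdvd : orderOf (c ^ m) ∣ 4 := orderOf_dvd_of_pow_eq_one hd4
    have hcases : orderOf (c ^ m) = 1 ∨ orderOf (c ^ m) = 2 ∨ orderOf (c ^ m) = 4 := by
      have h1 : orderOf (c ^ m) ∈ Nat.divisors 4 := Nat.mem_divisors.2 ⟨hdvd, by norm_num⟩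
      have h4 : Nat.divisors 4 = {1, 2, 4} := by decide
      rw [h4] at h1
      simpa using h1
    rcases hcases with h | h | h
    · exact ⟨0, by rw [pow_zero]; exact orderOf_eq_one_iff.1 h⟩
    · exact ⟨2, by rw [pow_two]; exact hZ.invol _ (t * t) h htt⟩
    · have hdd : orderOf (c ^ m * c ^ m) = 2 := orderOf_sq_of_four h
      have e1 : c ^ m * c ^ m = t * t := hZ.invol _ _ hdd htt
      have e2 : (c ^ m * t⁻¹) * (c ^ m * t⁻¹) = 1 := by
        have hdt' : Commute (c ^ m) t⁻¹ := hdt.inv_right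
        calc (c ^ m * t⁻¹) * (c ^ m * t⁻¹) = c ^ m * (t⁻¹ * c ^ m) * t⁻¹ := by group
          _ = c ^ m * (c ^ m * t⁻¹) * t⁻¹ := by rw [hdt'.eq]
          _ = (c ^ m * c ^ m) * t⁻¹ * t⁻¹ := by group
          _ = 1 := by rw [e1]; group
      by_cases h1 : c ^ m * t⁻¹ = 1
      · exact ⟨1, by rw [pow_one]; exact mul_inv_eq_one.1 h1⟩
      · have h2 : orderOf (c ^ m * t⁻¹) = 2 :=
          orderOf_eq_prime (by rw [pow_two]; exact e2) h1
        have e3 : c ^ m * t⁻¹ = t * t := hZ.invol _ _ h2 htt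
        refine ⟨3, ?_⟩
        calc c ^ m = (c ^ m * t⁻¹) * t := by group
          _ = t ^ 3 := by rw [e3, pow_succ, pow_two]
  obtain ⟨j, hj⟩ := hdj
  obtain ⟨r, hr⟩ := hm
  have hqm : (t ^ (j * m)) ^ m = c ^ m := by
    rw [hj, ← pow_mul]
    have e : j * m * m = j + 4 * (j * r * (r + 1)) := by rw [hr]; ring
    rw [e, pow_add, pow_mul, ht4, one_pow, mul_one]
  have hqc : Commute (t ^ (j * m))⁻¹ c := (hct.symm.pow_left (j * m)).inv_left
  refine ⟨j * m, (t ^ (j * m))⁻¹ * c, by group, ?_, ?_⟩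
  · have hk : ((t ^ (j * m))⁻¹ * c) ^ m = 1 := by
      rw [hqc.mul_pow, inv_pow, hqm, inv_mul_cancel]
    exact Odd.of_dvd_nat ⟨r, hr⟩ (orderOf_dvd_of_pow_eq_one hk)
  · exact (((Commute.refl t).pow_left (j * m)).inv_left.mul_left hct).eq

/-- an element of odd order centralizing `t` centralizes `s` -/
theorem comm_s_of_odd (hZ : ZasAx G) (S : Sylow 2 G) (hS : Nonempty (S ≃* QuaternionGroup 2))
    {t s x : G} (hF : Frame t s x) {k : G} (hk : Odd (orderOf k)) (hkt : k * t = t * k) :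
    k * s = s * k := by
  have ht := hF.ot
  have ht4 : t ^ 4 = 1 := by rw [← ht, pow_orderOf_eq_one]
  have hss : s * s = t * t :=
    hZ.invol _ _ (orderOf_sq_of_four hF.os) (orderOf_sq_of_four hF.ot)
  have hinv : s * t * s⁻¹ = t⁻¹ := hF.inv
  have hinv' : s⁻¹ * t * s = t⁻¹ := by
    have e : t = s⁻¹ * t⁻¹ * s := by rw [← hinv]; group
    calc s⁻¹ * t * s = (s⁻¹ * t⁻¹ * s)⁻¹ := by group
      _ = t⁻¹ := by rw [← e]
  have hkt' : Commute k t := hkt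
  have h1 : Commute (s * k * s⁻¹) t := by
    show s * k * s⁻¹ * t = t * (s * k * s⁻¹)
    calc s * k * s⁻¹ * t = s * k * (s⁻¹ * t * s) * s⁻¹ := by group
      _ = s * (k * t⁻¹) * s⁻¹ := by rw [hinv']; group
      _ = s * (t⁻¹ * k) * s⁻¹ := by rw [(hkt'.inv_right).eq]
      _ = (s * t * s⁻¹)⁻¹ * (s * k * s⁻¹) := by group
      _ = t * (s * k * s⁻¹) := by rw [hinv, inv_inv]
  have hut : k⁻¹ * (s * k * s⁻¹) * t = t * (k⁻¹ * (s * k * s⁻¹)) :=
    (hkt'.inv_left.mul_left h1).eq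
  have hkz : Commute k (s * s) := by rw [hss]; exact hkt'.mul_right hkt'
  have hsu : s * (k⁻¹ * (s * k * s⁻¹)) * s⁻¹ = (k⁻¹ * (s * k * s⁻¹))⁻¹ := by
    calc s * (k⁻¹ * (s * k * s⁻¹)) * s⁻¹
        = (s * k * s⁻¹)⁻¹ * ((s * s) * k * (s * s)⁻¹) := by group
      _ = (s * k * s⁻¹)⁻¹ * (k * (s * s) * (s * s)⁻¹) := by rw [hkz.eq]
      _ = (k⁻¹ * (s * k * s⁻¹))⁻¹ := by group
  obtain ⟨i, k', hk'u, hk'odd, hk't⟩ := cent_decomp hZ S hS ht hut
  have hk'def : k' = (t ^ i)⁻¹ * (k⁻¹ * (s * k * s⁻¹)) := by rw [hk'u]; group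
  have hsq : s * t ^ i * s⁻¹ = (t ^ i)⁻¹ := by rw [← conj_pow, hinv, inv_pow]
  have huq : Commute (k⁻¹ * (s * k * s⁻¹)) (t ^ i) :=
    (show Commute (k⁻¹ * (s * k * s⁻¹)) t from hut).pow_right i
  have hsk' : s * k' * s⁻¹ = k'⁻¹ := by
    rw [hk'def]
    calc s * ((t ^ i)⁻¹ * (k⁻¹ * (s * k * s⁻¹))) * s⁻¹
        = (s * t ^ i * s⁻¹)⁻¹ * (s * (k⁻¹ * (s * k * s⁻¹)) * s⁻¹) := by group
      _ = t ^ i * (k⁻¹ * (s * k * s⁻¹))⁻¹ := by rw [hsq, hsu, inv_inv]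
      _ = (k⁻¹ * (s * k * s⁻¹))⁻¹ * t ^ i := (huq.inv_left.eq).symm
      _ = ((t ^ i)⁻¹ * (k⁻¹ * (s * k * s⁻¹)))⁻¹ := by group
  have hk'1 : k' = 1 := hZ.u2 t s x k' hF hk'odd hk't hsk'
  have hui : k⁻¹ * (s * k * s⁻¹) = t ^ i := by rw [hk'u, hk'1, mul_one]
  have hconj : s * k * s⁻¹ = k * t ^ i := by rw [← hui]; group
  have hn : (k * t ^ i) ^ orderOf k = 1 := by
    rw [← hconj, conj_pow, pow_orderOf_eq_one]; group
  have hkti : Commute k (t ^ i) := hkt'.pow_right i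
  rw [hkti.mul_pow, pow_orderOf_eq_one, one_mul] at hn
  have h4 : (t ^ i) ^ 4 = 1 := by rw [← pow_mul, mul_comm, pow_mul, ht4, one_pow]
  have hg : (t ^ i) ^ Nat.gcd (orderOf k) 4 = 1 := pow_gcd_eq_one.2 ⟨hn, h4⟩
  have hgcd : Nat.gcd (orderOf k) 4 = 1 := by
    have h2 : Nat.Coprime (orderOf k) 2 := Nat.coprime_two_right.2 hk
    have h3 : Nat.Coprime (orderOf k) (2 ^ 2) := Nat.Coprime.pow_right 2 h2
    exact h3
  rw [hgcd, pow_one] at hg
  rw [hg, mul_one] at hconj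
  calc k * s = (s * k * s⁻¹) * s := by rw [hconj]
    _ = s * k := by group

/-- **S0690-CA1** -/
theorem stCa1 : StCa1.{u} := by
  intro G _ _ hZ S hS t s x hF g hg
  have hinv := hF.inv
  rcases hg with h | h
  · have hc : g * t = t * g := by
      calc g * t = g * t * g⁻¹ * g := by group
        _ = t * g := by rw [h]
    obtain ⟨i, k, hgk, hkodd, hkt⟩ := cent_decomp hZ S hS hF.ot hc
    exact ⟨t ^ i, k, hgk, Subgroup.pow_mem _ (Subgroup.subset_closure (by simp)) i, hkodd, hkt,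
      comm_s_of_odd hZ S hS hF hkodd hkt⟩
  · have hc : (s⁻¹ * g) * t = t * (s⁻¹ * g) := by
      have h' : s⁻¹ * t⁻¹ * s = t := by
        have e : t⁻¹ = s * t * s⁻¹ := hinv.symm
        rw [e]; group
      calc s⁻¹ * g * t = s⁻¹ * (g * t * g⁻¹) * g := by group
        _ = s⁻¹ * t⁻¹ * g := by rw [h]
        _ = (s⁻¹ * t⁻¹ * s) * (s⁻¹ * g) := by group
        _ = t * (s⁻¹ * g) := by rw [h']
    obtain ⟨i, k, hgk, hkodd, hkt⟩ := cent_decomp hZ S hS hF.ot hc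
    refine ⟨s * t ^ i, k, ?_, ?_, hkodd, hkt, comm_s_of_odd hZ S hS hF hkodd hkt⟩
    · calc g = s * (s⁻¹ * g) := by group
        _ = s * (t ^ i * k) := by rw [hgk]
        _ = s * t ^ i * k := by group
    · exact Subgroup.mul_mem _ (Subgroup.subset_closure (by simp))
        (Subgroup.pow_mem _ (Subgroup.subset_closure (by simp)) i)

end

end Cfsg.Agent.H27.Zas
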